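import Cfsg.Agent.Lib.Signalizer.SSFT.Good
import Cfsg.Agent.Lib.Coprime.Factorization
import Mathlib.Algebra.Group.Pointwise.Set.Card

/-!
# The product of three cyclically normalising subgroups of prime power order

* `commute_of_inf_eq_bot`, `inf_eq_bot_of_isPGroup`
* `Cyc`: the hypothesis; `Cyc.rotate`, `Cyc.isSolvable`, `Cyc.core_le`, `Cyc.core_le_centralizer`,
  `Cyc.core_eq_bot`, `Cyc.mem_core`
-/

set_option autoImplicit false
set_option linter.unusedSectionVars false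

namespace Cfsg.Agent.Signalizer

open Subgroup LocalCharP
open scoped commutatorElement Pointwise

variable {G : Type*} [Group G]

/-- Two subgroups normalising each other with trivial meet commute. -/
theorem commute_of_inf_eq_bot {X Y : Subgroup G} (hXY : X ≤ normalizer (Y : Set G))
    (hYX : Y ≤ normalizer (X : Set G)) (h : X ⊓ Y = ⊥) : X ≤ centralizer (Y : Set G) := by
  rw [← commutator_eq_bot_iff_le_centralizer, ← le_bot_iff, ← h]
  exact le_inf (Subgroup.le_normalizer_iff_commutator_le_left.1 hYX)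
    (Subgroup.le_normalizer_iff_commutator_le_right.1 hXY)

theorem inf_eq_bot_of_isPGroup [Finite G] {q r : ℕ} [hq : Fact q.Prime] [hr : Fact r.Prime]
    (hqr : q ≠ r) {X Y : Subgroup G} (hX : IsPGroup q X) (hY : IsPGroup r Y) : X ⊓ Y = ⊥ := by
  obtain ⟨i, hi⟩ := IsPGroup.iff_card.mp hX
  obtain ⟨j, hj⟩ := IsPGroup.iff_card.mp hY
  exact Coprime.inf_eq_bot (by
    rw [hi, hj]; exact Nat.Coprime.pow i j ((Nat.coprime_primes hq.out hr.out).2 hqr))

/-- Three subgroups of orders powers of distinct primes, each normalising the next. -/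
structure Cyc (q r t : ℕ) (P S R : Subgroup G) : Prop where
  qr : q ≠ r
  rt : r ≠ t
  tq : t ≠ q
  hP : IsPGroup q P
  hS : IsPGroup r S
  hR : IsPGroup t R
  nPS : P ≤ normalizer (S : Set G)
  nSR : S ≤ normalizer (R : Set G)
  nRP : R ≤ normalizer (P : Set G)

namespace Cyc

variable {q r t : ℕ} {P S R : Subgroup G}

theorem rotate (c : Cyc q r t P S R) : Cyc r t q S R P :=
  ⟨c.rt, c.tq, c.qr, c.hS, c.hR, c.hP, c.nSR, c.nRP, c.nPS⟩

theorem sup_rotate (P S R : Subgroup G) : S ⊔ R ⊔ P = P ⊔ S ⊔ R := by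
  rw [sup_comm (S ⊔ R) P, sup_assoc]

variable [Finite G] [Fact q.Prime] [Fact r.Prime] [Fact t.Prime]

theorem card_mul (c : Cyc q r t P S R) :
    Nat.card ↥(P ⊔ S ⊔ R) = Nat.card ↥(P ⊔ S) * Nat.card R ∧
      Nat.card ↥(P ⊔ S) = Nat.card P * Nat.card S := by
  have h2 : Nat.card ↥(P ⊔ S) = Nat.card P * Nat.card S := by
    obtain ⟨i, hi⟩ := IsPGroup.iff_card.mp c.hP
    obtain ⟨j, hj⟩ := IsPGroup.iff_card.mp c.hS
    rw [sup_comm, Coprime.card_sup_of_coprime c.nPS (by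
      rw [hi, hj]
      exact Nat.Coprime.pow j i ((Nat.coprime_primes Fact.out Fact.out).2 c.qr.symm)), mul_comm]
  refine ⟨?_, h2⟩
  have h := Coprime.card_mul_inf (P ⊔ S) R
  have hbot : (P ⊔ S) ⊓ R = ⊥ := by
    refine Coprime.inf_eq_bot ?_
    obtain ⟨i, hi⟩ := IsPGroup.iff_card.mp c.hP
    obtain ⟨j, hj⟩ := IsPGroup.iff_card.mp c.hS
    obtain ⟨k, hk⟩ := IsPGroup.iff_card.mp c.hR
    rw [h2, hi, hj, hk]
    exact Nat.Coprime.mul_left
      (Nat.Coprime.pow i k ((Nat.coprime_primes Fact.out Fact.out).2 c.tq.symm))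
      (Nat.Coprime.pow j k ((Nat.coprime_primes Fact.out Fact.out).2 c.rt))
  have hc : ((P ⊔ S ⊔ R : Subgroup G) : Set G) = ((P ⊔ S : Subgroup G) : Set G) * (R : Set G) := by
    rw [coe_triple c.nPS c.nSR c.nRP, coe_mul_of_left_le_normalizer_right P S c.nPS]
  rw [hbot, Subgroup.card_bot, mul_one] at h
  rw [← h, ← hc]
  rfl

theorem index_dvd (c : Cyc q r t P S R) :
    ((P ⊔ S).subgroupOf (P ⊔ S ⊔ R)).index = Nat.card R := by
  have h1 := relIndex_mul_relIndex ⊥ (P ⊔ S) (P ⊔ S ⊔ R) bot_le le_sup_left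
  rw [relIndex_bot_left, relIndex_bot_left, c.card_mul.1] at h1
  exact Nat.eq_of_mul_eq_mul_left Nat.card_pos h1

theorem isSolvable (c : Cyc q r t P S R) : Group.IsSolvable ↥(P ⊔ S ⊔ R) := by
  set Y := P ⊔ S ⊔ R with hY
  have hs : ∀ {q r : ℕ} [Fact q.Prime] [Fact r.Prime] {X Z : Subgroup G}, IsPGroup q X →
      IsPGroup r Z → Z ≤ normalizer (X : Set G) → X ⊔ Z ≤ Y →
      Group.IsSolvable ↥((X ⊔ Z).subgroupOf Y) := by
    intro q r _ _ X Z hX hZ hn hle
    haveI := isSolvable_sup (Coprime.isSolvable_of_isPGroup hX) (Coprime.isSolvable_of_isPGroup hZ) hn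
    exact Group.isSolvable_of_isSolvable_injective (f := (subgroupOfEquivOfLe hle).toMonoidHom)
      (subgroupOfEquivOfLe hle).injective
  have hs1 := hs c.hS c.hP c.nPS (by rw [sup_comm]; exact le_sup_left)
  have hs2 := hs c.hR c.hS c.nSR (sup_le le_sup_right (le_sup_right.trans le_sup_left))
  have hs3 := hs c.hP c.hR c.nRP (sup_le (le_sup_left.trans le_sup_left) le_sup_right)
  have i1 : ((S ⊔ P).subgroupOf Y).index = Nat.card R := by rw [sup_comm]; exact c.index_dvd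
  have i2 : ((R ⊔ S).subgroupOf Y).index = Nat.card P := by
    rw [sup_comm R S, hY, ← sup_rotate]; exact c.rotate.index_dvd
  have i3 : ((P ⊔ R).subgroupOf Y).index = Nat.card S := by
    rw [sup_comm P R, hY, ← sup_rotate, ← sup_rotate]; exact c.rotate.rotate.index_dvd
  obtain ⟨i, hi⟩ := IsPGroup.iff_card.mp c.hP
  obtain ⟨j, hj⟩ := IsPGroup.iff_card.mp c.hS
  obtain ⟨k, hk⟩ := IsPGroup.iff_card.mp c.hR
  refine Solvable.isSolvable_of_three_coprime_index hs1 hs2 hs3 ?_ ?_ ?_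
  · rw [i1, i2, hk, hi]
    exact Nat.Coprime.pow k i ((Nat.coprime_primes Fact.out Fact.out).2 c.tq)
  · rw [i1, i3, hk, hj]
    exact Nat.Coprime.pow k j ((Nat.coprime_primes Fact.out Fact.out).2 c.rt.symm)
  · rw [i2, i3, hi, hj]
    exact Nat.Coprime.pow i j ((Nat.coprime_primes Fact.out Fact.out).2 c.qr)

/-- The `q`-core lies in the `q`-factor. -/
theorem core_le (c : Cyc q r t P S R) : pCoreIn q (P ⊔ S ⊔ R) ≤ P := by
  set Y := P ⊔ S ⊔ R with hY
  have hPY : P ≤ Y := le_sup_left.trans le_sup_left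
  have hn : P ≤ normalizer (pCoreIn q Y : Set G) := hPY.trans (le_normalizer_pCoreIn q Y)
  have hq := c.hP.to_sup_of_normal_right' (isPGroup_pCoreIn q Y) hn
  have hle : P ⊔ pCoreIn q Y ≤ Y := sup_le hPY (pCoreIn_le q Y)
  have hdvd := Subgroup.card_dvd_of_le hle
  obtain ⟨m, hm⟩ := IsPGroup.iff_card.mp hq
  obtain ⟨j, hj⟩ := IsPGroup.iff_card.mp c.hS
  obtain ⟨k, hk⟩ := IsPGroup.iff_card.mp c.hR
  rw [c.card_mul.1, c.card_mul.2, hm, hj, hk, mul_assoc] at hdvd
  have hd : q ^ m ∣ Nat.card P := by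
    refine (Nat.Coprime.mul_right (Nat.Coprime.pow m j ?_) (Nat.Coprime.pow m k ?_)).dvd_of_dvd_mul_right hdvd
    · exact (Nat.coprime_primes Fact.out Fact.out).2 c.qr
    · exact (Nat.coprime_primes Fact.out Fact.out).2 c.tq.symm
  have : P ⊔ pCoreIn q Y = P := (Subgroup.eq_of_le_of_card_ge le_sup_left
    (by rw [hm]; exact Nat.le_of_dvd Nat.card_pos hd)).symm
  exact this ▸ le_sup_right

theorem core_le_centralizer (c : Cyc q r t P S R) :
    pCoreIn q (P ⊔ S ⊔ R) ≤ centralizer (S : Set G) :=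
  commute_of_inf_eq_bot (c.core_le.trans c.nPS)
    ((le_sup_right.trans le_sup_left).trans (le_normalizer_pCoreIn q _))
    (inf_eq_bot_of_isPGroup c.qr (isPGroup_pCoreIn q _) c.hS)

theorem core_eq_bot (c : Cyc q r t P S R) (h : P ⊓ centralizer (S : Set G) = ⊥) :
    pCoreIn q (P ⊔ S ⊔ R) = ⊥ :=
  le_bot_iff.1 (h ▸ le_inf c.core_le c.core_le_centralizer)

/-- An element of `P` centralising all three cores lies in the `q`-core. -/
theorem mem_core (c : Cyc q r t P S R) {x : G} (hx : x ∈ P)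
    (hq : x ∈ centralizer (pCoreIn q (P ⊔ S ⊔ R) : Set G))
    (hr : x ∈ centralizer (pCoreIn r (P ⊔ S ⊔ R) : Set G))
    (ht : x ∈ centralizer (pCoreIn t (P ⊔ S ⊔ R) : Set G)) :
    x ∈ pCoreIn q (P ⊔ S ⊔ R) := by
  obtain ⟨n, hn⟩ := c.hP ⟨x, hx⟩
  refine mem_pCoreIn_of_centralizes c.isSolvable (mem_sup_left (mem_sup_left hx)) (n := n)
    (by simpa using congrArg Subtype.val hn) fun s hs hd => ?_
  rw [c.card_mul.1, c.card_mul.2] at hd
  obtain ⟨i, hi⟩ := IsPGroup.iff_card.mp c.hP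
  obtain ⟨j, hj⟩ := IsPGroup.iff_card.mp c.hS
  obtain ⟨k, hk⟩ := IsPGroup.iff_card.mp c.hR
  rw [hi, hj, hk] at hd
  rcases hs.dvd_mul.1 hd with hd | hd
  · rcases hs.dvd_mul.1 hd with hd | hd
    · rwa [(Nat.prime_dvd_prime_iff_eq hs Fact.out).1 (hs.dvd_of_dvd_pow hd)]
    · rwa [(Nat.prime_dvd_prime_iff_eq hs Fact.out).1 (hs.dvd_of_dvd_pow hd)]
  · rwa [(Nat.prime_dvd_prime_iff_eq hs Fact.out).1 (hs.dvd_of_dvd_pow hd)]

end Cyc

end Cfsg.Agent.Signalizer
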