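import Cfsg.Agent.Lib.Signalizer.SSFT.Common
import Cfsg.Agent.Lib.Signalizer.SSFT.Triple

/-!
# No counterexample with at least three primes

`Dq q` is the greatest good `q`-subgroup.

* `Counter.pair_good`, `Counter.Dq_eq`, `Counter.star`, `Counter.exists_Dq_ne_bot`
* `Counter.conj_mem_centralizer`, `Counter.inf_core_le`, `Counter.pure`, `Counter.exists_point_centralizing`
* `Counter.false_of_many`
-/

set_option autoImplicit false
set_option linter.unusedSectionVars false

namespace Cfsg.Agent.Signalizer.SSFT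

open Subgroup LocalCharP
open scoped commutatorElement

universe u

variable {G : Type u} [Group G] {p : ℕ} {A : Subgroup G} {θ : G → Subgroup G}

/-- The largest `v'`-member invariant under `θ(C(A))`. -/
def coMem (A : Subgroup G) (θ : G → Subgroup G) (v : ℕ) : Subgroup G :=
  piMem {r : ℕ | r ≠ v} A θ

/-- The `q`-core of the largest `v'`-member. -/
def coCore (A : Subgroup G) (θ : G → Subgroup G) (v q : ℕ) : Subgroup G :=
  pCoreIn q (coMem A θ v)

/-- The intersection of the `q`-cores of all the `v'`-members, `v ≠ q`. -/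
def Dq (A : Subgroup G) (θ : G → Subgroup G) (q : ℕ) : Subgroup G :=
  ⨅ v : {v : ℕ // ThetaPrime A θ v ∧ v ≠ q}, coCore A θ v.1 q

/-- There are at least three primes. -/
def Many (A : Subgroup G) (θ : G → Subgroup G) : Prop :=
  ∃ q r s, ThetaPrime A θ q ∧ ThetaPrime A θ r ∧ ThetaPrime A θ s ∧ q ≠ r ∧ r ≠ s ∧ s ≠ q

theorem Many.exists_third (h : Many A θ) (x y : ℕ) :
    ∃ w, ThetaPrime A θ w ∧ w ≠ x ∧ w ≠ y := by
  obtain ⟨q, r, s, hq, hr, hs, h1, h2, h3⟩ := h
  by_contra hc
  push Not at hc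
  have a := hc q hq
  have b := hc r hr
  have c := hc s hs
  omega

theorem Many.exists_other (h : Many A θ) (x : ℕ) : ∃ w, ThetaPrime A θ w ∧ w ≠ x := by
  obtain ⟨w, hw, h1, -⟩ := h.exists_third x x
  exact ⟨w, hw, h1⟩

theorem Many.exists_pair (h : Many A θ) (q : ℕ) :
    ∃ v w, ThetaPrime A θ v ∧ ThetaPrime A θ w ∧ v ≠ w ∧ v ≠ q ∧ w ≠ q := by
  obtain ⟨v, hv, hvq⟩ := h.exists_other q
  obtain ⟨w, hw, hwq, hwv⟩ := h.exists_third q v
  exact ⟨v, w, hv, hw, hwv.symm, hvq, hwq⟩

variable [Finite G] [hp : Fact p.Prime]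

namespace Counter

variable (C : Counter p A θ)
include C

theorem coMem_mem {v : ℕ} (hv : ThetaPrime A θ v) :
    coMem A θ v ∈ Cfsg.signalizerFamily p A θ ∧
      Solvable.IsPiNum {r : ℕ | r ≠ v} (Nat.card (coMem A θ v)) := by
  obtain ⟨hvp, a, ha, ha1, hd⟩ := hv
  obtain ⟨h1, h2, -⟩ := C.top_piMem (π := {r : ℕ | r ≠ v}) ha ha1 fun h => h v hvp hd rfl
  exact ⟨h1, h2⟩

theorem coMem_inv (v : ℕ) : A ≤ normalizer (coMem A θ v : Set G) := C.toSetup.inv_piMem

theorem coMem_core (v : ℕ) : Cfsg.signalizerInf A θ ≤ normalizer (coMem A θ v : Set G) :=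
  C.toSetup.core_le_normalizer_piMem

theorem qMem_le_coMem {q v : ℕ} (hqv : q ≠ v) : piMem ({q} : Set ℕ) A θ ≤ coMem A θ v :=
  C.toSetup.qMem_le_piMem hqv

theorem qMem_le_normalizer_coCore {t v q : ℕ} (htv : t ≠ v) :
    piMem ({t} : Set ℕ) A θ ≤ normalizer (coCore A θ v q : Set G) :=
  (C.qMem_le_coMem htv).trans (le_normalizer_pCoreIn q _)

theorem coCore_inv (v q : ℕ) : A ≤ normalizer (coCore A θ v q : Set G) :=
  (C.coMem_inv v).trans (normalizer_le_normalizer_pCoreIn q _)

theorem coCore_core (v q : ℕ) : Cfsg.signalizerInf A θ ≤ normalizer (coCore A θ v q : Set G) :=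
  (C.coMem_core v).trans (normalizer_le_normalizer_pCoreIn q _)

theorem coCore_mem {v : ℕ} (hv : ThetaPrime A θ v) (q : ℕ) :
    coCore A θ v q ∈ Cfsg.signalizerFamily p A θ :=
  mem_family_of_le (C.coMem_mem hv).1 (pCoreIn_le q _) (C.coCore_inv v q)

theorem coCore_le_qMem {v q : ℕ} [Fact q.Prime] (hv : ThetaPrime A θ v) :
    coCore A θ v q ≤ piMem ({q} : Set ℕ) A θ :=
  C.toSetup.pCoreIn_le_qMem (C.coMem_mem hv).1 (C.coMem_core v)

theorem pair_good {q v w : ℕ} [Fact q.Prime] (hv : ThetaPrime A θ v) (hw : ThetaPrime A θ w)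
    (hvw : v ≠ w) (hvq : v ≠ q) (hwq : w ≠ q) :
    Good p q A θ (coCore A θ v q ⊓ coCore A θ w q) := by
  have S := C.toSetup
  refine ⟨(isPGroup_pCoreIn q _).to_le inf_le_left,
    le_normalizer_inf (C.coCore_inv v q) (C.coCore_inv w q),
    not_dvd_card_of_le inf_le_left (C.coCore_mem hv q).2.1, fun a ha ha1 x hx => ?_⟩
  have hxθ : x ∈ θ a := (C.coCore_mem hv q).2.2.2 a ha ha1 ⟨hx.1.1, hx.2⟩
  obtain ⟨n, hn⟩ := isPGroup_pCoreIn q (coMem A θ v) ⟨x, hx.1.1⟩
  refine mem_pCoreIn_of_layers (S.solv ha ha1) hxθ (n := n)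
    (by simpa using congrArg Subtype.val hn) fun t ht htq _ l hl => ?_
  haveI := Fact.mk ht
  have key : ∀ u, q ≠ u → t ≠ u → x ∈ coCore A θ u q → ⁅x, l⁆ ∈ pCoreIn q (θ a) :=
    fun u hqu htu hxu => commutator_mem_layer htq (isPGroup_pCoreIn q _) hxu
      (le_normalizer_pCoreIn q _ (S.layer_le_piMem (π := {r : ℕ | r ≠ u}) ha ha1 hqu htu hl))
      (le_normalizer_layer q t (θ a) hxθ) hl
  by_cases htv : t = v
  · exact key w hwq.symm (htv ▸ hvw) hx.1.2
  · exact key v hvq.symm htv hx.1.1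

theorem Dq_eq {q v w : ℕ} [Fact q.Prime] (hv : ThetaPrime A θ v) (hw : ThetaPrime A θ w)
    (hvw : v ≠ w) (hvq : v ≠ q) (hwq : w ≠ q) :
    Dq A θ q = coCore A θ v q ⊓ coCore A θ w q := by
  refine le_antisymm (le_inf (iInf_le_of_le (⟨v, hv, hvq⟩ : {v : ℕ // ThetaPrime A θ v ∧ v ≠ q})
    le_rfl) (iInf_le_of_le (⟨w, hw, hwq⟩ : {v : ℕ // ThetaPrime A θ v ∧ v ≠ q}) le_rfl))
    (le_iInf ?_)
  rintro ⟨u, hu, huq⟩
  refine le_trans (le_inf le_rfl ?_)
    ((C.pair_good hv hw hvw hvq hwq).inf_le C.toSetup (C.coMem_mem hu).1)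
  exact inf_le_left.trans ((C.coCore_le_qMem hv).trans (C.qMem_le_coMem huq.symm))

theorem Dq_good (hm : Many A θ) {q : ℕ} [Fact q.Prime] : Good p q A θ (Dq A θ q) := by
  obtain ⟨v, w, hv, hw, hvw, hvq, hwq⟩ := hm.exists_pair q
  exact C.Dq_eq hv hw hvw hvq hwq ▸ C.pair_good hv hw hvw hvq hwq

theorem Dq_le_coCore {q v : ℕ} (hv : ThetaPrime A θ v) (hvq : v ≠ q) :
    Dq A θ q ≤ coCore A θ v q :=
  iInf_le_of_le (⟨v, hv, hvq⟩ : {v : ℕ // ThetaPrime A θ v ∧ v ≠ q}) le_rfl

theorem Dq_le_qMem (hm : Many A θ) {q : ℕ} [Fact q.Prime] :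
    Dq A θ q ≤ piMem ({q} : Set ℕ) A θ := by
  obtain ⟨v, hv, hvq⟩ := hm.exists_other q
  exact (C.Dq_le_coCore hv hvq).trans (C.coCore_le_qMem hv)

theorem qMem_le_normalizer_Dq (hm : Many A θ) {q : ℕ} [Fact q.Prime] :
    piMem ({q} : Set ℕ) A θ ≤ normalizer (Dq A θ q : Set G) := by
  obtain ⟨v, w, hv, hw, hvw, hvq, hwq⟩ := hm.exists_pair q
  rw [C.Dq_eq hv hw hvw hvq hwq]
  exact le_normalizer_inf (C.qMem_le_normalizer_coCore hvq.symm)
    (C.qMem_le_normalizer_coCore hwq.symm)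

theorem Dq_core (hm : Many A θ) {q : ℕ} [Fact q.Prime] :
    Cfsg.signalizerInf A θ ≤ normalizer (Dq A θ q : Set G) := by
  obtain ⟨v, w, hv, hw, hvw, hvq, hwq⟩ := hm.exists_pair q
  rw [C.Dq_eq hv hw hvw hvq hwq]
  exact le_normalizer_inf (C.coCore_core v q) (C.coCore_core w q)

/-- With `Dq q = ⊥` each `coCore v q` acts faithfully on `coCore w v`. -/
theorem star {q v w : ℕ} [Fact q.Prime] [Fact v.Prime] (hv : ThetaPrime A θ v)
    (hw : ThetaPrime A θ w) (hqv : q ≠ v) (hvw : v ≠ w) (hwq : w ≠ q) (h0 : Dq A θ q = ⊥) :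
    coCore A θ v q ⊓ centralizer (coCore A θ w v : Set G) = ⊥ := by
  rw [C.Dq_eq hv hw hvw hqv.symm hwq] at h0
  refine (Subgroup.eq_bot_iff_forall _).2 fun x hx => ?_
  have hxw : x ∈ coMem A θ w := C.qMem_le_coMem hwq.symm (C.coCore_le_qMem hv hx.1)
  obtain ⟨n, hn⟩ := isPGroup_pCoreIn q (coMem A θ v) ⟨x, hx.1⟩
  refine mem_bot.1 (h0 ▸ mem_inf.2 ⟨hx.1, ?_⟩)
  refine mem_pCoreIn_of_centralizes (C.coMem_mem hw).1.1 hxw (n := n)
    (by simpa using congrArg Subtype.val hn) fun t ht htd => ?_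
  have htw : t ≠ w := (C.coMem_mem hw).2 t ht htd
  haveI := Fact.mk ht
  by_cases htq : t = q
  · subst htq
    exact commute_of_inf_eq_bot ((C.coCore_le_qMem hv).trans (C.qMem_le_normalizer_coCore htw))
      ((C.coCore_le_qMem hw).trans (C.qMem_le_normalizer_coCore hqv)) h0 hx.1
  by_cases htv : t = v
  · exact htv ▸ hx.2
  exact commute_of_isPGroup (Ne.symm htq) (isPGroup_pCoreIn q _) (isPGroup_pCoreIn t _)
    ((C.coCore_le_qMem hv).trans (C.qMem_le_normalizer_coCore hwq.symm))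
    ((C.coCore_le_qMem hw).trans (C.qMem_le_normalizer_coCore htv)) hx.1

/-- The three cyclic cores. -/
theorem cyc {q v w : ℕ} [Fact q.Prime] [Fact v.Prime] [Fact w.Prime] (hq : ThetaPrime A θ q)
    (hv : ThetaPrime A θ v) (hw : ThetaPrime A θ w) (hqv : q ≠ v) (hvw : v ≠ w) (hwq : w ≠ q) :
    Cyc q v w (coCore A θ v q) (coCore A θ w v) (coCore A θ q w) :=
  ⟨hqv, hvw, hwq, isPGroup_pCoreIn q _, isPGroup_pCoreIn v _, isPGroup_pCoreIn w _,
    (C.coCore_le_qMem hv).trans (C.qMem_le_normalizer_coCore hwq.symm),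
    (C.coCore_le_qMem hw).trans (C.qMem_le_normalizer_coCore hqv.symm),
    (C.coCore_le_qMem hq).trans (C.qMem_le_normalizer_coCore hvw.symm)⟩

/-- Some `Dq q` is nontrivial. -/
theorem exists_Dq_ne_bot (hm : Many A θ) : ∃ q, ThetaPrime A θ q ∧ Dq A θ q ≠ ⊥ := by
  by_contra hc
  push Not at hc
  have S := C.toSetup
  -- a nontrivial `coCore v q`
  obtain ⟨q₀, ⟨hq₀, a, ha, ha1, hd⟩, -⟩ := hm.exists_other 0
  obtain ⟨t, ht, htd, htne⟩ := exists_pCoreIn_ne_bot (S.solv ha ha1) fun h => hq₀.ne_one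
    (Nat.dvd_one.1 (by simpa [h] using hd))
  haveI := Fact.mk ht
  obtain ⟨v, hv, hvt⟩ := hm.exists_other t
  have hne : coMem A θ v ≠ ⊥ := fun h => htne (le_bot_iff.1
    (((S.pCoreIn_theta_le_qMem ha ha1).trans (C.qMem_le_coMem hvt.symm)).trans h.le))
  obtain ⟨q, hq, hqd, hqne⟩ := exists_pCoreIn_ne_bot (C.coMem_mem hv).1.1 hne
  haveI := Fact.mk hq
  haveI := Fact.mk hv.prime
  have hqT : ThetaPrime A θ q := S.thetaPrime_of_dvd (C.coMem_mem hv).1 hq hqd
  have hqv : q ≠ v := (C.coMem_mem hv).2 q hq hqd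
  obtain ⟨w, hw, hwq, hwv⟩ := hm.exists_third q v
  haveI := Fact.mk hw.prime
  have c := C.cyc hqT hv hw hqv hwv.symm hwq
  refine hqne ((Subgroup.eq_bot_iff_forall _).2 fun x hx => ?_)
  have h1 := c.core_eq_bot (C.star hv hw hqv hwv.symm hwq (hc q hqT))
  have h2 := c.rotate.core_eq_bot (C.star hw hqT hwv.symm hwq hqv (hc v hv))
  have h3 := c.rotate.rotate.core_eq_bot (C.star hqT hv hwq hqv hwv.symm (hc w hw))
  rw [Cyc.sup_rotate] at h2
  rw [Cyc.sup_rotate, Cyc.sup_rotate] at h3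
  have h := c.mem_core hx (by rw [h1]; simp [Subgroup.mem_centralizer_iff])
    (by rw [h2]; simp [Subgroup.mem_centralizer_iff]) (by rw [h3]; simp [Subgroup.mem_centralizer_iff])
  rw [h1, mem_bot] at h
  exact h

/-- Conjugates of `Dq q` under `θ B` centralise `Dq u`. -/
theorem conj_mem_centralizer (hm : Many A θ) {q u : ℕ} [Fact q.Prime] [Fact u.Prime] (hqu : q ≠ u)
    {B : Subgroup G} (hB : Line p A B) {g : G} (hg : g ∈ Cfsg.signalizerInf B θ) {y : G}
    (hy : y ∈ Dq A θ q) : g * y * g⁻¹ ∈ centralizer (Dq A θ u : Set G) := by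
  have S := C.toSetup
  obtain ⟨w, hw, hwq, hwu⟩ := hm.exists_third q u
  have hDq := C.Dq_good hm (q := q)
  have hDu := C.Dq_good hm (q := u)
  suffices h : Dq A θ q ≤ (centralizer (Dq A θ u : Set G)).comap (MulAut.conj g).toMonoidHom from
    h hy
  refine le_of_elements (elemAb_of_le S.elem hB.1) (S.line_card hB).ge _ _ hDq.not_dvd
    (hB.1.trans hDq.inv) fun d hd hd1 y hy => ?_
  have hgd : g ∈ θ d := signalizerInf_le hd hd1 hg
  have hy' : g * y * g⁻¹ ∈ piMem ({q} : Set ℕ) A θ :=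
    S.pCoreIn_theta_le_qMem (hB.1 hd) hd1
      (conj_mem (le_normalizer_pCoreIn q (θ d)) hgd (hDq.loc d (hB.1 hd) hd1 hy))
  suffices h2 : Dq A θ u ≤ centralizer ({g * y * g⁻¹} : Set G) from
    mem_comap.2 (mem_centralizer_iff.2 fun c hc => mem_centralizer_singleton_iff.1 (h2 hc))
  refine le_of_elements (elemAb_of_le S.elem hB.1) (S.line_card hB).ge _ _ hDu.not_dvd
    (hB.1.trans hDu.inv) fun e he he1 c hc => ?_
  have hge : g ∈ θ e := signalizerInf_le he he1 hg
  have hc' : g⁻¹ * c * g ∈ piMem ({u} : Set ℕ) A θ := by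
    refine S.pCoreIn_theta_le_qMem (hB.1 he) he1 ?_
    simpa using conj_mem (le_normalizer_pCoreIn u (θ e)) (inv_mem hge) (hDu.loc e (hB.1 he) he1 hc)
  have h1 : ⁅g * y * g⁻¹, c⁆ ∈ coCore A θ w u :=
    commutatorElement_mem_right (C.Dq_le_coCore hw hwu hc.1)
      (C.qMem_le_normalizer_coCore hwq.symm hy')
  have h2 : ⁅y, g⁻¹ * c * g⁆ ∈ coCore A θ w q :=
    commutatorElement_mem_left (C.Dq_le_coCore hw hwq hy.1)
      (C.qMem_le_normalizer_coCore hwu.symm hc')
  have he' : ⁅g * y * g⁻¹, c⁆ = g * ⁅y, g⁻¹ * c * g⁆ * g⁻¹ := by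
    simp only [commutatorElement_def]; group
  obtain ⟨i, hi⟩ := isPGroup_pCoreIn q (coMem A θ w) ⟨_, h2⟩
  have h3 : ⁅g * y * g⁻¹, c⁆ ^ q ^ i = 1 := by
    rw [he', conj_pow, show ⁅y, g⁻¹ * c * g⁆ ^ q ^ i = 1 by simpa using congrArg Subtype.val hi]
    simp
  have h4 := eq_one_of_coprime (isPGroup_pCoreIn u _) h1
    ((Nat.Coprime.pow_left i ((Nat.coprime_primes Fact.out Fact.out).2 hqu)).coprime_dvd_left
      (orderOf_dvd_of_pow_eq_one h3))
  exact mem_centralizer_singleton_iff.2 (commutatorElement_eq_one_iff_mul_comm.1 h4).symm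

/-! ## A prime with nontrivial `Dq` -/

/-- A maximal member above the container of `Dq q`. -/
structure Above (p : ℕ) (A : Subgroup G) (θ : G → Subgroup G) (q : ℕ) (M : Subgroup G) : Prop where
  many : Many A θ
  prime : ThetaPrime A θ q
  ne : Dq A θ q ≠ ⊥
  isMax : IsMax p A θ M
  le : norC A θ (Dq A θ q) ≤ M

theorem exists_above (hm : Many A θ) {q : ℕ} (hq : ThetaPrime A θ q) (hne : Dq A θ q ≠ ⊥) :
    ∃ M, Above p A θ q M := by
  haveI := Fact.mk hq.prime
  obtain ⟨M, hM, hle⟩ := exists_isMax_ge (C.norC_mem (C.Dq_good hm).mem hne).1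
  exact ⟨M, hm, hq, hne, hM, hle⟩

variable {q : ℕ} [Fact q.Prime] {M : Subgroup G} (h : Above p A θ q M)
include h

theorem le_of_normalizes {K : Subgroup G} (hK : K ∈ Cfsg.signalizerFamily p A θ)
    (hKD : K ≤ normalizer (Dq A θ q : Set G)) : K ≤ M :=
  (C.le_norC hK hKD).trans h.le

theorem le_of_centralizes {K : Subgroup G} (hK : K ∈ Cfsg.signalizerFamily p A θ)
    (hKD : K ≤ centralizer (Dq A θ q : Set G)) : K ≤ M :=
  C.le_of_normalizes h hK (hKD.trans (Subgroup.centralizer_le_normalizer _))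

theorem Dq_le_core : Dq A θ q ≤ pCoreIn q M :=
  le_trans (le_inf le_rfl (C.le_of_normalizes h (C.Dq_good h.many).mem le_normalizer))
    ((C.Dq_good h.many).inf_le C.toSetup h.isMax.1)

theorem core_ne_bot : pCoreIn q M ≠ ⊥ := fun h0 => h.ne (le_bot_iff.1 (h0 ▸ C.Dq_le_core h))

theorem core_le_top : Cfsg.signalizerInf A θ ≤ M :=
  C.le_of_normalizes h C.toSetup.core_mem (C.Dq_core h.many)

/-- The other cores of `M` lie in those of any member whose `q`-core contains `Dq q`. -/
theorem inf_core_le {v : ℕ} [Fact v.Prime] (hvq : v ≠ q) {H : Subgroup G}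
    (hH : H ∈ Cfsg.signalizerFamily p A θ) (hD : Dq A θ q ≤ pCoreIn q H) :
    pCoreIn v M ⊓ H ≤ pCoreIn v H := by
  intro x hx
  obtain ⟨n, hn⟩ := isPGroup_pCoreIn v M ⟨x, hx.1⟩
  have hn' : x ^ v ^ n = 1 := by simpa using congrArg Subtype.val hn
  have hxD : Dq A θ q ≤ centralizer ({x} : Set G) := fun y hy => by
    refine mem_centralizer_singleton_iff.2 ?_
    have h1 : ⁅y, x⁆ = 1 := eq_one_of_mem_of_mem hvq
      (isPGroup_pCoreIn v M) (isPGroup_pCoreIn q M)
      (commutatorElement_mem_right hx.1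
        (le_normalizer_pCoreIn v M (pCoreIn_le q M (C.Dq_le_core h hy))))
      (commutatorElement_mem_left (C.Dq_le_core h hy)
        (le_normalizer_pCoreIn q M (pCoreIn_le v M hx.1)))
    exact commutatorElement_eq_one_iff_mul_comm.1 h1
  have hz : centralizer ({x} : Set G) = centralizer (zpowers x : Set G) := by
    rw [zpowers_eq_closure, centralizer_closure]
  have hxN : x ∈ normalizer (pCoreIn q H : Set G) := le_normalizer_pCoreIn q H hx.2
  have hPH : A ≤ normalizer (pCoreIn q H : Set G) :=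
    (invariant_of_mem_family hH).trans (normalizer_le_normalizer_pCoreIn q H)
  have hDA : A ≤ normalizer (centralizer (Dq A θ q : Set G) : Set G) :=
    le_normalizer_centralizer (C.Dq_good h.many).inv
  have hxP : x ∈ centralizer (pCoreIn q H : Set G) := by
    refine Coprime.thompson_pq q (P := Dq A θ q) (Q := zpowers x) (C.Dq_good h.many).isq ?_
      (isPGroup_pCoreIn q H) (hz ▸ hxD) (hD.trans le_normalizer) (zpowers_le.2 hxN) ?_
      (mem_zpowers x)
    · rw [Nat.card_zpowers]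
      exact (Nat.Coprime.pow_left n ((Nat.coprime_primes Fact.out Fact.out).2 hvq)).coprime_dvd_left
        (orderOf_dvd_of_pow_eq_one hn')
    · intro y hy
      rw [← hz, mem_centralizer_singleton_iff]
      have hyM : y ∈ M := C.le_of_centralizes h (mem_family_of_le hH
        (inf_le_left.trans (pCoreIn_le q H)) (le_normalizer_inf hPH hDA)) inf_le_right hy
      have h1 : ⁅y, x⁆ = 1 := eq_one_of_mem_of_mem hvq
        (isPGroup_pCoreIn v M) (isPGroup_pCoreIn q H)
        (commutatorElement_mem_right hx.1 (le_normalizer_pCoreIn v M hyM))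
        (commutatorElement_mem_left hy.1 hxN)
      exact commutatorElement_eq_one_iff_mul_comm.1 h1
  set K := H ⊓ centralizer (pCoreIn q H : Set G)
  have hHK : H ≤ normalizer (K : Set G) :=
    le_normalizer_inf le_normalizer (le_normalizer_centralizer (le_normalizer_pCoreIn q H))
  have hKM : K ≤ M := C.le_of_centralizes h
    (mem_family_of_le hH inf_le_left
      (le_normalizer_inf (invariant_of_mem_family hH) (le_normalizer_centralizer hPH)))
    (inf_le_right.trans (Subgroup.centralizer_le (SetLike.coe_subset_coe.2 hD)))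
  refine le_pCoreIn ((pCoreIn_le v K).trans inf_le_left) (isPGroup_pCoreIn v K)
    (hHK.trans (normalizer_le_normalizer_pCoreIn v K)) ?_
  exact le_pCoreIn (X := K) (Q := pCoreIn v M ⊓ K) inf_le_right
    ((isPGroup_pCoreIn v M).to_le inf_le_left)
    (le_normalizer_inf (hKM.trans (le_normalizer_pCoreIn v M)) le_normalizer) ⟨hx.1, hx.2, hxP⟩

/-- The primes of the other cores of `M` have nontrivial `Dq`. -/
theorem Dq_ne_bot_of_core {v : ℕ} [Fact v.Prime] (hvq : v ≠ q) (hne : pCoreIn v M ≠ ⊥) :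
    Dq A θ v ≠ ⊥ := by
  have S := C.toSetup
  intro h0
  refine hne ((Subgroup.eq_bot_iff_forall _).2 fun x hx => ?_)
  have hSq : pCoreIn v M ≤ piMem ({v} : Set ℕ) A θ :=
    S.pCoreIn_le_qMem h.isMax.1 ((C.core_le_top h).trans le_normalizer)
  have hvT : ThetaPrime A θ v := by
    obtain ⟨i, hi⟩ := IsPGroup.iff_card.mp (isPGroup_pCoreIn v M)
    have hi0 : i ≠ 0 := by rintro rfl; exact hne (Subgroup.card_eq_one.1 (by simpa using hi))
    exact S.thetaPrime_of_dvd h.isMax.1 Fact.out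
      ((dvd_pow_self v hi0).trans (hi ▸ card_dvd_of_le (pCoreIn_le v M)))
  obtain ⟨s, hs, hsq, hsv⟩ := h.many.exists_third q v
  haveI := Fact.mk hs.prime
  have hS : pCoreIn v M ≤ coCore A θ s v :=
    le_trans (le_inf le_rfl (hSq.trans (C.qMem_le_coMem hsv.symm)))
      (C.inf_core_le h hvq (C.coMem_mem hs).1 (C.Dq_le_coCore hs hsq))
  have c := C.cyc h.prime hvT hs hvq.symm hsv.symm hsq
  have hY : A ≤ normalizer ((coCore A θ v q ⊔ coCore A θ s v ⊔ coCore A θ q s : Subgroup G) : Set G) :=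
    le_normalizer_sup (le_normalizer_sup (C.coCore_inv v q) (C.coCore_inv s v)) (C.coCore_inv q s)
  have h1 := c.rotate.core_eq_bot (C.star hs h.prime hsv.symm hsq hvq.symm h0)
  have hRr : pCoreIn s (coCore A θ v q ⊔ coCore A θ s v ⊔ coCore A θ q s) ≤ coCore A θ q s ∧
      pCoreIn s (coCore A θ v q ⊔ coCore A θ s v ⊔ coCore A θ q s) ≤
        centralizer (coCore A θ v q : Set G) := by
    have h2 := c.rotate.rotate.core_le
    have h3 := c.rotate.rotate.core_le_centralizer
    rw [Cyc.sup_rotate, Cyc.sup_rotate] at h2 h3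
    exact ⟨h2, h3⟩
  rw [Cyc.sup_rotate] at h1
  have hRM : pCoreIn s (coCore A θ v q ⊔ coCore A θ s v ⊔ coCore A θ q s) ≤ M :=
    C.le_of_centralizes h (mem_family_of_le (C.coCore_mem h.prime s) hRr.1
      (hY.trans (normalizer_le_normalizer_pCoreIn s _)))
      (hRr.2.trans (Subgroup.centralizer_le (SetLike.coe_subset_coe.2 (C.Dq_le_coCore hvT hvq))))
  have hxS := commute_of_isPGroup hsv.symm (isPGroup_pCoreIn v M) (isPGroup_pCoreIn s _)
    ((hS.trans (le_sup_right.trans le_sup_left)).trans (le_normalizer_pCoreIn s _))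
    (hRM.trans (le_normalizer_pCoreIn v M))
  have hxq := (hS.trans (le_centralizer_iff.1 c.core_le_centralizer))
  have hm := c.rotate.mem_core (hS hx) (by rw [Cyc.sup_rotate, h1]; simp [Subgroup.mem_centralizer_iff])
    (by rw [Cyc.sup_rotate]; exact hxS hx) (by rw [Cyc.sup_rotate]; exact hxq hx)
  rw [Cyc.sup_rotate, h1, mem_bot] at hm
  exact hm

/-- The maximal member has no other cores. -/
theorem pure {v : ℕ} (hv : v.Prime) (hvq : v ≠ q) : pCoreIn v M = ⊥ := by
  by_contra hne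
  haveI := Fact.mk hv
  have S := C.toSetup
  have hDv := C.Dq_ne_bot_of_core h hvq hne
  have hqD := C.Dq_good h.many (q := q)
  refine C.false_of_lines h.isMax.1 fun B hB => ?_
  set L := Cfsg.signalizerInf B θ
  have hLmem : L ∈ Cfsg.signalizerFamily p A θ := by
    obtain ⟨b, hb, hb1⟩ := S.exists_mem_line hB
    exact signalizerInf_mem_family S.func hB.1 fun hbot => hb1 (mem_bot.1 (hbot ▸ hb))
  set W : Subgroup G := ⨆ g : L, (Dq A θ q).map (MulAut.conj (g : G)).toMonoidHom
  have hWc : ∀ u, u.Prime → u ≠ q → W ≤ centralizer (Dq A θ u : Set G) := by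
    intro u hu huq
    haveI := Fact.mk hu
    refine iSup_le fun g => ?_
    rintro _ ⟨y, hy, rfl⟩
    exact C.conj_mem_centralizer h.many huq.symm hB g.2 hy
  have hWA : A ≤ normalizer (W : Set G) := by
    refine le_normalizer_of_conj_mem fun a ha x hx => ?_
    suffices hs : W ≤ W.comap (MulAut.conj a).toMonoidHom from hs hx
    refine iSup_le fun g => ?_
    rintro _ ⟨y, hy, rfl⟩
    refine mem_comap.2 (mem_iSup_of_mem (⟨a * g * a⁻¹, conj_mem (invariant_of_mem_family hLmem) ha g.2⟩ : L)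
      ⟨a * y * a⁻¹, conj_mem hqD.inv ha hy, ?_⟩)
    simp [mul_assoc]
  have hWL : L ≤ normalizer (W : Set G) := by
    refine le_normalizer_of_conj_mem fun a ha x hx => ?_
    suffices hs : W ≤ W.comap (MulAut.conj a).toMonoidHom from hs hx
    refine iSup_le fun g => ?_
    rintro _ ⟨y, hy, rfl⟩
    refine mem_comap.2 (mem_iSup_of_mem (⟨a * g, L.mul_mem ha g.2⟩ : L) ⟨y, hy, ?_⟩)
    simp [mul_assoc]
  have hDW : Dq A θ q ≤ W :=
    le_iSup_of_le (⟨1, one_mem _⟩ : L) fun y hy => ⟨y, hy, by simp⟩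
  have hWmem : W ∈ Cfsg.signalizerFamily p A θ := by
    have hDvg := C.Dq_good h.many (q := v)
    refine mem_family_of_le (C.norC_mem hDvg.mem hDv).1 (iSup_le fun g => ?_) hWA
    rw [Subgroup.map_le_iff_le_comap]
    refine le_of_elements (elemAb_of_le S.elem hB.1) (S.line_card hB).ge _ _ hqD.not_dvd
      (hB.1.trans hqD.inv) fun d hd hd1 y hy => ?_
    exact C.theta_inf_le_norC (hB.1 hd) hd1
      ⟨conj_mem le_normalizer (signalizerInf_le hd hd1 g.2)
        ((hqD.loc d (hB.1 hd) hd1).trans (pCoreIn_le q _) hy),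
        Subgroup.centralizer_le_normalizer _
          (C.conj_mem_centralizer h.many hvq.symm hB g.2 hy.1)⟩
  have hW1 : W ≠ ⊥ := fun h0 => h.ne (le_bot_iff.1 (h0 ▸ hDW))
  obtain ⟨hN, -, hWN⟩ := C.norC_mem hWmem hW1
  obtain ⟨H, hH, hNH⟩ := exists_isMax_ge hN
  have hPD : Dq A θ q ≤ pCoreIn q H :=
    le_trans (le_inf le_rfl ((hDW.trans hWN).trans hNH)) (hqD.inf_le S hH.1)
  -- the other cores of `M` lie in those of `H`
  have hother : ∀ t, t.Prime → t ≠ q → pCoreIn t M ≠ ⊥ →
      pCoreIn t M ≤ pCoreIn t H ∧ pCoreIn t H ≤ M ∧ pCoreIn t H ≠ ⊥ := by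
    intro t ht htq htne
    haveI := Fact.mk ht
    have hDt := C.Dq_good h.many (q := t)
    have hle : Dq A θ t ≤ H := (C.le_norC hDt.mem ((le_centralizer_iff.1 (hWc t ht htq)).trans
      (Subgroup.centralizer_le_normalizer _))).trans hNH
    have hR1 : pCoreIn t H ≠ ⊥ := fun h0 => C.Dq_ne_bot_of_core h htq htne
      (le_bot_iff.1 (h0 ▸ le_trans (le_inf le_rfl hle) (hDt.inf_le S hH.1)))
    have hRM : pCoreIn t H ≤ M := C.le_of_centralizes h (mem_family_of_le hH.1 (pCoreIn_le t H)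
      ((invariant_of_mem_family hH.1).trans (normalizer_le_normalizer_pCoreIn t H)))
      ((commute_of_isPGroup htq (isPGroup_pCoreIn t H) (isPGroup_pCoreIn q H)
        ((pCoreIn_le t H).trans (le_normalizer_pCoreIn q H))
        ((pCoreIn_le q H).trans (le_normalizer_pCoreIn t H))).trans
          (Subgroup.centralizer_le (SetLike.coe_subset_coe.2 hPD)))
    refine ⟨le_of_normalised (isPGroup_pCoreIn t H) (isPGroup_pCoreIn t M)
      (hRM.trans (le_normalizer_pCoreIn t M)) ?_, hRM, hR1⟩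
    refine le_trans (le_inf inf_le_left ?_) (C.inf_core_le h htq hH.1 hPD)
    exact hH.stable C hR1 _ (mem_family_of_le h.isMax.1 (inf_le_left.trans (pCoreIn_le t M))
      (le_normalizer_inf ((invariant_of_mem_family h.isMax.1).trans
        (normalizer_le_normalizer_pCoreIn t M)) (((invariant_of_mem_family hH.1).trans
          (normalizer_le_normalizer_pCoreIn t H)).trans le_normalizer))) inf_le_right
  obtain ⟨hSR, hRM, hR1⟩ := hother v hv hvq hne
  set R := pCoreIn v H with hR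
  have hAR : A ≤ normalizer (R : Set G) :=
    (invariant_of_mem_family hH.1).trans (normalizer_le_normalizer_pCoreIn v H)
  have hAS : A ≤ normalizer (pCoreIn v M : Set G) :=
    (invariant_of_mem_family h.isMax.1).trans (normalizer_le_normalizer_pCoreIn v M)
  have hPHR : pCoreIn q H ≤ centralizer (R : Set G) :=
    commute_of_isPGroup hvq.symm (isPGroup_pCoreIn q H) (isPGroup_pCoreIn v H)
      ((pCoreIn_le q H).trans (le_normalizer_pCoreIn v H))
      ((pCoreIn_le v H).trans (le_normalizer_pCoreIn q H))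
  have hcS : centralizer (R : Set G) ≤ centralizer (pCoreIn v M : Set G) :=
    Subgroup.centralizer_le (SetLike.coe_subset_coe.2 hSR)
  have hPHM : pCoreIn q H ≤ M := h.isMax.stable C hne _
    (mem_family_of_le hH.1 (pCoreIn_le q H)
      ((invariant_of_mem_family hH.1).trans (normalizer_le_normalizer_pCoreIn q H)))
    ((hPHR.trans hcS).trans (Subgroup.centralizer_le_normalizer _))
  -- `O_q(M) ≤ O_q(H)`
  have hPH1 : pCoreIn q H ≠ ⊥ := fun h0 => h.ne (le_bot_iff.1 (h0 ▸ hPD))
  have hPP : pCoreIn q M ≤ pCoreIn q H := by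
    refine le_of_normalised (isPGroup_pCoreIn q H) (isPGroup_pCoreIn q M)
      (hPHM.trans (le_normalizer_pCoreIn q M)) fun x hx => ?_
    have hxH : x ∈ H := hH.stable C hPH1 _
      (mem_family_of_le h.isMax.1 (inf_le_left.trans (pCoreIn_le q M))
        (le_normalizer_inf ((invariant_of_mem_family h.isMax.1).trans
          (normalizer_le_normalizer_pCoreIn q M)) (((invariant_of_mem_family hH.1).trans
            (normalizer_le_normalizer_pCoreIn q H)).trans le_normalizer))) inf_le_right hx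
    have hxR : x ∈ centralizer (R : Set G) := mem_centralizer_iff.2 fun r hr => by
      have h1 : ⁅r, x⁆ = 1 := eq_one_of_mem_of_mem hvq
        (isPGroup_pCoreIn v H) (isPGroup_pCoreIn q M)
        (commutatorElement_mem_left hr (le_normalizer_pCoreIn v H hxH))
        (commutatorElement_mem_right hx.1 (le_normalizer_pCoreIn q M (hRM hr)))
      exact commutatorElement_eq_one_iff_mul_comm.1 h1
    set K := H ⊓ centralizer (R : Set G)
    have hKM : K ≤ M := h.isMax.stable C hne _ (mem_family_of_le hH.1 inf_le_left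
      (le_normalizer_inf (invariant_of_mem_family hH.1) (le_normalizer_centralizer hAR)))
      ((inf_le_right.trans hcS).trans (Subgroup.centralizer_le_normalizer _))
    refine le_pCoreIn ((pCoreIn_le q K).trans inf_le_left) (isPGroup_pCoreIn q K)
      ((le_normalizer_inf le_normalizer (le_normalizer_centralizer (le_normalizer_pCoreIn v H))).trans
        (normalizer_le_normalizer_pCoreIn q K)) ?_
    exact le_pCoreIn (X := K) (Q := pCoreIn q M ⊓ K) inf_le_right
      ((isPGroup_pCoreIn q M).to_le inf_le_left)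
      (le_normalizer_inf (hKM.trans (le_normalizer_pCoreIn q M)) le_normalizer) ⟨hx.1, hxH, hxR⟩
  -- the centre of `R`
  set Z := R ⊓ centralizer (R : Set G) with hZdef
  have hHZ : H ≤ normalizer (Z : Set G) :=
    le_normalizer_inf (le_normalizer_pCoreIn v H) (le_normalizer_centralizer (le_normalizer_pCoreIn v H))
  have hZ1 : Z ≠ ⊥ := fun h0 => by
    obtain ⟨x, hx, hx1, hxc⟩ :=
      exists_mem_centralizing (isPGroup_pCoreIn v H) le_rfl le_normalizer hR1
    exact hx1 (mem_bot.1 (h0 ▸ mem_inf.2 ⟨hx, hxc⟩))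
  have hZS : Z ≤ pCoreIn v M := by
    intro z hz
    obtain ⟨n, hn⟩ := isPGroup_pCoreIn v H ⟨z, hz.1⟩
    refine mem_pCoreIn_of_centralizes h.isMax.1.1 (hRM hz.1) (n := n)
      (by simpa using congrArg Subtype.val hn) fun t ht _ => ?_
    haveI := Fact.mk ht
    by_cases htq : t = q
    · subst htq
      exact le_centralizer_iff.1 (hPP.trans hPHR) hz.1
    by_cases htv : t = v
    · subst htv
      exact hcS hz.2
    by_cases htne : pCoreIn t M = ⊥
    · rw [htne]; simp [Subgroup.mem_centralizer_iff]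
    exact Subgroup.centralizer_le (SetLike.coe_subset_coe.2 (hother t ht htq htne).1)
      (commute_of_isPGroup (Ne.symm htv) (isPGroup_pCoreIn v H) (isPGroup_pCoreIn t H)
        ((pCoreIn_le v H).trans (le_normalizer_pCoreIn t H))
        ((pCoreIn_le t H).trans (le_normalizer_pCoreIn v H)) hz.1)
  -- `H = M`
  set K' := M ⊓ centralizer (pCoreIn v M : Set G)
  have hK'H : K' ≤ H := hH.le_of_normalizes C hZ1
    (le_normalizer_inf hAR (le_normalizer_centralizer hAR))
    (inf_le_left.trans (pCoreIn_le v H)) hHZ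
    (mem_family_of_le h.isMax.1 inf_le_left
      (le_normalizer_inf (invariant_of_mem_family h.isMax.1) (le_normalizer_centralizer hAS)))
    ((inf_le_right.trans (Subgroup.centralizer_le (SetLike.coe_subset_coe.2 hZS))).trans
      (Subgroup.centralizer_le_normalizer _))
  have hPeq : pCoreIn q H = pCoreIn q M := by
    refine le_antisymm ?_ hPP
    refine le_trans (le_pCoreIn (X := K') (le_inf hPHM (hPHR.trans hcS)) (isPGroup_pCoreIn q H)
      (hK'H.trans (le_normalizer_pCoreIn q H))) ?_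
    exact le_pCoreIn ((pCoreIn_le q K').trans inf_le_left) (isPGroup_pCoreIn q K')
      ((le_normalizer_inf le_normalizer (le_normalizer_centralizer (le_normalizer_pCoreIn v M))).trans
        (normalizer_le_normalizer_pCoreIn q K'))
  exact ((C.le_norC hLmem hWL).trans hNH).trans
    (h.isMax.stable C (C.core_ne_bot h) H hH.1 (hPeq ▸ le_normalizer_pCoreIn q H))

/-- Only one prime has nontrivial `Dq`. -/
theorem Dq_eq_bot {u : ℕ} [Fact u.Prime] (huq : u ≠ q) : Dq A θ u = ⊥ := by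
  have S := C.toSetup
  have hu := C.Dq_good h.many (q := u)
  obtain ⟨B, hB, -, -⟩ := S.exists_line (one_mem A) (one_mem A)
  have hle : Dq A θ u ≤ centralizer (Dq A θ q : Set G) := fun y hy => by
    have := C.conj_mem_centralizer h.many huq hB (one_mem _) hy
    simpa using this
  refine le_bot_iff.1 (le_trans (le_inf le_rfl (C.le_of_centralizes h hu.mem hle)) ?_)
  exact (hu.inf_le S h.isMax.1).trans (C.pure h Fact.out huq).le

/-- A point centralising `Dq q`. -/
theorem exists_point_centralizing :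
    ∃ e ∈ A, e ≠ 1 ∧ Dq A θ q ≤ centralizer {e} := by
  have S := C.toSetup
  have hD := C.Dq_good h.many (q := q)
  by_contra hc
  push Not at hc
  refine C.false_of_lines h.isMax.1 fun B hB => ?_
  -- every point has an independent partner with nontrivial core
  have hpair : ∀ d ∈ B, d ≠ 1 → ∃ e ∈ B, e ∉ zpowers d ∧ pCoreIn q (θ e) ≠ ⊥ := by
    intro d hd hd1
    by_contra hno
    push Not at hno
    refine hc d (hB.1 hd) hd1 ?_
    refine le_of_elements (elemAb_of_le S.elem hB.1) (S.line_card hB).ge _ _ hD.not_dvd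
      (hB.1.trans hD.inv) fun e he he1 => ?_
    by_cases hed : e ∈ zpowers d
    · exact inf_le_right.trans (S.centralizer_eq_of_mem_zpowers (hB.1 hd) hed he1).le
    · exact ((hD.loc e (hB.1 he) he1).trans (hno e he hed).le).trans bot_le
  obtain ⟨b, hb, hb1⟩ := S.exists_mem_line hB
  refine C.le_of_normalizes h
    (signalizerInf_mem_family S.func hB.1 fun hbot => hb1 (mem_bot.1 (hbot ▸ hb))) fun g hg => ?_
  refine mem_normalizer_of_conj_mem fun y hy => ?_
  suffices hs : Dq A θ q ≤ (Dq A θ q).comap (MulAut.conj g).toMonoidHom from hs hy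
  refine le_of_elements (elemAb_of_le S.elem hB.1) (S.line_card hB).ge _ _ hD.not_dvd
    (hB.1.trans hD.inv) fun d hd hd1 => ?_
  obtain ⟨f, hf, hfd, hfne⟩ := hpair d hd hd1
  have hf1 : f ≠ 1 := fun h0 => hfd (h0 ▸ one_mem _)
  have hgd : g ∈ θ d := signalizerInf_le hd hd1 hg
  have hgf : g ∈ θ f := signalizerInf_le hf hf1 hg
  set Y := (Dq A θ q ⊓ centralizer {d}).map (MulAut.conj g).toMonoidHom with hYdef
  suffices hY : Y ≤ Dq A θ q from Subgroup.map_le_iff_le_comap.1 hY
  refine le_iInf ?_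
  rintro ⟨v, hv, hvq⟩
  change Y ≤ coCore A θ v q
  set K := coMem A θ v with hKdef
  have hK := (C.coMem_mem hv).1
  have hYθ : Y ≤ pCoreIn q (θ d) := by
    rintro _ ⟨y, hy, rfl⟩
    exact conj_mem (le_normalizer_pCoreIn q (θ d)) hgd (hD.loc d (hB.1 hd) hd1 hy)
  have hYK : Y ≤ K := hYθ.trans ((S.pCoreIn_theta_le_qMem (hB.1 hd) hd1).trans
    (C.qMem_le_coMem hvq.symm))
  have hYq : IsPGroup q Y := (isPGroup_pCoreIn q _).to_le hYθ
  have hgf' : g * f = f * g := mem_centralizer_singleton_iff.1 (S.le_cent (hB.1 hf) hf1 hgf)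
  have hfY : f ∈ normalizer (Y : Set G) := by
    refine mem_normalizer_of_conj_mem ?_
    rintro _ ⟨y, hy, rfl⟩
    refine ⟨f * y * f⁻¹, conj_mem (le_normalizer_inf hD.inv
      (S.le_normalizer_centralizer_singleton (hB.1 hd))) (hB.1 hf) hy, ?_⟩
    change g * (f * y * f⁻¹) * g⁻¹ = f * (g * y * g⁻¹) * f⁻¹
    calc g * (f * y * f⁻¹) * g⁻¹ = (g * f) * y * (g * f)⁻¹ := by group
      _ = (f * g) * y * (f * g)⁻¹ := by rw [hgf']
      _ = _ := by group
  -- the stable member above `θ f`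
  obtain ⟨H, hH, hθH, hH1, hst⟩ := C.exists_stable (S.theta_mem (hB.1 hf) hf1) hfne
  have hTH : Cfsg.signalizerInf A θ ≤ normalizer (H : Set G) :=
    ((S.core_le (hB.1 hf) hf1).trans hθH).trans le_normalizer
  have hDH : Dq A θ q ≤ pCoreIn q H := hD.le_core C hH hst
    ((S.pCoreIn_le_qMem hH hTH).trans (C.qMem_le_normalizer_Dq h.many))
  have hYH : Y ≤ pCoreIn q H := by
    rintro _ ⟨y, hy, rfl⟩
    exact conj_mem (le_normalizer_pCoreIn q H) (hθH hgf) (hDH hy.1)
  intro x hx
  obtain ⟨n, hn⟩ := hYq ⟨x, hx⟩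
  refine mem_pCoreIn_of_layers hK.1 (hYK hx) (n := n) (by simpa using congrArg Subtype.val hn)
    fun t ht htq _ => ?_
  haveI := Fact.mk ht
  refine commutator_le_of_fpf htq (S.pow_eq (hB.1 hf)) (isPGroup_pCoreIn q K) hYq
    (not_dvd_card_of_le hYK hK.2.1) (not_dvd_card_of_le (layer_le q t K) hK.2.1)
    (fun l hl => pow_mem_of_layer hl) (hYK.trans (le_normalizer_pCoreIn q K))
    ((layer_le q t K).trans (le_normalizer_pCoreIn q K))
    (normalizer_le_normalizer_pCoreIn q K (C.coMem_inv v (hB.1 hf)))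
    (hYK.trans (le_normalizer_layer q t K)) hfY
    (normalizer_le_normalizer_layer q t K (C.coMem_inv v (hB.1 hf)))
    (fun y hyY hyf w hw => ?_) (fun w hw hwf y hyY => ?_) x hx
  · -- fixed points centralise the line
    obtain ⟨y₀, hy₀, rfl⟩ := hyY
    have hgB : g ∈ centralizer (B : Set G) := signalizerInf_le_centralizer S.func.1 hB.1 hg
    have hyB : g * y₀ * g⁻¹ ∈ centralizer (B : Set G) := S.mem_centralizer_line hB hd hd1 hf hfd
      (mul_mem (mul_mem (centralizer_le_singleton hd hgB) hy₀.2)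
        (inv_mem (centralizer_le_singleton hd hgB))) hyf
    have hy₀B : y₀ ∈ centralizer (B : Set G) := by
      simpa [mul_assoc] using mul_mem (mul_mem (inv_mem hgB) hyB) hgB
    obtain ⟨m, hm⟩ := hD.isq ⟨y₀, hy₀.1⟩
    have hP : g * y₀ * g⁻¹ ∈ pCoreIn q K := by
      refine S.mem_pCoreIn_of_line hK hB (hYK ⟨y₀, hy₀, rfl⟩) (n := m) ?_ fun a haB ha1 => ?_
      · rw [conj_pow, show y₀ ^ q ^ m = 1 by simpa using congrArg Subtype.val hm]; simp
      · exact conj_mem (le_normalizer_pCoreIn q (θ a)) (signalizerInf_le haB ha1 hg)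
          (hD.loc a (hB.1 haB) ha1 ⟨hy₀.1, centralizer_le_singleton haB hy₀B⟩)
    exact commutatorElement_mem_left hP (le_normalizer_pCoreIn q K (layer_le q t K hw))
  · have hwθ : w ∈ θ f := hK.2.2.2 f (hB.1 hf) hf1 ⟨layer_le q t K hw, hwf⟩
    exact commutator_mem_layer htq (isPGroup_pCoreIn q H) (hYH hyY)
      (le_normalizer_pCoreIn q H (hθH hwθ)) (le_normalizer_layer q t K (hYK hyY)) hw

/-- The cores of the `s'`-members away from `q` are trivial. -/
theorem coMem_pure {s t : ℕ} [Fact t.Prime] (hs : ThetaPrime A θ s) (hsq : s ≠ q) (htq : t ≠ q)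
    (htd : t ∣ Nat.card (coMem A θ s)) : coCore A θ s t = ⊥ := by
  have ht : ThetaPrime A θ t := C.toSetup.thetaPrime_of_dvd (C.coMem_mem hs).1 Fact.out htd
  have hts : t ≠ s := (C.coMem_mem hs).2 t Fact.out htd
  haveI := Fact.mk hs.prime
  have c := C.cyc h.prime ht hs htq.symm hts hsq
  have h1 := c.rotate.core_eq_bot (C.star hs h.prime hts hsq htq.symm (C.Dq_eq_bot h htq))
  have h2 := c.rotate.rotate.core_eq_bot (C.star h.prime ht hsq htq.symm hts (C.Dq_eq_bot h hsq))
  rw [Cyc.sup_rotate] at h1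
  rw [Cyc.sup_rotate, Cyc.sup_rotate] at h2
  refine (Subgroup.eq_bot_iff_forall _).2 fun x hx => ?_
  have hm := c.rotate.mem_core hx (by rw [Cyc.sup_rotate, h1]; simp [Subgroup.mem_centralizer_iff])
    (by rw [Cyc.sup_rotate, h2]; simp [Subgroup.mem_centralizer_iff])
    (by rw [Cyc.sup_rotate]; exact le_centralizer_iff.1 c.core_le_centralizer hx)
  rw [Cyc.sup_rotate, h1, mem_bot] at hm
  exact hm

theorem false_of_above : False := by
  have S := C.toSetup
  obtain ⟨e, he, he1, hDe⟩ := C.exists_point_centralizing h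
  have hD := C.Dq_good h.many (q := q)
  have hcore : ∀ s, ThetaPrime A θ s → s ≠ q → coCore A θ s q ≤ centralizer {e} := by
    intro s hs hsq
    obtain ⟨r, hr, hrq, hrs⟩ := h.many.exists_third q s
    set P := coCore A θ s q
    set Y := ⁅P, zpowers e⁆
    have heP : zpowers e ≤ normalizer (P : Set G) := zpowers_le.2 (C.coCore_inv s q he)
    have hYP : Y ≤ P := Coprime.commutator_le_left' heP
    have hPq : P ≤ piMem ({q} : Set ℕ) A θ := C.coCore_le_qMem hs
    have hcop : (Nat.card (zpowers e)).Coprime (Nat.card P) := by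
      obtain ⟨i, hi⟩ := IsPGroup.iff_card.mp (isPGroup_zpowers_of_pow_eq_one (S.pow_eq he))
      rw [hi]
      exact Nat.Coprime.pow_left i (hp.out.coprime_iff_not_dvd.2 (C.coCore_mem hs q).2.1)
    have hcc := Coprime.commutator_commutator_eq heP hcop
      (Or.inr (Coprime.isSolvable_of_isPGroup (isPGroup_pCoreIn q _)))
    have hK := (C.coMem_mem hr).1
    have hYr : Y ≤ coCore A θ r q := by
      refine le_pCoreIn_of_commutator_le (S.pow_eq he) hK.1 hK.2.1 (C.coMem_inv r he)
        (hasCharP_of_pure hK.1 fun t ht htq htd => ?_)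
        ((hYP.trans hPq).trans (C.qMem_le_coMem hrq.symm))
        ((isPGroup_pCoreIn q _).to_le hYP)
        (Subgroup.normalizer_commutator_ge_right P _ (mem_zpowers e)) hcc.ge ?_
      · haveI := Fact.mk ht
        exact C.coMem_pure h hr hrq htq htd
      · refine ((Subgroup.commutator_mono le_rfl hYP).trans ?_).trans hDe
        rw [C.Dq_eq hr hs hrs hrq hsq]
        exact le_inf (Subgroup.le_normalizer_iff_commutator_le_left.1
            (hPq.trans (C.qMem_le_normalizer_coCore hrq.symm)))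
          (Subgroup.le_normalizer_iff_commutator_le_right.1
            ((C.coCore_le_qMem hr).trans (C.qMem_le_normalizer_coCore hsq.symm)))
    have hY0 : ⁅Y, zpowers e⁆ = ⊥ := by
      rw [commutator_eq_bot_iff_le_centralizer, zpowers_eq_closure, centralizer_closure]
      refine le_trans ?_ hDe
      rw [C.Dq_eq hr hs hrs hrq hsq]
      exact le_inf hYr hYP
    rw [hY0, eq_comm, commutator_eq_bot_iff_le_centralizer, zpowers_eq_closure,
      centralizer_closure] at hcc
    exact hcc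
  have hco : ∀ s, ThetaPrime A θ s → s ≠ q → coMem A θ s ≤ centralizer {e} := by
    intro s hs hsq
    refine le_centralizer_of_cores (S.pow_eq he) (C.coMem_mem hs).1.1 (C.coMem_mem hs).1.2.1
      (C.coMem_inv s he) fun t ht htd => ?_
    haveI := Fact.mk ht
    by_cases htq : t = q
    · subst htq; exact hcore s hs hsq
    · exact (C.coMem_pure h hs hsq htq htd).le.trans bot_le
  refine C.false_of_qMem_le he he1 fun t ht => ?_
  obtain ⟨s, hs, hsq, hst⟩ := h.many.exists_third q t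
  exact (C.qMem_le_coMem hst.symm).trans (hco s hs hsq)

omit h

/-- There are at most two primes. -/
theorem false_of_many (hm : Many A θ) : False := by
  obtain ⟨q, hq, hne⟩ := C.exists_Dq_ne_bot hm
  haveI := Fact.mk hq.prime
  obtain ⟨M, hM⟩ := C.exists_above hm hq hne
  exact C.false_of_above hM

end Counter

end Cfsg.Agent.Signalizer.SSFT
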