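import Cfsg.Agent.Lib.Signalizer.SSFT.TwoPureExc
import Cfsg.Agent.Lib.Signalizer.SSFT.ManyPrimes

/-!
# The solvable signalizer functor theorem

* `SSFT.Counter.false`, `SSFT.Setup.hasTop`
* `solvable_signalizer_functor`: the values generate a solvable `p'`-subgroup meeting `C(a)` in `θ a`
* `isCompleteSignalizerFunctor_of_solvable`
-/

set_option autoImplicit false
set_option linter.unusedSectionVars false

namespace Cfsg.Agent.Signalizer

open Subgroup

universe u

namespace SSFT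

variable {G : Type u} [Group G] [Finite G] {p : ℕ} [hp : Fact p.Prime] {A : Subgroup G}
  {θ : G → Subgroup G}

/-- There is no counterexample. -/
theorem Counter.false (C : Counter p A θ) : False := by
  have S := C.toSetup
  obtain ⟨q, hq⟩ : ∃ q, ThetaPrime A θ q := by
    by_contra h
    push Not at h
    obtain ⟨a, ha, ha1⟩ := S.exists_point
    have hbot : ∀ b ∈ A, b ≠ 1 → θ b = ⊥ := fun b hb hb1 => by
      by_contra hne
      obtain ⟨t, ht, htd⟩ := Nat.exists_prime_and_dvd (n := Nat.card (θ b))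
        (fun h1 => hne (Subgroup.card_eq_one.1 h1))
      exact h t ⟨ht, b, hb, hb1, htd⟩
    exact C.noTop ⟨θ a, S.theta_mem ha ha1, fun b hb hb1 => (hbot b hb hb1).le.trans bot_le⟩
  haveI := Fact.mk hq.prime
  obtain ⟨c, hc, hc1, hne⟩ := C.exists_two_primes q
  obtain ⟨r, hr, hrd, hrq⟩ : ∃ r, r.Prime ∧ r ∣ Nat.card (θ c) ∧ r ≠ q := by
    by_contra h
    push Not at h
    exact hne fun r hr hd => h r hr hd
  haveI := Fact.mk hr
  have hrT : ThetaPrime A θ r := ⟨hr, c, hc, hc1, hrd⟩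
  by_cases h : ∃ s, ThetaPrime A θ s ∧ s ≠ q ∧ s ≠ r
  · obtain ⟨s, hs, hsq, hsr⟩ := h
    exact C.false_of_many ⟨q, r, s, hq, hrT, hs, hrq.symm, hsr.symm, hsq⟩
  · push Not at h
    exact C.false_of_twoPrimes (q := q) (r := r)
      ⟨hrq.symm, fun t ht => or_iff_not_imp_left.2 (h t ht)⟩

omit [Finite G] in
theorem below (n : ℕ) : Below.{u} p n := by
  induction n using Nat.strong_induction_on with
  | _ n ih =>
  intro H _ _ A θ hS hlt
  by_contra hno
  exact (⟨hS, hno, ih _ hlt⟩ : Counter p A θ).false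

/-- Every functor on an elementary abelian group of order `p ^ 3` has a top. -/
theorem Setup.hasTop (S : Setup p A θ) : HasTop p A θ :=
  below (weight A θ + 1) A θ S (Nat.lt_succ_self _)

end SSFT

variable {G : Type u} [Group G] [Finite G] {p : ℕ} [Fact p.Prime] {A : Subgroup G}
  {θ : G → Subgroup G}

/-- The solvable signalizer functor theorem. -/
theorem solvable_signalizer_functor (hA : Cfsg.IsElementaryAbelian p A)
    (hA3 : p ^ 3 ≤ Nat.card A) (hθ : Cfsg.IsSolvableSignalizerFunctor p A θ) :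
    Group.IsSolvable ↥(⨆ a : {a : G // a ∈ A ∧ a ≠ 1}, θ a) ∧
      ¬ p ∣ Nat.card ↥(⨆ a : {a : G // a ∈ A ∧ a ≠ 1}, θ a) ∧
      ∀ a ∈ A, a ≠ 1 → (⨆ b : {a : G // a ∈ A ∧ a ≠ 1}, θ b) ⊓ centralizer {a} = θ a := by
  obtain ⟨D, -, hDA, hD⟩ := exists_between hA (B := (⊥ : Subgroup G)) (X := A) bot_le le_rfl
    (k := 3) (by rw [Subgroup.card_bot]; exact Nat.one_le_pow _ _ (Fact.out : p.Prime).pos) hA3
  have hDe := elemAb_of_le hA hDA
  have hD2 : p ^ 2 ≤ Nat.card D := hD ▸ Nat.pow_le_pow_right (Fact.out : p.Prime).pos (by omega)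
  have S : SSFT.Setup p D θ := ⟨hDe, hD,
    ⟨fun a ha ha1 => hθ.1.1 a (hDA ha) ha1, fun a ha ha1 => hθ.1.2.1 a (hDA ha) ha1,
      fun a ha ha1 b hb => hθ.1.2.2.1 a (hDA ha) ha1 b (hDA hb),
      fun a ha ha1 b hb hb1 => hθ.1.2.2.2 a (hDA ha) ha1 b (hDA hb) hb1⟩,
    fun a ha ha1 => hθ.2 a (hDA ha) ha1⟩
  obtain ⟨K, hK, htop⟩ := S.hasTop
  set W := ⨆ a : {a : G // a ∈ A ∧ a ≠ 1}, θ a with hWdef
  have hWK : W ≤ K := iSup_le fun a => le_of_elements hDe hD2 K _ (hθ.1.2.1 a.1 a.2.1 a.2.2)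
    (hDA.trans (invariant_theta hθ.1 a.2.1 a.2.2)) fun d hd hd1 =>
      (hθ.1.2.2.2 a.1 a.2.1 a.2.2 d (hDA hd) hd1).trans (htop d hd hd1)
  have hle : ∀ a ∈ A, a ≠ 1 → θ a ≤ W := fun a ha ha1 =>
    le_iSup (fun a : {a : G // a ∈ A ∧ a ≠ 1} => θ a) ⟨a, ha, ha1⟩
  refine ⟨Coprime.isSolvable_of_le hWK hK.1, not_dvd_card_of_le hWK hK.2.1,
    fun a ha ha1 => le_antisymm ?_ (le_inf (hle a ha ha1) (hθ.1.1 a ha ha1))⟩
  have hAC : A ≤ normalizer (centralizer ({a} : Set G) : Set G) := by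
    rw [← centralizer_closure, ← zpowers_eq_closure]
    exact le_normalizer_centralizer (le_normalizer_of_commute fun x hx y hy =>
      commute_of_isMulCommutative hA.1 hx (zpowers_le.2 ha hy))
  refine le_of_elements hDe hD2 (θ a) _ (not_dvd_card_of_le (inf_le_left.trans hWK) hK.2.1)
    (hDA.trans (le_normalizer_inf
      (le_normalizer_iSup fun b => invariant_theta hθ.1 b.2.1 b.2.2) hAC)) fun d hd hd1 x hx => ?_
  exact hθ.1.2.2.2 d (hDA hd) hd1 a ha ha1 ⟨hK.2.2.2 d hd hd1 ⟨hWK hx.1.1, hx.2⟩, hx.1.2⟩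

/-- A solvable signalizer functor of rank at least three is complete. -/
theorem isCompleteSignalizerFunctor_of_solvable (hA : Cfsg.IsElementaryAbelian p A)
    (hA3 : p ^ 3 ≤ Nat.card A) (hθ : Cfsg.IsSolvableSignalizerFunctor p A θ) :
    Cfsg.IsCompleteSignalizerFunctor p A θ := by
  obtain ⟨-, h2, h3⟩ := solvable_signalizer_functor hA hA3 hθ
  exact ⟨hθ.1, _, fun b hb x hx => conj_mem
    (le_normalizer_iSup fun a => invariant_theta hθ.1 a.2.1 a.2.2) hb hx, h2, h3⟩

/-- A `p'`-group acted on by an elementary abelian group of order at least `p ^ 3` with solvable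
centralisers is solvable. -/
theorem isSolvable_of_solvable_centralizers (hA : Cfsg.IsElementaryAbelian p A)
    (hA3 : p ^ 3 ≤ Nat.card A) {K : Subgroup G} (hpK : ¬ p ∣ Nat.card K)
    (hAK : A ≤ normalizer (K : Set G))
    (hsol : ∀ a ∈ A, a ≠ 1 → Group.IsSolvable ↥(K ⊓ centralizer ({a} : Set G))) :
    Group.IsSolvable K := by
  have hAC : ∀ a ∈ A, A ≤ normalizer (centralizer ({a} : Set G) : Set G) := fun a ha => by
    rw [← centralizer_closure, ← zpowers_eq_closure]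
    exact le_normalizer_centralizer (le_normalizer_of_commute fun x hx y hy =>
      commute_of_isMulCommutative hA.1 hx (zpowers_le.2 ha hy))
  have hθ : Cfsg.IsSolvableSignalizerFunctor p A (fun a => K ⊓ centralizer ({a} : Set G)) :=
    ⟨⟨fun _ _ _ => inf_le_right, fun _ _ _ => not_dvd_card_of_le inf_le_left hpK,
      fun a ha _ b hb _ hx => conj_mem (le_normalizer_inf hAK (hAC a ha)) hb hx,
      fun _ _ _ _ _ _ => inf_le_inf_right _ inf_le_left⟩, hsol⟩
  refine Coprime.isSolvable_of_le ?_ (solvable_signalizer_functor hA hA3 hθ).1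
  exact le_of_elements hA (le_trans (Nat.pow_le_pow_right (Fact.out : p.Prime).pos (by omega)) hA3)
    _ K hpK hAK fun a ha ha1 => le_iSup (fun a : {a : G // a ∈ A ∧ a ≠ 1} =>
      K ⊓ centralizer ({(a : G)} : Set G)) ⟨a, ha, ha1⟩

end Cfsg.Agent.Signalizer
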