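import Cfsg.Agent.Lib.Signalizer.PAction
import Cfsg.Agent.Lib.Coprime.Invariant
import Cfsg.Agent.Lib.Solvable.Basic
import Cfsg.Agent.Lib.Cores.Basic

/-!
# A coprime group moved without fixed points by an element of prime order

* `eq_bot_of_fpf_aut`: commutative groups of automorphisms of an abelian group
* `le_centralizer_of_fpf`: if `C_Y(f) ≤ C(L)` and `C_L(f) ≤ C(Y)` then `Y ≤ C(L)`
-/

set_option autoImplicit false

namespace Cfsg.Agent.Signalizer

open Subgroup
open scoped commutatorElement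

section Aut

variable {V : Type*} [CommGroup V] [Finite V] {p : ℕ} [Fact p.Prime]

/-- A commutative group of coprime automorphisms moved without fixed points by `φ` of order `p` is
trivial when it fixes all fixed points of `φ`. -/
theorem eq_bot_of_fpf_aut (Y : Subgroup (MulAut V)) (φ : MulAut V) (hφp : φ ^ p = 1)
    (hn : ∀ y ∈ Y, φ * y * φ⁻¹ ∈ Y) (hcomm : ∀ y ∈ Y, ∀ z ∈ Y, y * z = z * y)
    (hcop : (Nat.card Y).Coprime (Nat.card V)) (hfpf : ∀ y ∈ Y, φ * y = y * φ → y = 1)
    (hfix : ∀ v, φ v = v → ∀ y ∈ Y, y v = v) : Y = ⊥ := by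
  classical
  letI : IsMulCommutative Y := ⟨⟨fun a b => Subtype.ext (hcomm a a.2 b b.2)⟩⟩
  cases nonempty_fintype V
  haveI : Finite (MulAut V) := Finite.of_injective (fun f => (f : V → V)) DFunLike.coe_injective
  cases nonempty_fintype Y
  -- conjugation by `φ` on `Y`
  let c : Y →* Y :=
    { toFun := fun y => ⟨φ * y * φ⁻¹, hn y y.2⟩
      map_one' := Subtype.ext (by simp)
      map_mul' := fun a b => Subtype.ext (by simp [mul_assoc]) }
  -- fixed points of `z * φ` are fixed by `Y`
  have hsurj : Function.Surjective fun w : Y => w * (c w)⁻¹ := by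
    refine Finite.injective_iff_surjective.1 fun a b h => ?_
    have h' : c (a⁻¹ * b) = a⁻¹ * b := by
      rw [map_mul, map_inv]
      have h1 : a * (c a)⁻¹ = b * (c b)⁻¹ := h
      calc (c a)⁻¹ * c b = a⁻¹ * (a * (c a)⁻¹) * c b := by group
        _ = a⁻¹ * (b * (c b)⁻¹) * c b := by rw [h1]
        _ = _ := by group
    have h2 : φ * ((a⁻¹ * b : Y) : MulAut V) = ((a⁻¹ * b : Y) : MulAut V) * φ :=
      mul_inv_eq_iff_eq_mul.1 (congrArg Subtype.val h')
    exact inv_mul_eq_one.1 (Subtype.ext (hfpf _ (a⁻¹ * b).2 h2))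
  have hfixz : ∀ (z : Y) (v : V), ((z : MulAut V) * φ) v = v → ∀ y ∈ Y, y v = v := by
    intro z v hv y hy
    obtain ⟨w, hw⟩ := hsurj z
    have e : (z : MulAut V) * φ = (w : MulAut V) * φ * (w : MulAut V)⁻¹ := by
      rw [← hw]; simp [c, mul_assoc]
    rw [e] at hv
    have h1 : φ ((w : MulAut V)⁻¹ v) = (w : MulAut V)⁻¹ v := by
      have := congrArg (fun u => (w : MulAut V)⁻¹ u) hv
      simpa [MulAut.mul_apply] using this
    have h2 := hfix _ h1 _ w.2
    rw [MulAut.apply_inv_self] at h2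
    rw [← h2] at h1
    exact hfix v h1 y hy
  -- the twisted powers
  let σ : ℕ → Y → MulAut V := fun j z => ((z : MulAut V) * φ) ^ j * (φ ^ j)⁻¹
  have hσ1 : ∀ j (z : Y), σ (j + 1) z = (z : MulAut V) * (φ * σ j z * φ⁻¹) := fun j z => by
    simp [σ, pow_succ', mul_inv_rev, mul_assoc]
  have hσY : ∀ j (z : Y), σ j z ∈ Y := by
    intro j z
    induction j with
    | zero => simp [σ]
    | succ j ih => rw [hσ1]; exact Y.mul_mem z.2 (hn _ ih)
  have hσmul : ∀ j (z z' : Y), σ j (z * z') = σ j z * σ j z' := by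
    intro j z z'
    induction j with
    | zero => simp [σ]
    | succ j ih =>
      rw [hσ1, hσ1, hσ1, ih]
      have h := hcomm (z' : MulAut V) z'.2 (φ * σ j z * φ⁻¹) (hn _ (hσY j z))
      calc ((z * z' : Y) : MulAut V) * (φ * (σ j z * σ j z') * φ⁻¹)
          = (z : MulAut V) * ((z' : MulAut V) * (φ * σ j z * φ⁻¹)) * (φ * σ j z' * φ⁻¹) := by
            simp [mul_assoc]
        _ = _ := by rw [h]; simp [mul_assoc]
  have hσbij : ∀ j, 0 < j → j < p →
      Function.Bijective fun z : Y => (⟨σ j z, hσY j z⟩ : Y) := by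
    intro j hj hjp
    have hinj : Function.Injective fun z : Y => (⟨σ j z, hσY j z⟩ : Y) := by
      intro a b h
      have h1 : σ j a = σ j b := congrArg Subtype.val h
      have h2 : σ j (a⁻¹ * b) = 1 := by
        have := hσmul j a (a⁻¹ * b)
        rw [mul_inv_cancel_left, ← h1] at this
        exact mul_left_cancel (this.symm.trans (mul_one _).symm)
      have h3 : (((a⁻¹ * b : Y) : MulAut V) * φ) ^ j = φ ^ j := mul_inv_eq_one.1 h2
      obtain ⟨n, hn'⟩ := exists_pow_eq_self_of_coprime (x := φ) (n := j)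
        ((((Fact.out : p.Prime).coprime_iff_not_dvd.2
          (Nat.not_dvd_of_pos_of_lt hj hjp)).symm).coprime_dvd_right (orderOf_dvd_of_pow_eq_one hφp))
      have hc : Commute φ (((a⁻¹ * b : Y) : MulAut V) * φ) := by
        have h4 : Commute ((φ ^ j) ^ n) (((a⁻¹ * b : Y) : MulAut V) * φ) := by
          rw [← h3]; exact ((Commute.refl _).pow_left _).pow_left _
        rwa [hn'] at h4
      refine inv_mul_eq_one.1 (Subtype.ext (hfpf _ (a⁻¹ * b).2 ?_))
      exact mul_right_cancel ((mul_assoc _ _ _).trans hc.eq)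
    exact ⟨hinj, Finite.injective_iff_surjective.1 hinj⟩
  refine (Subgroup.eq_bot_iff_forall Y).2 fun y hy => MulEquiv.ext fun v => ?_
  -- norms
  let N : V → V := fun u => ∏ z : Y, (z : MulAut V) u
  have hN : ∀ u, y (N u) = N u := by
    intro u
    simp only [N, map_prod]
    exact Fintype.prod_equiv (Equiv.mulLeft (⟨y, hy⟩ : Y)) _ _ fun z => by simp [MulAut.mul_apply]
  let g : Y → ℕ → V := fun z j => (((z : MulAut V) * φ) ^ j) v
  have hzp : ∀ z : Y, ((z : MulAut V) * φ) ^ p = 1 := by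
    intro z
    obtain ⟨w, hw⟩ := hsurj z
    rw [show (z : MulAut V) * φ = (w : MulAut V) * φ * (w : MulAut V)⁻¹ by
      rw [← hw]; simp [c, mul_assoc], conj_pow, hφp]
    simp
  have hin : ∀ z : Y, y (∏ j ∈ Finset.range p, g z j) = ∏ j ∈ Finset.range p, g z j := by
    intro z
    refine hfixz z _ ?_ y hy
    rw [map_prod]
    have h0 : ∀ j, ((z : MulAut V) * φ) (g z j) = g z (j + 1) := fun j => by
      simp [g, pow_succ', MulAut.mul_apply]
    simp_rw [h0]
    have hp0 : g z p = g z 0 := by simp only [g, hzp z, pow_zero]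
    have h2 := Finset.prod_range_succ' (g z) p
    rw [Finset.prod_range_succ, hp0] at h2
    exact (mul_right_cancel h2).symm
  have htot : y (∏ z : Y, ∏ j ∈ Finset.range p, g z j) = ∏ z : Y, ∏ j ∈ Finset.range p, g z j := by
    rw [map_prod]
    exact Finset.prod_congr rfl fun z _ => hin z
  rw [Finset.prod_comm] at htot
  obtain ⟨m, hm⟩ : ∃ m, p = m + 1 := ⟨p - 1, (Nat.succ_pred (Fact.out : p.Prime).ne_zero).symm⟩
  have hterm : ∀ j ∈ Finset.range m, ∏ z : Y, g z (j + 1) = N ((φ ^ (j + 1)) v) := by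
    intro j hj
    have hj' : j + 1 < p := by rw [hm]; simpa using hj
    refine Fintype.prod_bijective _ (hσbij (j + 1) (Nat.succ_pos j) hj') _ _ fun z => ?_
    change g z (j + 1) = (σ (j + 1) z) ((φ ^ (j + 1)) v)
    simp only [σ, g, MulAut.mul_apply, MulAut.inv_apply_self]
  have hr : Finset.range p = Finset.range (m + 1) := congrArg Finset.range hm
  rw [hr, Finset.prod_range_succ' (fun j => ∏ z : Y, g z j), map_mul, map_prod,
    Finset.prod_congr rfl hterm,
    Finset.prod_congr rfl (fun j hj => (congrArg y (hterm j hj)).trans (hN _))] at htot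
  have h1 := mul_left_cancel htot
  simp only [g, pow_zero, MulAut.one_apply, Finset.prod_const, Finset.card_univ, map_pow] at h1
  have h2 : (y v * v⁻¹) ^ Fintype.card Y = 1 := by rw [mul_pow, inv_pow, h1, mul_inv_cancel]
  have h3 : orderOf (y v * v⁻¹) = 1 := Nat.dvd_one.1 <| hcop ▸
    Nat.dvd_gcd (by rw [Nat.card_eq_fintype_card]; exact orderOf_dvd_of_pow_eq_one h2)
      (orderOf_dvd_natCard _)
  rw [orderOf_eq_one_iff, mul_inv_eq_one] at h3
  exact h3

end Aut

variable {G : Type*} [Group G] [Finite G] {p : ℕ} [Fact p.Prime]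

theorem centralizer_le_normalizer_of_le {X L : Subgroup G} (h : X ≤ centralizer (L : Set G)) :
    X ≤ normalizer (L : Set G) := h.trans (centralizer_le_normalizer _)

/-- The fixed point free lemma: if `C_Y(f)` centralises `L` and `Y` centralises `C_L(f)`, then `Y`
centralises `L`. -/
theorem le_centralizer_of_fpf {f : G} (hf : f ^ p = 1) {Y L : Subgroup G}
    (hYs : Group.IsSolvable Y) (hLs : Group.IsSolvable L)
    (hpY : ¬ p ∣ Nat.card Y) (hpL : ¬ p ∣ Nat.card L)
    (hcop : (Nat.card Y).Coprime (Nat.card L))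
    (hYL : Y ≤ normalizer (L : Set G)) (hfY : f ∈ normalizer (Y : Set G))
    (hfL : f ∈ normalizer (L : Set G))
    (h1 : Y ⊓ centralizer {f} ≤ centralizer (L : Set G))
    (h2 : L ⊓ centralizer {f} ≤ centralizer (Y : Set G)) :
    Y ≤ centralizer (L : Set G) := by
  induction hn : Nat.card L using Nat.strong_induction_on generalizing L Y with
  | _ n ihL =>
  subst hn
  induction hn' : Nat.card Y using Nat.strong_induction_on generalizing Y with
  | _ n ihY =>
  subst hn'
  by_cases hL0 : L = ⊥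
  · subst hL0
    intro y _ u hu
    rw [mem_bot.1 hu, one_mul, mul_one]
  by_cases hY0 : Y = ⊥
  · rw [hY0]; exact bot_le
  haveI := hYs
  haveI := hLs
  have hLL : ⁅L, L⁆ < L := Solvable.commutator_lt_of_solvable hL0
  have hYY : ⁅Y, Y⁆ < Y := Solvable.commutator_lt_of_solvable hY0
  have hcard : ∀ {X K : Subgroup G}, X < K → Nat.card X < Nat.card K := fun {X K} h =>
    (Subgroup.card_le_of_le h.le).lt_of_ne fun he =>
      h.ne (Subgroup.eq_of_le_of_card_ge h.le he.ge)
  have hM : Y ≤ centralizer ((⁅L, L⁆ : Subgroup G) : Set G) :=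
    ihL _ (hcard hLL) hYs (Coprime.isSolvable_of_le hLL.le hLs) hpY
      (not_dvd_card_of_le hLL.le hpL) (hcop.coprime_dvd_right (card_dvd_of_le hLL.le))
      (hYL.trans (normalizer_le_normalizer_commutator L)) hfY
      (normalizer_le_normalizer_commutator L hfL)
      (h1.trans (centralizer_le hLL.le)) ((inf_le_inf_right _ hLL.le).trans h2) rfl
  have hY' : ⁅Y, Y⁆ ≤ centralizer (L : Set G) :=
    ihY _ (hcard hYY) (Coprime.isSolvable_of_le hYY.le hYs)
      (not_dvd_card_of_le hYY.le hpY) (hcop.coprime_dvd_left (card_dvd_of_le hYY.le))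
      (hYY.le.trans hYL) (normalizer_le_normalizer_commutator Y hfY)
      ((inf_le_inf_right _ hYY.le).trans h1) (h2.trans (centralizer_le hYY.le)) rfl
  -- the action on the abelianisation of `L`
  let ψ : normalizer (L : Set G) →* MulAut (Abelianization L) :=
    (abelianizationAut L).comp (normalizerMonoidHom L)
  let Y' : Subgroup (normalizer (L : Set G)) := Y.subgroupOf (normalizer (L : Set G))
  let φ := ψ ⟨f, hfL⟩
  have hmapM : (commutator L).map L.subtype = ⁅L, L⁆ := Subgroup.map_subtype_commutator L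
  have hcen : ∀ {x : G} (hx : x ∈ normalizer (L : Set G)), x ∈ centralizer (L : Set G) →
      ψ ⟨x, hx⟩ = 1 := by
    intro x hx hxc
    refine MulEquiv.ext fun v => ?_
    obtain ⟨k, rfl⟩ : ∃ k : L, Abelianization.of k = v := QuotientGroup.mk_surjective v
    rw [MonoidHom.comp_apply, abelianizationAut_normalizer_apply, MulAut.one_apply]
    refine congrArg _ (Subtype.ext ?_)
    change x * k * x⁻¹ = k
    rw [← mem_centralizer_iff.1 hxc k k.2, mul_inv_cancel_right]
  have hzf : IsPGroup p (zpowers f) := isPGroup_zpowers_of_pow_eq_one hf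
  have hbot : Y'.map ψ = ⊥ := by
    refine eq_bot_of_fpf_aut (p := p) (Y'.map ψ) φ ?_ ?_ ?_ ?_ ?_ ?_
    · rw [← map_pow, show (⟨f, hfL⟩ : normalizer (L : Set G)) ^ p = 1 from
        Subtype.ext (by simpa using hf), map_one]
    · rintro _ ⟨y, hy, rfl⟩
      exact ⟨⟨f, hfL⟩ * y * ⟨f, hfL⟩⁻¹, conj_mem le_rfl hfY hy,
        by simp only [φ, map_mul, map_inv]⟩
    · rintro _ ⟨y, hy, rfl⟩ _ ⟨z, hz, rfl⟩
      have h : ψ ⁅y, z⁆ = 1 := hcen (⁅y, z⁆).2
        (hY' (by
          have h' := commutator_mem_commutator (mem_subgroupOf.1 hy) (mem_subgroupOf.1 hz)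
          simpa [commutatorElement_def] using h'))
      rw [map_commutatorElement, commutatorElement_eq_one_iff_mul_comm] at h
      exact h
    · refine (hcop.coprime_dvd_left ?_).coprime_dvd_right (card_quotient_dvd_card _)
      exact (card_map_dvd _ ψ).trans (dvd_of_eq (Cores.card_subgroupOf hYL))
    · rintro _ ⟨y, hy, rfl⟩ hyf
      -- lift a fixed automorphism to a fixed element
      set Kr : Subgroup G := ((Y' ⊓ ψ.ker).map (normalizer (L : Set G)).subtype) with hKr
      have hKrY : Kr ≤ Y := by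
        rintro _ ⟨k, hk, rfl⟩; exact hk.1
      have hmemKr : ∀ {k : normalizer (L : Set G)}, (k : G) ∈ Y → ψ k = 1 → (k : G) ∈ Kr :=
        fun {k} h h' => ⟨k, ⟨h, h'⟩, rfl⟩
      obtain ⟨n, hn, hny⟩ := exists_fixed_in_coset (A := zpowers f) (N := Kr) hzf
        (zpowers_le.2 (mem_normalizer_of_conj_mem (by
          rintro _ ⟨k, hk, rfl⟩
          refine hmemKr (k := ⟨f, hfL⟩ * k * ⟨f, hfL⟩⁻¹) (conj_mem le_rfl hfY hk.1) ?_
          rw [map_mul, map_mul, (MonoidHom.mem_ker.1 hk.2), map_inv, mul_one, mul_inv_cancel])))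
        (not_dvd_card_of_le hKrY hpY) (y : G) (fun a ha => by
          obtain ⟨i, rfl⟩ := ha
          have hfi : f ^ i ∈ normalizer (Y : Set G) := zpow_mem hfY i
          have e : f ^ i * (y : G) * (f ^ i)⁻¹ * (y : G)⁻¹ =
              ((⟨f, hfL⟩ ^ i * y * (⟨f, hfL⟩ ^ i)⁻¹ * y⁻¹ : normalizer (L : Set G)) : G) := by simp
          refine e ▸ hmemKr ?_ ?_
          · rw [← e]; exact Y.mul_mem (conj_mem le_rfl hfi hy) (Y.inv_mem hy)
          rw [map_mul, map_mul, map_mul, map_inv, map_inv, map_zpow]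
          rw [((show Commute φ (ψ y) from hyf).zpow_left i).eq]
          simp [φ, mul_assoc])
      have hn' : (⟨n, hYL (hKrY hn)⟩ : normalizer (L : Set G)) ∈ ψ.ker := by
        obtain ⟨k, hk, hkn⟩ := hn
        have e : k = ⟨n, hYL (hKrY ⟨k, hk, hkn⟩)⟩ := Subtype.ext hkn
        exact e ▸ hk.2
      have hnyC : n * (y : G) ∈ centralizer (L : Set G) :=
        h1 ⟨Y.mul_mem (hKrY hn) hy, centralizer_le_singleton (mem_zpowers f) hny⟩
      have h := hcen (mul_mem (hYL (hKrY hn)) y.2) hnyC
      rwa [show (⟨n * (y : G), _⟩ : normalizer (L : Set G)) = ⟨n, hYL (hKrY hn)⟩ * y from rfl,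
        map_mul, MonoidHom.mem_ker.1 hn', one_mul] at h
    · rintro v hv _ ⟨y, hy, rfl⟩
      obtain ⟨k, rfl⟩ : ∃ k : L, Abelianization.of k = v := QuotientGroup.mk_surjective v
      obtain ⟨n, hn, hnk⟩ := exists_fixed_in_coset (A := zpowers f) (N := ⁅L, L⁆) hzf
        (zpowers_le.2 (normalizer_le_normalizer_commutator L hfL))
        (not_dvd_card_of_le hLL.le hpL) (k : G) (fun a ha => by
          obtain ⟨i, rfl⟩ := ha
          have hst : φ ∈ MulAction.stabilizer (MulAut (Abelianization L)) (Abelianization.of k) :=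
            hv
          have hi := zpow_mem hst i
          rw [← map_zpow] at hi
          have hfi : f ^ i ∈ normalizer (L : Set G) := zpow_mem hfL i
          have hi' : ψ ⟨f ^ i, hfi⟩ (Abelianization.of k) = Abelianization.of k := by
            rw [show (⟨f ^ i, hfi⟩ : normalizer (L : Set G)) = ⟨f, hfL⟩ ^ i from
              Subtype.ext (by simp)]
            exact hi
          rw [MonoidHom.comp_apply, abelianizationAut_normalizer_apply] at hi'
          rw [← hmapM]
          exact ⟨_, (QuotientGroup.eq_iff_div_mem).1 hi', by simp [div_eq_mul_inv]⟩)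
      have hnkC : n * (k : G) ∈ centralizer (Y : Set G) :=
        h2 ⟨L.mul_mem (hLL.le hn) k.2, centralizer_le_singleton (mem_zpowers f) hnk⟩
      obtain ⟨y₀, hy₀⟩ := y
      change y₀ ∈ Y at hy
      change ψ _ _ = _
      have hyn : y₀ * n * y₀⁻¹ = n := by
        rw [← (mem_centralizer_iff.1 (hM hy) n hn : n * y₀ = y₀ * n), mul_inv_cancel_right]
      have hyk : y₀ * k * y₀⁻¹ = k := by
        have h := mem_centralizer_iff.1 hnkC y₀ hy
        calc y₀ * k * y₀⁻¹
            = (y₀ * n * y₀⁻¹)⁻¹ * (y₀ * (n * k) * y₀⁻¹) := by group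
          _ = n⁻¹ * (n * k) := by rw [hyn, h, mul_inv_cancel_right]
          _ = k := by group
      rw [MonoidHom.comp_apply, abelianizationAut_normalizer_apply]
      exact congrArg _ (Subtype.ext hyk)
  -- so `[L, Y] ≤ [L, L]`, which `Y` centralises
  have hLY : ⁅L, Y⁆ ≤ ⁅L, L⁆ := by
    rw [Subgroup.commutator_le]
    intro l hl y hy
    have h : ψ ⟨y, hYL hy⟩ = 1 := mem_bot.1 (hbot ▸ ⟨_, hy, rfl⟩)
    have h' := DFunLike.congr_fun h (Abelianization.of ⟨l, hl⟩)
    rw [MonoidHom.comp_apply, abelianizationAut_normalizer_apply, MulAut.one_apply] at h'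
    rw [← hmapM]
    refine ⟨_, (QuotientGroup.eq_iff_div_mem).1 h'.symm, ?_⟩
    simp [div_eq_mul_inv, commutatorElement_def, mul_assoc]
  have h0 := Coprime.commutator_commutator_eq hYL hcop (Or.inr hLs)
  rw [commutator_eq_bot_iff_le_centralizer.2 (hLY.trans (le_centralizer_iff.1 hM))] at h0
  rw [le_centralizer_iff, ← commutator_eq_bot_iff_le_centralizer]
  exact h0.symm

end Cfsg.Agent.Signalizer
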