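import Cfsg.Agent.Lib.Signalizer.SSFT.Good

/-!
# Coprime action and the cores

* `le_centralizer_of_cores`: an element centralising all cores of a solvable `p'`-group centralises it
* `hasCharP_of_pure`, `center_core_ne_bot`
-/

set_option autoImplicit false
set_option linter.unusedSectionVars false

namespace Cfsg.Agent.Signalizer

open Subgroup LocalCharP
open scoped commutatorElement

variable {G : Type*} [Group G] [Finite G] {p : ℕ} [hp : Fact p.Prime]

/-- A subgroup containing a Sylow subgroup for every prime is the whole group. -/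
theorem le_of_sylow_le {K W : Subgroup G}
    (h : ∀ r : ℕ, r.Prime → ∀ x ∈ K, ∀ n : ℕ, x ^ r ^ n = 1 → x ∈ W) : K ≤ W := by
  refine le_trans ?_ (inf_le_right : K ⊓ W ≤ W)
  refine (Subgroup.eq_of_le_of_card_ge inf_le_left (Nat.le_of_dvd Nat.card_pos ?_)).ge
  rw [← Nat.factorization_prime_le_iff_dvd Nat.card_pos.ne' Nat.card_pos.ne']
  intro r hr
  haveI := Fact.mk hr
  obtain ⟨P⟩ : Nonempty (Sylow r K) := inferInstance
  refine (hr.pow_dvd_iff_le_factorization Nat.card_pos.ne').1 ?_
  rw [← P.card_eq_multiplicity]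
  have hle : (P : Subgroup K).map K.subtype ≤ K ⊓ W := by
    rintro _ ⟨x, hx, rfl⟩
    obtain ⟨n, hn⟩ := P.isPGroup' ⟨x, hx⟩
    exact ⟨x.2, h r hr _ x.2 n (by simpa [Subtype.ext_iff] using hn)⟩
  rw [← Cores.card_map_subtype K (P : Subgroup K)]
  exact card_dvd_of_le hle

/-- An element of order `p` centralising all cores of a solvable `p'`-group centralises it. -/
theorem le_centralizer_of_cores {f : G} (hf : f ^ p = 1) {K : Subgroup G} (hK : Group.IsSolvable K)
    (hpK : ¬ p ∣ Nat.card K) (hfK : f ∈ normalizer (K : Set G))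
    (hc : ∀ t : ℕ, t.Prime → t ∣ Nat.card K → pCoreIn t K ≤ centralizer {f}) :
    K ≤ centralizer {f} := by
  have hF : zpowers f ≤ normalizer (K : Set G) := zpowers_le.2 hfK
  have hz : centralizer ({f} : Set G) = centralizer (zpowers f : Set G) := by
    rw [zpowers_eq_closure, centralizer_closure]
  set W := ⁅K, zpowers f⁆ with hW
  have hWK : W ≤ K := Coprime.commutator_le_left' hF
  have hWC : ∀ t : ℕ, t.Prime → t ∣ Nat.card K → W ≤ centralizer (pCoreIn t K : Set G) := by
    intro t ht htd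
    have h1 : pCoreIn t K ≤ centralizer (zpowers f : Set G) := hz ▸ hc t ht htd
    rw [hW, ← commutator_eq_bot_iff_le_centralizer]
    refine commutator_commutator_eq_bot_of_rotate ?_ ?_
    · rw [commutator_comm (zpowers f), commutator_eq_bot_iff_le_centralizer.2 h1,
        commutator_bot_left]
    · rw [commutator_eq_bot_iff_le_centralizer]
      exact le_trans (Subgroup.le_normalizer_iff_commutator_le_left.1 (le_normalizer_pCoreIn t K)) h1
  have hWf : W ≤ centralizer (zpowers f : Set G) := by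
    refine le_of_sylow_le fun r hr x hx n hn => ?_
    haveI := Fact.mk hr
    have hxr : x ∈ pCoreIn r K :=
      mem_pCoreIn_of_centralizes hK (hWK hx) hn fun t ht htd => hWC t ht htd hx
    by_cases hd : r ∣ Nat.card K
    · exact hz ▸ hc r hr hd hxr
    · have hx1 : x = 1 := by
        obtain ⟨i, -, hi⟩ := (Nat.dvd_prime_pow hr).1 (orderOf_dvd_of_pow_eq_one hn)
        rcases Nat.eq_zero_or_pos i with rfl | hi0
        · rw [pow_zero] at hi; exact orderOf_eq_one_iff.1 hi
        · refine absurd ((hi ▸ dvd_pow_self r hi0.ne').trans ?_) hd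
          rw [← Subgroup.orderOf_mk x (hWK hx)]
          exact _root_.orderOf_dvd_natCard _
      rw [hx1]; exact one_mem _
  have hcop : (Nat.card (zpowers f)).Coprime (Nat.card K) := by
    obtain ⟨i, hi⟩ := IsPGroup.iff_card.mp (isPGroup_zpowers_of_pow_eq_one hf)
    rw [hi]
    exact Nat.Coprime.pow_left i (hp.out.coprime_iff_not_dvd.2 hpK)
  have h0 := Coprime.commutator_commutator_eq hF hcop (Or.inr hK)
  rw [commutator_eq_bot_iff_le_centralizer.2 hWf] at h0
  rw [hz]
  exact commutator_eq_bot_iff_le_centralizer.1 h0.symm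

/-- With trivial cores for the other primes `O_q` is self-centralising. -/
theorem hasCharP_of_pure {q : ℕ} [Fact q.Prime] {K : Subgroup G} (hK : Group.IsSolvable K)
    (h : ∀ t : ℕ, t.Prime → t ≠ q → t ∣ Nat.card K → pCoreIn t K = ⊥) : HasCharP q K := by
  refine hasCharP_of_forall fun x hx hxc ho => ?_
  by_contra hx1
  obtain ⟨r, hr, hd⟩ := Nat.exists_prime_and_dvd (n := orderOf x)
    (fun h1 => hx1 (orderOf_eq_one_iff.1 h1))
  haveI := Fact.mk hr
  set y := x ^ (orderOf x / r) with hy
  have hyo : orderOf y = r := orderOf_pow_orderOf_div (orderOf_pos x).ne' hd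
  have hrq : r ≠ q := fun h' =>
    hr.ne_one (Nat.eq_one_of_dvd_coprimes ho hd (h' ▸ dvd_refl r))
  have hyK : y ∈ K := pow_mem hx _
  have hrK : r ∣ Nat.card K := by
    rw [← hyo, ← Subgroup.orderOf_mk y hyK]; exact _root_.orderOf_dvd_natCard _
  have hyn : y ^ r ^ 1 = 1 := by rw [pow_one, ← hyo, pow_orderOf_eq_one]
  have hy1 := mem_pCoreIn_of_centralizes hK hyK hyn fun t ht htd => by
    by_cases htq : t = q
    · exact htq ▸ pow_mem hxc _
    · rw [h t ht htq htd]; simp [Subgroup.mem_centralizer_iff]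
  rw [h r hr hrq hrK, mem_bot] at hy1
  rw [hy1, orderOf_one] at hyo
  exact hr.one_lt.ne hyo

/-- A nontrivial subgroup normalised by a `q`-group containing it meets its centre. -/
theorem exists_mem_centralizing {q : ℕ} [Fact q.Prime] {X Q : Subgroup G} (hQ : IsPGroup q Q)
    (hXQ : X ≤ Q) (hn : Q ≤ normalizer (X : Set G)) (hX : X ≠ ⊥) :
    ∃ x ∈ X, x ≠ 1 ∧ x ∈ centralizer (Q : Set G) := by
  haveI := hQ.isNilpotent
  haveI : (X.subgroupOf Q).Normal := normal_subgroupOf_of_le_normalizer hn
  have h := Cores.inf_center_ne_bot (X.subgroupOf Q) (fun h => hX (by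
    rw [← map_subgroupOf_eq_of_le hXQ, h, Subgroup.map_bot]))
  obtain ⟨⟨x, hxQ⟩, hx, hx1⟩ : ∃ x ∈ X.subgroupOf Q ⊓ center Q, x ≠ 1 := by
    by_contra hc
    push Not at hc
    exact h ((Subgroup.eq_bot_iff_forall _).2 hc)
  refine ⟨x, hx.1, fun h1 => hx1 (Subtype.ext h1), fun y hy => ?_⟩
  exact congrArg Subtype.val (mem_center_iff.1 hx.2 ⟨y, hy⟩)

end Cfsg.Agent.Signalizer
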