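import Cfsg.Agent.Lib.Signalizer.SSFT.Fitting
import Cfsg.Agent.Lib.Signalizer.SSFT.Triple

/-!
# Shared facts on a counterexample

* `ThetaPrime`, `Setup.thetaPrime_of_dvd`
* `Setup.qMem_le_piMem`, `Setup.pCoreIn_theta_le_qMem`, `Counter.false_of_qMem_le`
* `commute_of_isPGroup`, `Setup.mem_centralizer_line`
-/

set_option autoImplicit false
set_option linter.unusedSectionVars false

namespace Cfsg.Agent.Signalizer

open Subgroup LocalCharP
open scoped commutatorElement

/-- Mutually normalising subgroups of orders powers of different primes commute. -/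
theorem commute_of_isPGroup {G : Type*} [Group G] [Finite G] {q r : ℕ} [Fact q.Prime] [Fact r.Prime]
    (hqr : q ≠ r) {X Y : Subgroup G} (hX : IsPGroup q X) (hY : IsPGroup r Y)
    (hXY : X ≤ normalizer (Y : Set G)) (hYX : Y ≤ normalizer (X : Set G)) :
    X ≤ centralizer (Y : Set G) :=
  commute_of_inf_eq_bot hXY hYX (inf_eq_bot_of_isPGroup hqr hX hY)

theorem commutatorElement_mem_left {G : Type*} [Group G] {X : Subgroup G} {x y : G} (hx : x ∈ X)
    (hy : y ∈ normalizer (X : Set G)) : ⁅x, y⁆ ∈ X := by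
  rw [commutatorElement_def, mul_assoc, mul_assoc, ← mul_assoc y]
  exact X.mul_mem hx (conj_mem le_rfl hy (X.inv_mem hx))

theorem commutatorElement_mem_right {G : Type*} [Group G] {X : Subgroup G} {x y : G} (hy : y ∈ X)
    (hx : x ∈ normalizer (X : Set G)) : ⁅x, y⁆ ∈ X := by
  rw [commutatorElement_def]
  exact X.mul_mem (conj_mem le_rfl hx hy) (X.inv_mem hy)

theorem eq_one_of_mem_of_mem {G : Type*} [Group G] [Finite G] {q r : ℕ} [Fact q.Prime]
    [Fact r.Prime] (hqr : q ≠ r) {X Y : Subgroup G} (hX : IsPGroup q X) (hY : IsPGroup r Y) {x : G}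
    (hxX : x ∈ X) (hxY : x ∈ Y) : x = 1 :=
  mem_bot.1 (inf_eq_bot_of_isPGroup hqr hX hY ▸ mem_inf.2 ⟨hxX, hxY⟩)

namespace SSFT

universe u

variable {G : Type u} [Group G] {p : ℕ} {A : Subgroup G} {θ : G → Subgroup G}

/-- A prime divisor of the order of a value. -/
def ThetaPrime (A : Subgroup G) (θ : G → Subgroup G) (q : ℕ) : Prop :=
  q.Prime ∧ ∃ a ∈ A, a ≠ 1 ∧ q ∣ Nat.card (θ a)

theorem ThetaPrime.prime {q : ℕ} (h : ThetaPrime A θ q) : q.Prime := h.1

variable [Finite G] [hp : Fact p.Prime]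

namespace Setup

variable (S : Setup p A θ)
include S

theorem thetaPrime_of_dvd {K : Subgroup G} (hK : K ∈ Cfsg.signalizerFamily p A θ) {r : ℕ}
    (hr : r.Prime) (hd : r ∣ Nat.card K) : ThetaPrime A θ r := by
  haveI := Fact.mk hr
  obtain ⟨R, hR, hAR⟩ := exists_invariant_sylow (q := r) S.isPGroup K hK.2.1
    (invariant_of_mem_family hK)
  refine ⟨hr, ?_⟩
  by_contra h
  push Not at h
  have hR1 : R = ⊥ := le_bot_iff.1 (S.le_of_points (mem_family_of_le hK hR.1 hAR) fun a ha ha1 => by
    by_contra hne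
    obtain ⟨i, hi⟩ := IsPGroup.iff_card.mp (hR.2.1.to_le (inf_le_left : R ⊓ θ a ≤ R))
    have hi0 : i ≠ 0 := by
      rintro rfl
      exact hne (Subgroup.card_eq_one.1 (by simpa using hi)).le
    exact h a ha ha1 ((dvd_pow_self r hi0).trans (hi ▸ card_dvd_of_le inf_le_right)))
  subst hR1
  exact hR.2.2 (by rw [Subgroup.relIndex_bot_left]; exact hd)

theorem qMem_le_piMem {π : Set ℕ} {q : ℕ} (hq : q ∈ π) :
    piMem ({q} : Set ℕ) A θ ≤ piMem π A θ :=
  piMem_mono (by rintro r rfl; exact hq)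

theorem pCoreIn_theta_le_qMem {q : ℕ} [Fact q.Prime] {a : G} (ha : a ∈ A) (ha1 : a ≠ 1) :
    pCoreIn q (θ a) ≤ piMem ({q} : Set ℕ) A θ :=
  S.pCoreIn_le_qMem (S.theta_mem ha ha1) ((S.core_le ha ha1).trans le_normalizer)

/-- Two independent points of a line generate it. -/
theorem mem_centralizer_line {B : Subgroup G} (hB : Line p A B) {d e : G} (hd : d ∈ B) (hd1 : d ≠ 1)
    (he : e ∈ B) (hed : e ∉ zpowers d) {x : G} (hxd : x ∈ centralizer ({d} : Set G))
    (hxe : x ∈ centralizer ({e} : Set G)) : x ∈ centralizer (B : Set G) := by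
  have h := card_sup_zpowers S.elem (zpowers_le.2 (hB.1 hd)) (hB.1 he) hed
  rw [Nat.card_zpowers, orderOf_eq_prime (S.pow_eq (hB.1 hd)) hd1, ← sq] at h
  have e1 : zpowers d ⊔ zpowers e = B := Subgroup.eq_of_le_of_card_ge
    (sup_le (zpowers_le.2 hd) (zpowers_le.2 he)) (by rw [h, S.line_card hB])
  rw [← zpowers_le, le_centralizer_iff]
  conv_lhs => rw [← e1]
  refine sup_le ?_ ?_
  · rw [le_centralizer_iff, zpowers_le, zpowers_eq_closure d, centralizer_closure]; exact hxd
  · rw [le_centralizer_iff, zpowers_le, zpowers_eq_closure e, centralizer_closure]; exact hxe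

/-- Nontrivial powers of a point have the same centraliser. -/
theorem centralizer_eq_of_mem_zpowers {d e : G} (hd : d ∈ A) (he : e ∈ zpowers d) (he1 : e ≠ 1) :
    centralizer ({e} : Set G) = centralizer {d} := by
  have hd1 : d ≠ 1 := by
    rintro rfl
    exact he1 (mem_bot.1 (by simpa using he))
  have heq : zpowers e = zpowers d := Subgroup.eq_of_le_of_card_ge (zpowers_le.2 he) (by
    rw [Nat.card_zpowers, Nat.card_zpowers, orderOf_eq_prime (S.pow_eq hd) hd1,
      orderOf_eq_prime (S.pow_eq ((zpowers_le.2 hd) he)) he1])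
  rw [← centralizer_closure, ← zpowers_eq_closure, heq, zpowers_eq_closure, centralizer_closure]

end Setup

namespace Counter

variable (C : Counter p A θ)
include C

/-- A point centralising all `piMem {t}` gives a top. -/
theorem false_of_qMem_le {h : G} (hh : h ∈ A) (hh1 : h ≠ 1)
    (hc : ∀ t, ThetaPrime A θ t → piMem ({t} : Set ℕ) A θ ≤ centralizer {h}) : False :=
  C.false_of_centralizer hh hh1 fun a ha ha1 =>
    le_centralizer_of_cores (C.toSetup.pow_eq hh) (C.toSetup.solv ha ha1) (C.toSetup.not_dvd ha ha1)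
      (C.toSetup.inv ha ha1 hh) fun t ht htd => by
        haveI := Fact.mk ht
        exact (C.toSetup.pCoreIn_theta_le_qMem ha ha1).trans (hc t ⟨ht, a, ha, ha1, htd⟩)

/-- `θ(C(A))` lies in the container of every subgroup it normalises. -/
theorem core_le_norC {N : Subgroup G} (hN : Cfsg.signalizerInf A θ ≤ normalizer (N : Set G)) :
    Cfsg.signalizerInf A θ ≤ norC A θ N :=
  C.le_norC C.toSetup.core_mem hN

end Counter

end SSFT

end Cfsg.Agent.Signalizer
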