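import Cfsg.Agent.Lib.FFPair.Orbit
import Cfsg.Agent.Lib.FFPair.Factors
import Cfsg.Agent.Lib.Signalizer.SSFT.Fitting

/-!
# Failure of factorisation pairs with an operator group

* `exists_diag_closure`: diagonal elements
* `ff_le_centralizer`: a `q`-group normalised by an operator group and by its fixed points in the
  `q'`-part centralises the whole pair
-/

set_option autoImplicit false
set_option linter.unusedSectionVars false

namespace Cfsg.Agent.Signalizer

open Subgroup
open scoped commutatorElement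

variable {X : Type*} [Group X] [Finite X] {p q : ℕ} [hp : Fact p.Prime] [hq : Fact q.Prime]
  {U H K : Subgroup X}

theorem operator_prime (hF : FFPair.IsFF q U H K) {T : Subgroup X} (hT : T ≤ H)
    (hTv : FFPair.IsTv q U T) (hpq : p ≠ q) (hpK : ¬ p ∣ Nat.card K) : p ≠ 2 ∧ p ≠ 3 := by
  obtain ⟨hf, -⟩ := hF.exists_factor hT hTv
  have hd : q ^ 2 - 1 ∣ Nat.card K :=
    hf.card ▸ card_dvd_of_le (hf.eq_inf.le.trans inf_le_right)
  rcases hf.small with rfl | rfl
  · exact ⟨hpq, fun h => hpK (h ▸ hd)⟩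
  · exact ⟨fun h => hpK (h ▸ (show 2 ∣ 3 ^ 2 - 1 by norm_num).trans hd), hpq⟩

/-- Diagonal elements lie in the group generated by the conjugates. -/
theorem exists_diag_closure (hF : FFPair.IsFF q U H K) {T B : Subgroup X} (hT : T ≤ H)
    (hTv : FFPair.IsTv q U T) (hB : Cfsg.IsElementaryAbelian p B) (hpq : p ≠ q)
    (hpK : ¬ p ∣ Nat.card K) (hBV : B ≤ normalizer (U : Set X)) (hBH : B ≤ normalizer (H : Set X))
    (hBK : B ≤ normalizer (K : Set X)) {e : X} (he : e ∈ FFPair.factor K T) :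
    ∃ d, d ∈ closure ((fun b : B => (b : X) * e * (b : X)⁻¹) '' Set.univ) ∧
      d ∈ centralizer (B : Set X) ∧
      ∀ a, a ∈ FFPair.factor K T ∨ a ∈ ⁅U, FFPair.factor K T⁆ → d * a * d⁻¹ = e * a * e⁻¹ := by
  classical
  cases nonempty_fintype X
  obtain ⟨hp2, hp3⟩ := operator_prime hF hT hTv hpq hpK
  obtain ⟨hf, hEH, -, -, -⟩ := hF.exists_factor hT hTv
  set E := FFPair.factor K T
  change FFPair.IsFactor q U K T ⁅K, T⁆ E _ at hf
  set c : B → X := fun x => (x : X) * e * (x : X)⁻¹
  set F : Finset X := Finset.univ.image c with hFdef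
  have hmemF : ∀ {t}, t ∈ F → ∃ x ∈ B, x * e * x⁻¹ = t := fun ht => by
    obtain ⟨x, -, rfl⟩ := Finset.mem_image.1 ht
    exact ⟨x, x.2, rfl⟩
  have hsep : ∀ {t}, t ∈ F → t = e ∨ ∀ a : X, a ∈ E ∨ a ∈ ⁅U, E⁆ → Commute a t := by
    intro t ht
    obtain ⟨x, hx, rfl⟩ := hmemF ht
    have hTx : FFPair.IsTv q U (T.map (MulAut.conj x).toMonoidHom) := hTv.conj (hBV hx)
    have hAx : T.map (MulAut.conj x).toMonoidHom ≤ H := by
      rintro _ ⟨a, ha, rfl⟩
      exact (mem_normalizer_iff.1 (hBH hx) a).1 (hT ha)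
    rcases hF.eq_or_commute hT hTv hAx hTx with h | ⟨h, -, h2⟩
    · left
      rw [← FFPair.factor_conj (hBK hx)] at h
      have hz := hf.centralizes hp2 hp3 (hBV hx) (hB.2 x hx) (PLocal.mem_normalizer_iff_map_eq.2 h)
      rw [← mem_centralizer_iff.1 hz e he, mul_inv_cancel_right]
    · right
      intro a ha
      rw [← FFPair.factor_conj (hBK hx)] at h h2
      rcases ha with ha | ha
      · exact mem_centralizer_iff.1 (h ⟨e, he, rfl⟩) a ha
      · exact (mem_centralizer_iff.1 (h2 ha).2 _ ⟨e, he, rfl⟩).symm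
  have hconjF : ∀ {x}, x ∈ B → ∀ {t}, t ∈ F → x * t * x⁻¹ ∈ F := fun {x} hx {t} ht => by
    obtain ⟨y, hy, rfl⟩ := hmemF ht
    exact Finset.mem_image.2 ⟨⟨x * y, B.mul_mem hx hy⟩, Finset.mem_univ _, by simp [c, mul_assoc]⟩
  have hcomm : (F : Set X).Pairwise (Function.onFun Commute id) := by
    intro s hs t ht hst
    obtain ⟨x, hx, rfl⟩ := hmemF hs
    have ht' : x⁻¹ * t * x ∈ F := by simpa using hconjF (B.inv_mem hx) ht
    rcases hsep ht' with h | h
    · exact absurd (by rw [← h]; group) hst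
    · have h' := (h e (Or.inl he)).map (MulAut.conj x).toMonoidHom
      simp only [MulEquiv.coe_toMonoidHom, MulAut.conj_apply] at h'
      rw [show x * (x⁻¹ * t * x) * x⁻¹ = t by group] at h'
      exact h'
  refine ⟨F.noncommProd id hcomm, Subgroup.noncommProd_mem _ hcomm (fun t ht => ?_),
    mem_centralizer_iff.2 fun x hx => ?_, fun a ha => ?_⟩
  · obtain ⟨x, -, rfl⟩ := Finset.mem_image.1 ht
    exact subset_closure ⟨x, trivial, rfl⟩
  · suffices h : MulAut.conj x (F.noncommProd id hcomm) = F.noncommProd id hcomm by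
      rw [MulAut.conj_apply] at h
      exact mul_inv_eq_iff_eq_mul.1 h
    rw [Finset.map_noncommProd]
    have hmap : F.map ⟨MulAut.conj x, (MulAut.conj x).injective⟩ = F := by
      refine Finset.eq_of_subset_of_card_le (fun t ht => ?_) (Finset.card_map _).ge
      obtain ⟨s, hs, rfl⟩ := Finset.mem_map.1 ht
      exact hconjF hx hs
    unfold Finset.noncommProd
    congr 1
    conv_rhs => rw [← hmap, Finset.map_val, Multiset.map_map]
    rfl
  · have heF : e ∈ F := Finset.mem_image.2 ⟨⟨1, B.one_mem⟩, Finset.mem_univ _, by simp [c]⟩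
    rw [← Finset.mul_noncommProd_erase F heF id hcomm]
    have hr : ∀ hc, Commute a ((F.erase e).noncommProd id hc) := fun hc =>
      Finset.noncommProd_commute _ _ _ _ fun t ht => by
        obtain ⟨hne, ht'⟩ := Finset.mem_erase.1 ht
        exact ((hsep ht').resolve_left hne) a ha
    have hr' := hr (hcomm.mono (Finset.coe_subset.2 (Finset.erase_subset e F)))
    revert hr'
    generalize (F.erase e).noncommProd id _ = r
    intro hr
    calc (id e * r) * a * (id e * r)⁻¹ = e * (r * a) * r⁻¹ * e⁻¹ := by simp only [id_eq]; group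
      _ = _ := by rw [← hr.eq]; group

/-- A `q`-group normalised by the operators and by their fixed points centralises the pair. -/
theorem ff_le_centralizer (hF : FFPair.IsFF q U H K)
    (hgen : H = ⨆ A : {A : Subgroup X // A ≤ H ∧ Cfsg.IsBestOffenderOn q U A}, (A : Subgroup X))
    {B D : Subgroup X} (hB : Cfsg.IsElementaryAbelian p B) (hpq : p ≠ q) (hpK : ¬ p ∣ Nat.card K)
    (hBV : B ≤ normalizer (U : Set X)) (hBH : B ≤ normalizer (H : Set X))
    (hBK : B ≤ normalizer (K : Set X)) (hD : IsPGroup q D) (hDV : D ≤ normalizer (U : Set X))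
    (hDH : D ≤ normalizer (H : Set X)) (hDK : D ≤ normalizer (K : Set X))
    (hBD : B ≤ normalizer (D : Set X))
    (hfix : K ⊓ centralizer (B : Set X) ≤ normalizer (D : Set X)) :
    D ≤ centralizer (H : Set X) := by
  have hDK0 : K ⊓ D = ⊥ := by
    refine Coprime.inf_eq_bot ?_
    obtain ⟨i, hi⟩ := IsPGroup.iff_card.mp hD
    rw [hi]; exact hF.cop.pow_right i
  have hcent : ∀ d ∈ K ⊓ centralizer (B : Set X), ∀ x ∈ D, d * x = x * d := by
    intro d hd x hx
    have h : ⁅d, x⁆ ∈ K ⊓ D := by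
      refine ⟨?_, ?_⟩
      · rw [commutatorElement_def, mul_assoc, mul_assoc, ← mul_assoc x]
        exact K.mul_mem hd.1 (conj_mem hDK hx (K.inv_mem hd.1))
      · rw [commutatorElement_def]
        exact D.mul_mem (conj_mem hfix hd hx) (D.inv_mem hx)
    rw [hDK0, mem_bot] at h
    exact commutatorElement_eq_one_iff_mul_comm.1 h
  rw [le_centralizer_iff]
  refine hF.gen_tv hgen fun T hT hTv => le_trans (le_sup_right : T ≤ FFPair.factor K T) ?_
  obtain ⟨hf, hEH, -, -, -⟩ := hF.exists_factor hT hTv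
  set E := FFPair.factor K T with hEdef
  set W := ⁅U, E⁆ with hWdef
  set R := ⁅K, T⁆ with hR
  change FFPair.IsFactor q U K T R E W at hf
  have hRE : R ≤ E := le_sup_left
  have hRK : R ≤ K := hf.eq_inf.le.trans inf_le_right
  have hq1 : q ^ 2 - 1 ≠ 1 := by rcases hf.small with h | h <;> rw [h] <;> norm_num
  have hRne : R ≠ ⊥ := fun h0 => hq1 (by rw [← hf.card, h0, Subgroup.card_bot])
  have hfaith : ∀ {e}, e ∈ E → (∀ w ∈ W, e * w = w * e) → e = 1 := fun he h =>
    mem_bot.1 (hf.plane.faith ▸ mem_inf.2 ⟨he, mem_centralizer_iff.2 fun w hw => (h w hw).symm⟩)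
  have hdiag : ∀ e ∈ R, ∃ d ∈ K ⊓ centralizer (B : Set X),
      d ∈ closure ((fun b : B => (b : X) * e * (b : X)⁻¹) '' Set.univ) ∧
      ∀ w ∈ W, d * w * d⁻¹ = e * w * e⁻¹ := by
    intro e he
    obtain ⟨d, hd, hdB, hact⟩ := exists_diag_closure hF hT hTv hB hpq hpK hBV hBH hBK (hRE he)
    refine ⟨d, ⟨?_, hdB⟩, hd, fun w hw => hact w (Or.inr hw)⟩
    refine (closure_le K).2 ?_ hd
    rintro _ ⟨b, -, rfl⟩
    exact conj_mem hBK b.2 (hRK he)
  letI actB : MulAction B (Subgroup X) :=
    { smul := fun b F => F.map (MulAut.conj (b : X)).toMonoidHom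
      one_smul := fun F => map_conj_one F
      mul_smul := fun a b F => (map_conj_map_conj F (b : X) (a : X)).symm }
  set O := MulAction.orbit B E with hO
  -- the `q`-group moves the factor inside its orbit
  have hmove : ∀ x ∈ D, E.map (MulAut.conj x).toMonoidHom ∈ O := by
    intro x hx
    by_contra hne
    refine hRne ((Subgroup.eq_bot_iff_forall _).2 fun e he => hfaith (hRE he) fun w hw => ?_)
    obtain ⟨d, hdKB, hdcl, hdw⟩ := hdiag e he
    have hTx : FFPair.IsTv q U (T.map (MulAut.conj x).toMonoidHom) := hTv.conj (hDV hx)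
    have hTxH : T.map (MulAut.conj x).toMonoidHom ≤ H := by
      rintro _ ⟨a, ha, rfl⟩
      exact conj_mem hDH hx (hT ha)
    have hxw : x * w * x⁻¹ ∈ ⁅U, FFPair.factor K (T.map (MulAut.conj x).toMonoidHom)⁆ := by
      rw [← FFPair.factor_conj (hDK hx), ← hEdef,
        ← PLocal.mem_normalizer_iff_map_eq.1 (hDV hx), ← Subgroup.map_commutator]
      exact ⟨w, hw, rfl⟩
    have hdc : d ∈ centralizer ({x * w * x⁻¹} : Set X) := by
      refine (closure_le _).2 ?_ hdcl
      rintro _ ⟨b, -, rfl⟩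
      have hTb : FFPair.IsTv q U (T.map (MulAut.conj (b : X)).toMonoidHom) := hTv.conj (hBV b.2)
      have hTbH : T.map (MulAut.conj (b : X)).toMonoidHom ≤ H := by
        rintro _ ⟨a, ha, rfl⟩
        exact conj_mem hBH b.2 (hT ha)
      rcases hF.eq_or_commute hTbH hTb hTxH hTx with h | ⟨-, h, -⟩
      · refine absurd ⟨b, ?_⟩ hne
        change E.map (MulAut.conj (b : X)).toMonoidHom = _
        rw [hEdef, FFPair.factor_conj (hBK b.2), FFPair.factor_conj (hDK hx)]
        exact h.symm
      · refine mem_centralizer_singleton_iff.2 (mem_centralizer_iff.1 (h hxw).2 _ ?_)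
        rw [← FFPair.factor_conj (hBK b.2), ← hEdef]
        exact ⟨e, hRE he, rfl⟩
    have h1 : d * (x * w * x⁻¹) = x * w * x⁻¹ * d := mem_centralizer_singleton_iff.1 hdc
    have h2 := hcent d hdKB x hx
    have h3 : d * w * d⁻¹ = w := by
      calc d * w * d⁻¹ = x⁻¹ * ((x * d) * w) * d⁻¹ := by group
        _ = x⁻¹ * ((d * x) * w) * d⁻¹ := by rw [h2]
        _ = x⁻¹ * (d * (x * w * x⁻¹)) * (x * d⁻¹) := by group
        _ = x⁻¹ * (x * w * x⁻¹ * d) * (x * d⁻¹) := by rw [h1]
        _ = w * x⁻¹ * (d * x) * d⁻¹ := by group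
        _ = w * x⁻¹ * (x * d) * d⁻¹ := by rw [h2]
        _ = w := by group
    rw [hdw w hw] at h3
    exact mul_inv_eq_iff_eq_mul.1 h3
  -- some point of the orbit is fixed
  have hclosed : ∀ x : D, ∀ F ∈ O, Subgroup.map (MulAut.conj (x : X)).toMonoidHom F ∈ O := by
    rintro x _ ⟨b, rfl⟩
    obtain ⟨b', hb'⟩ := hmove _ (conj_mem hBD (inv_mem b.2) x.2)
    refine ⟨b * b', ?_⟩
    change E.map (MulAut.conj ((b : X) * (b' : X))).toMonoidHom =
      (E.map (MulAut.conj (b : X)).toMonoidHom).map (MulAut.conj (x : X)).toMonoidHom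
    rw [← map_conj_map_conj]
    change (E.map (MulAut.conj (b' : X)).toMonoidHom).map _ = _
    have hb'' : E.map (MulAut.conj (b' : X)).toMonoidHom =
        E.map (MulAut.conj ((b : X)⁻¹ * x * (b : X)⁻¹⁻¹)).toMonoidHom := hb'
    rw [hb'', map_conj_map_conj, map_conj_map_conj]
    congr 3
    group
  letI actD : MulAction D O :=
    { smul := fun x F => ⟨Subgroup.map (MulAut.conj (x : X)).toMonoidHom F.1, hclosed x F.1 F.2⟩
      one_smul := fun F => Subtype.ext (map_conj_one F.1)
      mul_smul := fun a b F => Subtype.ext (map_conj_map_conj F.1 (b : X) (a : X)).symm }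
  have hOq : ¬ q ∣ Nat.card O := by
    obtain ⟨i, hi⟩ := IsPGroup.iff_card.mp (isPGroup_of_elemAb hB)
    intro hd
    have h1 : Nat.card O ∣ p ^ i := by
      rw [← hi, hO, Nat.card_congr (MulAction.orbitEquivQuotientStabilizer B E)]
      exact Subgroup.card_quotient_dvd_card _
    exact hpq ((Nat.prime_dvd_prime_iff_eq hq.out hp.out).1 (hq.out.dvd_of_dvd_pow (hd.trans h1))).symm
  obtain ⟨⟨_, b, rfl⟩, hF₀⟩ := hD.nonempty_fixed_point_of_prime_not_dvd_card O hOq
  have hDE : D ≤ normalizer (E : Set X) := by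
    intro x hx
    rw [PLocal.mem_normalizer_iff_map_eq]
    have h : (E.map (MulAut.conj (b : X)).toMonoidHom).map
        (MulAut.conj ((b : X) * x * (b : X)⁻¹)).toMonoidHom = E.map (MulAut.conj (b : X)).toMonoidHom :=
      congrArg Subtype.val (hF₀ ⟨_, conj_mem hBD b.2 hx⟩)
    refine Subgroup.map_injective (f := (MulAut.conj (b : X)).toMonoidHom)
      (MulAut.conj (b : X)).injective ?_
    rw [map_conj_map_conj, show (b : X) * x = ((b : X) * x * (b : X)⁻¹) * b by group,
      ← map_conj_map_conj, h]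
  have hDW : D ≤ normalizer (W : Set X) := Coprime.le_normalizer_commutator hDV hDE
  have hcommW : ∀ x ∈ D, ∀ e ∈ R, ∀ w ∈ W,
      x * (e * w * e⁻¹) * x⁻¹ = e * (x * w * x⁻¹) * e⁻¹ := by
    intro x hx e he w hw
    obtain ⟨d, hdKB, -, hdw⟩ := hdiag e he
    rw [← hdw w hw, ← hdw _ (conj_mem hDW hx hw)]
    have h := hcent d hdKB x hx
    calc x * (d * w * d⁻¹) * x⁻¹ = (x * d) * w * (x * d)⁻¹ := by group
      _ = (d * x) * w * (d * x)⁻¹ := by rw [h]
      _ = _ := by group
  -- the `q`-group centralises the plane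
  have hDWc : D ≤ centralizer (W : Set X) := by
    rw [le_centralizer_iff]
    by_contra hne
    have hUV := PLocal.elemAb_le_centralizer hF.elem
    have hWq : IsPGroup q W := (FFPair.isPGroup_V hF).to_le hf.plane.le
    have hWne : W ≠ ⊥ := FFPair.isPlane_ne hf.plane
    set Q := W ⊔ D with hQ
    have hQq : IsPGroup q Q := hWq.to_sup_of_normal_left' hD hDW
    set S := W ⊓ centralizer (D : Set X) with hS
    obtain ⟨s₀, hs₀, hs₀1, hs₀c⟩ := exists_mem_centralizing hQq (le_sup_left : W ≤ Q)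
      (sup_le le_normalizer hDW) hWne
    have hSne : S ≠ ⊥ := fun h0 => hs₀1 (mem_bot.1 (h0 ▸ mem_inf.2
      ⟨hs₀, Subgroup.centralizer_le (SetLike.coe_subset_coe.2 (le_sup_right : D ≤ Q)) hs₀c⟩))
    have hScard : Nat.card S = q := by
      obtain ⟨i, hi, hi'⟩ := (Nat.dvd_prime_pow hq.out).1
        (hf.plane.card ▸ card_dvd_of_le (inf_le_left : S ≤ W))
      rcases i with _ | _ | i
      · exact absurd (Subgroup.card_eq_one.1 (by rw [hi', pow_zero])) hSne
      · rw [hi', zero_add, pow_one]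
      · refine absurd ?_ hne
        have : i = 0 := by omega
        subst this
        have hSW : S = W := Subgroup.eq_of_le_of_card_ge inf_le_left (by rw [hf.plane.card, hi'])
        exact hSW ▸ inf_le_right
    obtain ⟨s, hs, hsS⟩ : ∃ s ∈ S, zpowers s = S := by
      haveI : IsCyclic S := isCyclic_of_prime_card hScard
      obtain ⟨⟨s, hs⟩, hgen'⟩ := IsCyclic.exists_generator (α := S)
      refine ⟨s, hs, le_antisymm (zpowers_le.2 hs) fun x hx => ?_⟩
      obtain ⟨i, hi⟩ := hgen' ⟨x, hx⟩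
      exact ⟨i, congrArg Subtype.val hi⟩
    have hRW : R ≤ normalizer (W : Set X) := hRE.trans hf.plane.norm
    have hRS : R ≤ normalizer (S : Set X) := by
      refine le_normalizer_of_conj_mem fun e he w hw => ⟨conj_mem hRW he hw.1, ?_⟩
      refine mem_centralizer_iff.2 fun x hx => ?_
      have h := hcommW x hx e he w hw.1
      have hxw : x * w * x⁻¹ = w := mul_inv_eq_iff_eq_mul.2 (mem_centralizer_iff.1 hw.2 x hx)
      rw [hxw] at h
      exact mul_inv_eq_iff_eq_mul.1 h
    have hmov : ∀ x ∈ D, ∀ w ∈ W, x * w * x⁻¹ * w⁻¹ ∈ S := by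
      intro x hx w hw
      set C₁ := ⁅W, D⁆ with hC₁
      have hC₁W : C₁ ≤ W := le_normalizer_iff_commutator_le_left.1 hDW
      have hlt : C₁ ≠ W := fun h => hWne (Coprime.eq_bot_of_le_commutator (le_sup_left : W ≤ Q)
        hQq.isNilpotent (h.ge.trans (Subgroup.commutator_mono le_rfl le_sup_right)))
      have hmem : x * w * x⁻¹ * w⁻¹ ∈ C₁ := by
        rw [hC₁, Subgroup.commutator_comm]
        exact commutator_mem_commutator hx hw
      by_cases h0 : C₁ = ⊥
      · rw [h0, mem_bot] at hmem; rw [hmem]; exact one_mem _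
      have hcard : Nat.card C₁ = q := by
        obtain ⟨i, hi, hi'⟩ := (Nat.dvd_prime_pow hq.out).1 (hf.plane.card ▸ card_dvd_of_le hC₁W)
        rcases i with _ | _ | i
        · exact absurd (Subgroup.card_eq_one.1 (by simpa using hi')) h0
        · simpa using hi'
        · refine absurd (Subgroup.eq_of_le_of_card_ge hC₁W ?_) hlt
          have : i = 0 := by omega
          subst this
          rw [hf.plane.card, hi']
      obtain ⟨c, hc, hc1, hcQ⟩ := exists_mem_centralizing hQq (hC₁W.trans le_sup_left)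
        (sup_le ((Subgroup.normalizer_commutator_ge_left W D))
          (Subgroup.normalizer_commutator_ge_right W D)) h0
      have hC₁S : C₁ ≤ S := by
        have hne' : C₁ ⊓ centralizer (D : Set X) ≠ ⊥ := fun h' => hc1 (mem_bot.1 (h' ▸ mem_inf.2
          ⟨hc, Subgroup.centralizer_le (SetLike.coe_subset_coe.2 (le_sup_right : D ≤ Q)) hcQ⟩))
        obtain ⟨i, hi, hi'⟩ := (Nat.dvd_prime_pow hq.out).1 (show Nat.card ↥(C₁ ⊓ centralizer (D : Set X))
          ∣ q ^ 1 by rw [pow_one, ← hcard]; exact card_dvd_of_le inf_le_left)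
        rcases i with _ | i
        · exact absurd (Subgroup.card_eq_one.1 (by simpa using hi')) hne'
        · have : i = 0 := by omega
          subst this
          have := Subgroup.eq_of_le_of_card_ge (inf_le_left : C₁ ⊓ centralizer (D : Set X) ≤ C₁)
            (by rw [hcard, hi', pow_one])
          exact le_inf hC₁W (this ▸ inf_le_right)
      exact hC₁S hmem
    have hWc : ∀ {a b : X}, a ∈ W → b ∈ W → a * b = b * a := fun ha hb =>
      (mem_centralizer_iff.1 (hUV (hf.plane.le hb)) _ (hf.plane.le ha))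
    -- an element of `R` centralising `S` is trivial
    have hkey : ∀ z ∈ R, z * s * z⁻¹ = s → z = 1 := by
      intro z hz hzs
      have hZ : zpowers z ≤ centralizer (S : Set X) := by
        rw [zpowers_le]
        refine mem_centralizer_iff.2 fun t ht => ?_
        rw [← hsS] at ht
        obtain ⟨i, rfl⟩ := ht
        exact ((show Commute z s from mul_inv_eq_iff_eq_mul.1 hzs).zpow_right i).eq.symm
      have hzW : zpowers z ≤ normalizer (W : Set X) := zpowers_le.2 (hRW hz)
      have hWS : ⁅W, zpowers z⁆ ≤ S := by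
        rw [Subgroup.commutator_le]
        intro w hw y hy
        have hyR : y ∈ R := zpowers_le.2 hz hy
        set w' := y * w⁻¹ * y⁻¹
        have hw' : w' ∈ W := conj_mem hRW hyR (W.inv_mem hw)
        rw [commutatorElement_def, mul_assoc, mul_assoc, ← mul_assoc y]
        refine ⟨W.mul_mem hw hw', mem_centralizer_iff.2 fun x hx => ?_⟩
        set c := x * w⁻¹ * x⁻¹ * w⁻¹⁻¹
        have hcS : c ∈ S := hmov x hx _ (W.inv_mem hw)
        have hyc : y * c * y⁻¹ = c :=
          mul_inv_eq_iff_eq_mul.2 (mem_centralizer_iff.1 (hZ hy) c hcS).symm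
        have he : x * w' * x⁻¹ * w'⁻¹ = c := by
          rw [← hyc]
          change _ = y * (x * w⁻¹ * x⁻¹ * w⁻¹⁻¹) * y⁻¹
          rw [hcommW x hx y hyR _ (W.inv_mem hw)]
          change _ * (y * w⁻¹ * y⁻¹)⁻¹ = _
          group
        have hxw : x * w' * x⁻¹ = x * w⁻¹ * x⁻¹ * w * w' := by
          have h1 : x * w' * x⁻¹ = c * w' := mul_inv_eq_iff_eq_mul.1 he
          rw [h1]; change x * w⁻¹ * x⁻¹ * w⁻¹⁻¹ * w' = _; group
        have hx2 : x * (w * w') * x⁻¹ = w * w' := by
          calc x * (w * w') * x⁻¹ = (x * w * x⁻¹) * (x * w' * x⁻¹) := by group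
            _ = (x * w * x⁻¹) * (x * w⁻¹ * x⁻¹ * w * w') := by rw [hxw]
            _ = w * w' := by group
        exact mul_inv_eq_iff_eq_mul.1 hx2
      have hcop : (Nat.card (zpowers z)).Coprime (Nat.card W) := by
        refine Nat.Coprime.coprime_dvd_left (card_dvd_of_le (zpowers_le.2 (hRK hz))) ?_
        rw [hf.plane.card]
        exact hF.cop.pow_right 2
      have h2 := Coprime.commutator_commutator_eq hzW hcop
        (Or.inr (Coprime.isSolvable_of_isPGroup hWq))
      rw [commutator_eq_bot_iff_le_centralizer.2 (hWS.trans (le_centralizer_iff.1 hZ)), eq_comm,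
        commutator_eq_bot_iff_le_centralizer] at h2
      exact hfaith (hRE hz) fun w hw => (mem_centralizer_iff.1 (h2 hw) z (mem_zpowers z))
    have hzk : ∀ z ∈ R, ∃ k : ℤ, z * s * z⁻¹ = s ^ k := fun z hz => by
      have h : z * s * z⁻¹ ∈ zpowers s := by rw [hsS]; exact conj_mem hRS hz hs
      obtain ⟨k, hk⟩ := h
      exact ⟨k, hk.symm⟩
    rcases hf.small with hq2 | hq3
    · refine hRne ((Subgroup.eq_bot_iff_forall _).2 fun z hz => hkey z hz ?_)
      have h2 : Nat.card S = 2 := hScard.trans hq2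
      have hs1 : s ≠ 1 := fun h0 => hSne (by rw [← hsS, h0, zpowers_one_eq_bot])
      have hz1 : z * s * z⁻¹ ≠ 1 := fun h0 => hs1 (by
        have := congrArg (fun t => z⁻¹ * t * z) h0
        simpa [mul_assoc] using this)
      obtain ⟨u, hu, huS⟩ := (Nat.card_eq_two_iff' (⟨1, S.one_mem⟩ : S)).1 h2
      have e1 := huS (⟨z * s * z⁻¹, conj_mem hRS hz hs⟩ : S) fun h0 => hz1 (congrArg Subtype.val h0)
      have e2 := huS (⟨s, hs⟩ : S) fun h0 => hs1 (congrArg Subtype.val h0)
      exact congrArg Subtype.val (e1.trans e2.symm)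
    · refine hf.nonab hq3 ⟨⟨fun a b => Subtype.ext ?_⟩⟩
      change (a : X) * b = b * a
      refine commutatorElement_eq_one_iff_mul_comm.1 (hkey _ (mul_mem (mul_mem (mul_mem a.2 b.2)
        (inv_mem a.2)) (inv_mem b.2)) ?_)
      obtain ⟨ka, hka⟩ := hzk a a.2
      obtain ⟨kb, hkb⟩ := hzk b b.2
      have hconj : ∀ {z : X} {k : ℤ}, z * s * z⁻¹ = s ^ k → ∀ n : ℤ,
          z * s ^ n * z⁻¹ = s ^ (k * n) := fun {z k} h n => by rw [← conj_zpow, h, zpow_mul]
      have h1 : (a * b : X) * s * (a * b : X)⁻¹ = (b * a : X) * s * (b * a : X)⁻¹ := by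
        calc (a * b : X) * s * (a * b : X)⁻¹ = a * (b * s * (b : X)⁻¹) * (a : X)⁻¹ := by group
          _ = s ^ (ka * kb) := by rw [hkb, hconj hka]
          _ = s ^ (kb * ka) := by rw [mul_comm]
          _ = b * (a * s * (a : X)⁻¹) * (b : X)⁻¹ := by rw [hka, hconj hkb]
          _ = _ := by group
      have h3 : (a : X) * b * (a : X)⁻¹ * (b : X)⁻¹ * s *
          ((a : X) * b * (a : X)⁻¹ * (b : X)⁻¹)⁻¹ = s := by
        have hr : ∀ u : X, (b * a : X) * u * (b * a : X)⁻¹ = s → u = (b * a : X)⁻¹ * s * (b * a) :=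
          fun u hu => by rw [← hu]; group
        set u := (b * a : X)⁻¹ * s * (b * a) with hu
        have huS : u ∈ zpowers s := by
          rw [hsS, hu]
          simpa using conj_mem hRS (inv_mem (mul_mem b.2 a.2)) hs
        obtain ⟨n, hn⟩ := huS
        have hn' : s ^ n = u := hn
        have e : (a * b : X) * u * (a * b : X)⁻¹ = (b * a : X) * u * (b * a : X)⁻¹ := by
          rw [← hn', ← conj_zpow, ← conj_zpow, h1]
        calc (a : X) * b * (a : X)⁻¹ * (b : X)⁻¹ * s * ((a : X) * b * (a : X)⁻¹ * (b : X)⁻¹)⁻¹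
            = (a * b : X) * u * (a * b : X)⁻¹ := by rw [hu]; group
          _ = (b * a : X) * u * (b * a : X)⁻¹ := e
          _ = s := by rw [hu]; group
      exact h3
  intro e he
  refine mem_centralizer_iff.2 fun x hx => ?_
  have h : ⁅x, e⁆ ∈ E ⊓ centralizer (W : Set X) := by
    refine ⟨?_, ?_⟩
    · rw [commutatorElement_def]
      exact E.mul_mem (conj_mem hDE hx he) (E.inv_mem he)
    · rw [commutatorElement_def, mul_assoc, mul_assoc, ← mul_assoc e]
      exact mul_mem (hDWc hx) (conj_mem ((PLocal.normalizer_le_normalizer_centralizer _))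
        (hf.plane.norm he) (inv_mem (hDWc hx)))
  rw [hf.plane.faith, mem_bot] at h
  exact commutatorElement_eq_one_iff_mul_comm.1 h

end Cfsg.Agent.Signalizer
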