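import Cfsg.Agent.Lib.Signalizer.SSFT.Layer
import Cfsg.Agent.Lib.Solvable.Maximal

/-!
# Group lemmas for the solvable signalizer functor theorem

* `le_of_normalised`: the growth lemma for two `q`-subgroups
* `moved_eq_bot_of_commutator_le`: `Y = [Y, b]` with `[O_q(K), Y] ≤ C(b)` lies in `O_q(K)`
* `mem_triple`, `triple` : the product of three cyclically normalising coprime subgroups
-/

set_option autoImplicit false

namespace Cfsg.Agent.Signalizer

open Subgroup LocalCharP
open scoped commutatorElement Pointwise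

variable {G : Type*} [Group G] [Finite G] {p q : ℕ}

/-- If `P` normalises the `q`-group `U` and `U ∩ N(P) ≤ P` then `U ≤ P`. -/
theorem le_of_normalised [Fact q.Prime] {P U : Subgroup G} (hP : IsPGroup q P) (hU : IsPGroup q U)
    (hPU : P ≤ normalizer (U : Set G)) (h : U ⊓ normalizer (P : Set G) ≤ P) : U ≤ P := by
  by_contra hcon
  obtain ⟨x, hx, hxN, hxP⟩ := exists_mem_normalizer_not_mem'
    (hP.to_sup_of_normal_right' hU hPU) (le_sup_left : P ≤ P ⊔ U)
    (fun he => hcon (le_sup_right.trans he.ge))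
  have hx' : x ∈ (P : Set G) * (U : Set G) := by
    rw [← coe_mul_of_left_le_normalizer_right P U hPU]; exact hx
  obtain ⟨a, ha, u, hu, rfl⟩ := hx'
  have hu' : u ∈ normalizer (P : Set G) := by
    simpa using mul_mem (inv_mem (le_normalizer (H := P) ha)) hxN
  exact hxP (mul_mem ha (h ⟨hu, hu'⟩))
where
  exists_mem_normalizer_not_mem' {H : Type _} [Group H] [Finite H] {q : ℕ} [Fact q.Prime]
      {D Q : Subgroup H} (hQ : IsPGroup q Q) (hDQ : D ≤ Q) (hne : D ≠ Q) :
      ∃ x ∈ Q, x ∈ normalizer (D : Set H) ∧ x ∉ D := by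
    haveI := hQ.isNilpotent
    have h1 : D.subgroupOf Q ≠ ⊤ := fun h =>
      hne (le_antisymm hDQ (Subgroup.subgroupOf_eq_top.1 h))
    obtain ⟨x, hxN, hxD⟩ :=
      SetLike.exists_of_lt (Group.normalizerCondition_of_isNilpotent (D.subgroupOf Q) h1.lt_top)
    refine ⟨x, x.2, mem_normalizer_of_conj_mem fun y hy => ?_,
      fun h => hxD (by rwa [mem_subgroupOf])⟩
    have := (mem_normalizer_iff.1 hxN ⟨y, hDQ hy⟩).1 (by simpa [mem_subgroupOf] using hy)
    simpa [mem_subgroupOf] using this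

omit [Finite G] in
theorem conj_mem_commutator_left {H V : Subgroup G} {h v : G} (hh : h ∈ H) (hv : v ∈ V)
    (hn : H ≤ normalizer (V : Set G)) : ⁅v, h⁆ ∈ V := by
  rw [commutatorElement_def, mul_assoc, mul_assoc, ← mul_assoc h]
  exact V.mul_mem hv (conj_mem hn hh (V.inv_mem hv))

/-- In a `q`-constrained `K`, a `q`-subgroup `Y = [Y, b]` with `[O_q(K), Y] ≤ C(b)` lies in `O_q(K)`. -/
theorem le_pCoreIn_of_commutator_le [hp : Fact p.Prime] [hq : Fact q.Prime] {b : G} (hb : b ^ p = 1)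
    {K Y : Subgroup G} (hK : Group.IsSolvable K) (hpK : ¬ p ∣ Nat.card K)
    (hbK : b ∈ normalizer (K : Set G)) (hc : HasCharP q K) (hYK : Y ≤ K) (hY : IsPGroup q Y)
    (hbY : b ∈ normalizer (Y : Set G)) (hmov : Y ≤ ⁅Y, zpowers b⁆)
    (hPY : ⁅pCoreIn q K, Y⁆ ≤ centralizer ({b} : Set G)) : Y ≤ pCoreIn q K := by
  set P := pCoreIn q K with hPdef
  have hKP : K ≤ normalizer (P : Set G) := le_normalizer_pCoreIn q K
  have hbP : b ∈ normalizer (P : Set G) := normalizer_le_normalizer_pCoreIn q K hbK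
  suffices key : ∀ t : ℕ, t.Prime → t ≠ q → ∀ y ∈ Y, ∀ w ∈ layer q t K, ⁅y, w⁆ ∈ P by
    intro y hy
    obtain ⟨n, hn⟩ := hY ⟨y, hy⟩
    exact mem_pCoreIn_of_layers hK (hYK hy) (n := n) (by simpa using congrArg Subtype.val hn)
      fun t ht htq _ => key t ht htq y hy
  intro t ht htq
  haveI := Fact.mk ht
  set L := layer q t K with hLdef
  set C := L ⊓ centralizer ({b} : Set G) with hCdef
  -- the elements whose commutators with `P` are centralised by `b`
  have hWmul : ∀ {x y : G}, (∀ v ∈ P, ⁅v, x⁆ ∈ centralizer ({b} : Set G)) →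
      (∀ v ∈ P, ⁅v, y⁆ ∈ centralizer ({b} : Set G)) → y ∈ normalizer (P : Set G) →
      ∀ v ∈ P, ⁅v, x * y⁆ ∈ centralizer ({b} : Set G) := by
    intro x y hx hy hyN v hv
    have hw : ⁅v, y⁆ ∈ P := by
      rw [commutatorElement_def, mul_assoc, mul_assoc, ← mul_assoc y]
      exact P.mul_mem hv (conj_mem le_rfl hyN (P.inv_mem hv))
    rw [show ⁅v, x * y⁆ = ⁅v, x⁆ * (⁅x, ⁅v, y⁆⁆ * ⁅v, y⁆) by
      simp only [commutatorElement_def]; group]
    refine mul_mem (hx v hv) (mul_mem ?_ (hy v hv))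
    rw [← commutatorElement_inv]
    exact inv_mem (hx _ hw)
  let W₀ : Submonoid G :=
    { carrier := {y | y ∈ K ∧ ∀ v ∈ P, ⁅v, y⁆ ∈ centralizer ({b} : Set G)}
      one_mem' := ⟨one_mem _, fun v _ => by simp⟩
      mul_mem' := fun {x y} hx hy => ⟨mul_mem hx.1 hy.1, hWmul hx.2 hy.2 (hKP hy.1)⟩ }
  let W : Subgroup G :=
    { W₀ with
      inv_mem' := fun {x} hx => by
        obtain ⟨n, hn⟩ : x⁻¹ ∈ Submonoid.powers x :=
          (isOfFinOrder_of_finite x).mem_powers_iff_mem_zpowers.2 (inv_mem (mem_zpowers x))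
        exact hn ▸ pow_mem (S := W₀) hx n }
  set H : Subgroup G := ⨆ c : C, Y.map (MulAut.conj (c : G)).toMonoidHom with hH
  have hYH : Y ≤ H := by
    refine le_iSup_of_le (⟨1, one_mem _⟩ : C) ?_
    intro y hy
    exact ⟨y, hy, by simp⟩
  have hHW : ∀ y ∈ H, y ∈ K ∧ ∀ v ∈ P, ⁅v, y⁆ ∈ centralizer ({b} : Set G) := by
    refine fun y hy => (iSup_le fun c => ?_ : H ≤ W) hy
    rintro _ ⟨y, hy, rfl⟩
    have hcK : (c : G) ∈ K := layer_le q t K c.2.1
    refine ⟨conj_mem le_normalizer hcK (hYK hy), fun v hv => ?_⟩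
    have h := mem_centralizer_singleton_iff.1 c.2.2
    have hv' : (c : G)⁻¹ * v * c ∈ P := by
      simpa using conj_mem le_rfl (inv_mem (hKP hcK)) hv
    have h2 : ⁅(c : G)⁻¹ * v * c, y⁆ ∈ centralizer ({b} : Set G) :=
      hPY (commutator_mem_commutator hv' hy)
    have h3 : (MulAut.conj (c : G)).toMonoidHom y = (c : G) * y * (c : G)⁻¹ := rfl
    rw [h3, show ⁅v, (c : G) * y * (c : G)⁻¹⁆ = (c : G) * ⁅(c : G)⁻¹ * v * c, y⁆ * (c : G)⁻¹ by
      simp only [commutatorElement_def]; group]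
    exact mul_mem (mul_mem c.2.2 h2) (inv_mem c.2.2)
  have hHK : H ≤ K := fun y hy => (hHW y hy).1
  have hbH : zpowers b ≤ normalizer (H : Set G) := by
    rw [zpowers_le]
    refine le_normalizer_iSup (A := zpowers b) (fun c => ?_) (mem_zpowers b)
    rw [zpowers_le]
    refine mem_normalizer_of_conj_mem ?_
    rintro _ ⟨y, hy, rfl⟩
    refine ⟨b * y * b⁻¹, conj_mem le_rfl hbY hy, ?_⟩
    have h := mem_centralizer_singleton_iff.1 c.2.2
    change (c : G) * (b * y * b⁻¹) * (c : G)⁻¹ = b * ((c : G) * y * (c : G)⁻¹) * b⁻¹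
    calc (c : G) * (b * y * b⁻¹) * (c : G)⁻¹ = ((c : G) * b) * y * ((c : G) * b)⁻¹ := by group
      _ = (b * c) * y * (b * c)⁻¹ := by rw [h]
      _ = _ := by group
  set R := ⁅H, zpowers b⁆ with hR
  have hRH : R ≤ H := Coprime.commutator_le_left' hbH
  have hHR : H ≤ normalizer (R : Set G) := Subgroup.normalizer_commutator_ge_left H _
  set V0 := ⁅P, H⁆ with hV0
  have hV0b : V0 ≤ centralizer ({b} : Set G) :=
    Subgroup.commutator_le.2 fun v hv y hy => (hHW y hy).2 v hv
  have hHV0 : H ≤ normalizer (V0 : Set G) := Subgroup.normalizer_commutator_ge_right P H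
  have hbz : centralizer ({b} : Set G) = centralizer (zpowers b : Set G) := by
    rw [zpowers_eq_closure, centralizer_closure]
  have hRV0 : R ≤ centralizer (V0 : Set G) := by
    rw [hR, Subgroup.commutator_comm, ← commutator_eq_bot_iff_le_centralizer]
    have hVb : V0 ≤ centralizer (zpowers b : Set G) := hbz ▸ hV0b
    refine commutator_commutator_eq_bot_of_rotate ?_ ?_
    · rw [commutator_eq_bot_iff_le_centralizer]
      exact (Subgroup.le_normalizer_iff_commutator_le_right.1 hHV0).trans hVb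
    · have h0 : ⁅V0, zpowers b⁆ = ⊥ := commutator_eq_bot_iff_le_centralizer.2 hVb
      rw [h0, commutator_bot_left]
  have hRP : ⁅P, R⁆ ≤ V0 := Subgroup.commutator_mono le_rfl hRH
  have hPR : ⁅⁅P, R⁆, R⁆ = ⊥ := by
    rw [commutator_eq_bot_iff_le_centralizer]
    exact hRP.trans (le_centralizer_iff.1 hRV0)
  have hPp : IsPGroup q P := isPGroup_pCoreIn q K
  -- `R` is a `q`-group
  have hRq : IsPGroup q R := by
    have hd : ∀ r : ℕ, r.Prime → r ∣ Nat.card R → r = q := by
      intro r hr hd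
      haveI := Fact.mk hr
      obtain ⟨⟨x, hxR⟩, ho⟩ := exists_prime_orderOf_dvd_card' r hd
      rw [Subgroup.orderOf_mk] at ho
      by_contra hrq
      have hxK : x ∈ K := hHK (hRH hxR)
      have hcop : (Nat.card (zpowers x)).Coprime (Nat.card P) := by
        obtain ⟨i, hi⟩ := IsPGroup.iff_card.mp hPp
        rw [hi, Nat.card_zpowers, ho]
        exact Nat.Coprime.pow_right i ((Nat.coprime_primes hr hq.out).2 hrq)
      have hxP : zpowers x ≤ normalizer (P : Set G) := zpowers_le.2 (hKP hxK)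
      haveI := hPp.isNilpotent
      have h := Coprime.commutator_commutator_eq hxP hcop (Or.inr inferInstance)
      have h0 : ⁅⁅P, zpowers x⁆, zpowers x⁆ = ⊥ :=
        le_bot_iff.1 (hPR ▸ Subgroup.commutator_mono
          (Subgroup.commutator_mono le_rfl (zpowers_le.2 hxR)) (zpowers_le.2 hxR))
      rw [h0] at h
      have hx1 : x = 1 := by
        refine hc.eq_one hxK ?_ (by rw [ho]; exact (Nat.coprime_primes hr hq.out).2 hrq)
        exact (le_centralizer_iff.1 (commutator_eq_bot_iff_le_centralizer.1 h.symm)) (mem_zpowers x)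
      rw [hx1, orderOf_one] at ho
      exact hr.one_lt.ne ho
    intro x
    obtain ⟨m, hm⟩ : ∃ m, Nat.card R = q ^ m :=
      ⟨_, Nat.eq_prime_pow_of_unique_prime_dvd Nat.card_pos.ne' (fun {r} hr hd' => hd r hr hd')⟩
    exact ⟨m, by rw [← hm]; exact pow_card_eq_one'⟩
  have hYR : Y ≤ R := hmov.trans (Subgroup.commutator_mono hYH le_rfl)
  have hCN : C ≤ normalizer (H : Set G) := by
    intro c hc'
    refine mem_normalizer_of_conj_mem fun y hy => ?_
    suffices hs : H ≤ H.comap (MulAut.conj c).toMonoidHom from hs hy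
    refine iSup_le fun d => ?_
    rintro _ ⟨z, hz, rfl⟩
    refine mem_comap.2 (mem_iSup_of_mem (⟨c * d, mul_mem hc' d.2⟩ : C) ?_)
    exact ⟨z, hz, by simp [mul_assoc]⟩
  have hh2 : ∀ w ∈ L, w ∈ centralizer ({b} : Set G) → ∀ y ∈ Y, ⁅y, w⁆ ∈ P := by
    intro w hw hwb y hy
    have h1 : w * y⁻¹ * w⁻¹ ∈ R := by
      have hwR : w ∈ normalizer (R : Set G) := by
        refine mem_normalizer_of_conj_mem fun z hz => ?_
        suffices hs : R ≤ R.comap (MulAut.conj w).toMonoidHom from hs hz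
        rw [hR, Subgroup.commutator_le]
        intro h hh g hg
        refine mem_comap.2 ?_
        rw [map_commutatorElement]
        refine commutator_mem_commutator (conj_mem hCN (⟨hw, hwb⟩ : w ∈ C) hh) ?_
        have hwg : w * g * w⁻¹ = g := by
          rw [← mem_centralizer_iff.1 (hbz ▸ hwb) g hg, mul_inv_cancel_right]
        change w * g * w⁻¹ ∈ zpowers b
        rwa [hwg]
      exact conj_mem le_rfl hwR (R.inv_mem (hYR hy))
    have h2 : ⁅y, w⁆ ∈ R := by
      rw [commutatorElement_def, mul_assoc, mul_assoc, ← mul_assoc w]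
      exact R.mul_mem (hYR hy) h1
    have h3 : ⁅y, w⁆ ∈ L := by
      rw [commutatorElement_def]
      exact mul_mem (conj_mem le_rfl (le_normalizer_layer q t K (hYK hy)) hw) (inv_mem hw)
    obtain ⟨m, hm⟩ := hRq ⟨_, h2⟩
    exact mem_pCoreIn_of_mem_layer htq h3 (n := m) (by simpa using congrArg Subtype.val hm)
  have hab : ⁅Y, Y⁆ ≤ P := by
    have h : ⁅R, R⁆ ≤ centralizer (P : Set G) := by
      rw [← commutator_eq_bot_iff_le_centralizer]
      refine commutator_commutator_eq_bot_of_rotate ?_ hPR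
      rw [commutator_comm R P, hPR]
    exact le_trans (le_inf ((Subgroup.commutator_le_self Y).trans hYK)
      ((Subgroup.commutator_mono hYR hYR).trans h)) hc
  have hpY : ¬ p ∣ Nat.card Y := not_dvd_card_of_le hYK hpK
  refine commutator_le_of_fpf htq hb hPp hY hpY (not_dvd_card_of_le (layer_le q t K) hpK)
    (fun l hl => pow_mem_of_layer hl) (hYK.trans hKP) ((layer_le q t K).trans hKP) hbP
    (hYK.trans (le_normalizer_layer q t K)) hbY (normalizer_le_normalizer_layer q t K hbK)
    (fun y hy hyb w hw => ?_) hh2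
  have hyP : y ∈ P := inf_centralizer_le_of_moved hb hpY (hYK.trans hKP) hbP hbY hab
    (hmov.trans le_sup_left) ⟨hy, hyb⟩
  rw [commutatorElement_def, mul_assoc, mul_assoc, ← mul_assoc w]
  exact P.mul_mem hyP (conj_mem le_rfl (hKP (layer_le q t K hw)) (P.inv_mem hyP))

omit [Finite G] in
/-- The product of three cyclically normalising subgroups. -/
theorem coe_triple {P S R : Subgroup G} (hPS : P ≤ normalizer (S : Set G))
    (hSR : S ≤ normalizer (R : Set G)) (hRP : R ≤ normalizer (P : Set G)) :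
    ((P ⊔ S ⊔ R : Subgroup G) : Set G) = (P : Set G) * (S : Set G) * (R : Set G) := by
  have e1 : ((P ⊔ S : Subgroup G) : Set G) = (P : Set G) * (S : Set G) :=
    coe_mul_of_left_le_normalizer_right P S hPS
  have e2 : (P : Set G) * (S : Set G) = (S : Set G) * (P : Set G) := by
    rw [← coe_mul_of_left_le_normalizer_right P S hPS, sup_comm,
      coe_mul_of_right_le_normalizer_left S P hPS]
  have e3 : (S : Set G) * (R : Set G) = (R : Set G) * (S : Set G) := by
    rw [← coe_mul_of_left_le_normalizer_right S R hSR, sup_comm,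
      coe_mul_of_right_le_normalizer_left R S hSR]
  have e4 : (R : Set G) * (P : Set G) = (P : Set G) * (R : Set G) := by
    rw [← coe_mul_of_left_le_normalizer_right R P hRP, sup_comm,
      coe_mul_of_right_le_normalizer_left P R hRP]
  have hcomm : ((P ⊔ S : Subgroup G) : Set G) * (R : Set G) =
      (R : Set G) * ((P ⊔ S : Subgroup G) : Set G) := by
    calc ((P ⊔ S : Subgroup G) : Set G) * (R : Set G)
        = (S : Set G) * ((P : Set G) * (R : Set G)) := by rw [e1, e2, mul_assoc]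
      _ = ((S : Set G) * (R : Set G)) * (P : Set G) := by rw [← e4, mul_assoc]
      _ = (R : Set G) * ((S : Set G) * (P : Set G)) := by rw [e3, mul_assoc]
      _ = _ := by rw [e1, e2]
  set X := P ⊔ S with hX
  rw [← e1]
  refine Set.Subset.antisymm ?_ (Set.mul_subset_iff.2 fun x hx r hr =>
    mul_mem (mem_sup_left hx) (mem_sup_right hr))
  let Y : Subgroup G :=
    { carrier := (X : Set G) * (R : Set G)
      one_mem' := ⟨1, one_mem _, 1, one_mem _, one_mul _⟩
      mul_mem' := by
        rintro _ _ ⟨a, ha, r, hr, rfl⟩ ⟨a', ha', r', hr', rfl⟩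
        have h : r * a' ∈ (X : Set G) * (R : Set G) := hcomm ▸ Set.mul_mem_mul hr ha'
        obtain ⟨a'', ha'', r'', hr'', he⟩ := h
        exact ⟨a * a'', mul_mem ha ha'', r'' * r', mul_mem hr'' hr', by
          calc a * a'' * (r'' * r') = a * (a'' * r'') * r' := by group
            _ = a * (r * a') * r' := by rw [show a'' * r'' = r * a' from he]
            _ = _ := by group⟩
      inv_mem' := by
        rintro _ ⟨a, ha, r, hr, rfl⟩
        rw [hcomm]
        exact ⟨r⁻¹, R.inv_mem hr, a⁻¹, X.inv_mem ha, (mul_inv_rev a r).symm⟩ }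
  exact show X ⊔ R ≤ Y from sup_le (fun x hx => ⟨x, hx, 1, one_mem _, mul_one x⟩)
    fun r hr => ⟨1, one_mem _, r, hr, one_mul r⟩

end Cfsg.Agent.Signalizer
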