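import Cfsg.Agent.Lib.Signalizer.SSFT.Parts
import Cfsg.Agent.Lib.Signalizer.SSFT.Moves
import Cfsg.Agent.Lib.Coprime.PQ

/-!
# Good `q`-subgroups

* `commutator_mem_layer`, `mem_pCoreIn_of_centralizes`, `exists_pCoreIn_ne_bot`
* `Good`, `Good.inf_le`, `Good.le_core`, `Counter.exists_stable`
* `Setup.layer_le_piMem`, `Setup.pCoreIn_le_qMem`
-/

set_option autoImplicit false
set_option linter.unusedSectionVars false

namespace Cfsg.Agent.Signalizer

open Subgroup LocalCharP
open scoped commutatorElement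

variable {G : Type*} [Group G] [Finite G] {q t : ℕ} [Fact q.Prime] [Fact t.Prime]

/-- The commutator of an element of a normalised `q`-group with a layer element is in `O_q`. -/
theorem commutator_mem_layer (htq : t ≠ q) {K Q₀ : Subgroup G} {x w : G} (hQ : IsPGroup q Q₀)
    (hx : x ∈ Q₀) (hwQ : w ∈ normalizer (Q₀ : Set G))
    (hxK : x ∈ normalizer (layer q t K : Set G)) (hw : w ∈ layer q t K) :
    ⁅x, w⁆ ∈ pCoreIn q K := by
  have h1 : ⁅x, w⁆ ∈ layer q t K := by
    rw [commutatorElement_def]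
    exact mul_mem (conj_mem le_rfl hxK hw) (inv_mem hw)
  have h2 : ⁅x, w⁆ ∈ Q₀ := by
    rw [commutatorElement_def, mul_assoc, mul_assoc, ← mul_assoc w]
    exact Q₀.mul_mem hx (conj_mem le_rfl hwQ (Q₀.inv_mem hx))
  obtain ⟨m, hm⟩ := hQ ⟨_, h2⟩
  exact mem_pCoreIn_of_mem_layer htq h1 (n := m) (by simpa using congrArg Subtype.val hm)

/-- An `r`-element centralising every core of a solvable group lies in `O_r`. -/
theorem mem_pCoreIn_of_centralizes {r : ℕ} [Fact r.Prime] {K : Subgroup G} (hK : Group.IsSolvable K)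
    {x : G} (hx : x ∈ K) {n : ℕ} (hn : x ^ r ^ n = 1)
    (h : ∀ t : ℕ, t.Prime → t ∣ Nat.card K → x ∈ centralizer (pCoreIn t K : Set G)) :
    x ∈ pCoreIn r K := by
  haveI := hK
  have hF : (⟨x, hx⟩ : K) ∈ Cfsg.fittingSubgroup K := by
    refine Solvable.centralizer_fitting_le K ?_
    rw [← zpowers_le, le_centralizer_iff, Cores.fittingSubgroup_eq_iSup_pCore]
    refine iSup_le fun s y hy => ?_
    rw [zpowers_eq_closure, centralizer_closure, mem_centralizer_singleton_iff]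
    by_cases hs : (s : ℕ) ∣ Nat.card K
    · exact Subtype.ext (mem_centralizer_iff.1 (h s s.2 hs) y ⟨y, hy, rfl⟩)
    · haveI : Fact (s : ℕ).Prime := ⟨s.2⟩
      obtain ⟨j, hj⟩ := Cores.isPGroup_pCore (s : ℕ) K ⟨y, hy⟩
      obtain ⟨i, -, hi⟩ := (Nat.dvd_prime_pow s.2).1
        (orderOf_dvd_of_pow_eq_one (x := y) (n := (s : ℕ) ^ j) (by simpa using congrArg Subtype.val hj))
      rcases Nat.eq_zero_or_pos i with rfl | hi0
      · rw [pow_zero] at hi
        rw [show y = 1 from orderOf_eq_one_iff.1 hi]; simp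
      · exact absurd ((hi ▸ dvd_pow_self _ hi0.ne').trans (_root_.orderOf_dvd_natCard y)) hs
  haveI : Group.IsNilpotent (Cfsg.fittingSubgroup K) :=
    Cores.isNilpotent_of_le_fittingSubgroup le_rfl
  obtain ⟨P, hP⟩ := (show IsPGroup r (zpowers (⟨⟨x, hx⟩, hF⟩ : Cfsg.fittingSubgroup K)) from
    fun ⟨_, i, hi⟩ => ⟨n, Subtype.ext (Subtype.ext (Subtype.ext (by
      subst hi
      simp only [SubmonoidClass.coe_pow, OneMemClass.coe_one, SubgroupClass.coe_zpow]
      rw [← zpow_natCast (x ^ i), ← zpow_mul, mul_comm, zpow_mul, zpow_natCast, hn, one_zpow])))⟩).exists_le_sylow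
  have hPn : (P : Subgroup (Cfsg.fittingSubgroup K)).Normal :=
    ((Group.isNilpotent_of_finite_tfae (G := Cfsg.fittingSubgroup K)).out 0 3 rfl rfl).mp
      inferInstance r ‹Fact r.Prime› P
  have hmem : (⟨x, hx⟩ : K) ∈
      (Cfsg.pCore r (Cfsg.fittingSubgroup K)).map (Cfsg.fittingSubgroup K).subtype :=
    ⟨⟨_, hF⟩, Cores.le_pCore hPn P.isPGroup' (hP (mem_zpowers _)), rfl⟩
  rw [Cores.pCore_fittingSubgroup] at hmem
  exact ⟨_, hmem, rfl⟩

theorem exists_pCoreIn_ne_bot {K : Subgroup G} (hK : Group.IsSolvable K) (hK1 : K ≠ ⊥) :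
    ∃ r : ℕ, r.Prime ∧ r ∣ Nat.card K ∧ pCoreIn r K ≠ ⊥ := by
  by_contra h
  push Not at h
  obtain ⟨r, hr, hd⟩ := Nat.exists_prime_and_dvd (n := Nat.card K)
    (fun h1 => hK1 (Subgroup.card_eq_one.1 h1))
  haveI := Fact.mk hr
  obtain ⟨⟨x, hx⟩, ho⟩ := exists_prime_orderOf_dvd_card' r hd
  rw [Subgroup.orderOf_mk] at ho
  have hn : x ^ r ^ 1 = 1 := by rw [pow_one, ← ho, pow_orderOf_eq_one]
  have hx' := mem_pCoreIn_of_centralizes hK hx hn
    (fun t ht htd => by rw [h t ht htd]; simp [Subgroup.mem_centralizer_iff])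
  rw [h r hr hd, mem_bot] at hx'
  rw [hx', orderOf_one] at ho
  exact hr.one_lt.ne ho

namespace SSFT

universe u

variable {G : Type u} [Group G] [Finite G] {p : ℕ} [hp : Fact p.Prime] {A : Subgroup G}
  {θ : G → Subgroup G} {π : Set ℕ}

/-- An invariant `q`-subgroup with fixed points in the `q`-cores of the values. -/
structure Good (p q : ℕ) (A : Subgroup G) (θ : G → Subgroup G) (U : Subgroup G) : Prop where
  isq : IsPGroup q U
  inv : A ≤ normalizer (U : Set G)
  not_dvd : ¬ p ∣ Nat.card U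
  loc : ∀ a ∈ A, a ≠ 1 → U ⊓ centralizer {a} ≤ pCoreIn q (θ a)

omit hp in
theorem Good.mem [Fact q.Prime] {U : Subgroup G} (hU : Good p q A θ U) : U ∈ Cfsg.signalizerFamily p A θ :=
  ⟨Coprime.isSolvable_of_isPGroup hU.isq, hU.not_dvd, fun _ hb _ hx => conj_mem hU.inv hb hx,
    fun a ha ha1 => (hU.loc a ha ha1).trans (pCoreIn_le q _)⟩

omit hp in
theorem Good.mono {U V : Subgroup G} (hU : Good p q A θ U) (hVU : V ≤ U)
    (hV : A ≤ normalizer (V : Set G)) : Good p q A θ V :=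
  ⟨hU.isq.to_le hVU, hV, not_dvd_card_of_le hVU hU.not_dvd,
    fun a ha ha1 => (inf_le_inf_right _ hVU).trans (hU.loc a ha ha1)⟩

/-- An element in the cores of `θ a` for all points of a line lies in the core of any member. -/
theorem Setup.mem_pCoreIn_of_line (S : Setup p A θ) {K B : Subgroup G}
    (hK : K ∈ Cfsg.signalizerFamily p A θ) (hB : Line p A B) {x : G} (hx : x ∈ K) {n : ℕ}
    (hn : x ^ q ^ n = 1) (h : ∀ a ∈ B, a ≠ 1 → x ∈ pCoreIn q (θ a)) : x ∈ pCoreIn q K := by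
  refine mem_pCoreIn_of_layers hK.1 hx hn fun t ht htq _ => ?_
  haveI := Fact.mk ht
  suffices hle : layer q t K ≤ modCentralizer (pCoreIn q K) x from fun w hw => (hle hw).2
  refine le_of_elements (elemAb_of_le S.elem hB.1) (S.line_card hB).ge _ _
    (not_dvd_card_of_le (layer_le q t K) hK.2.1)
    ((hB.1.trans (invariant_of_mem_family hK)).trans (normalizer_le_normalizer_layer q t K))
    fun a haB ha1 w hw => ⟨le_normalizer_pCoreIn q K (layer_le q t K hw.1), ?_⟩
  have hwθ : w ∈ θ a := hK.2.2.2 a (hB.1 haB) ha1 ⟨layer_le q t K hw.1, hw.2⟩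
  exact commutator_mem_layer htq (isPGroup_pCoreIn q (θ a)) (h a haB ha1)
    (le_normalizer_pCoreIn q (θ a) hwθ) (le_normalizer_layer q t K hx) hw.1

/-- A good subgroup meets every member inside its core. -/
theorem Good.inf_le (S : Setup p A θ) {U K : Subgroup G} (hU : Good p q A θ U)
    (hK : K ∈ Cfsg.signalizerFamily p A θ) : U ⊓ K ≤ pCoreIn q K := by
  refine le_of_hyperplanes S.elem S.ne_bot _ _ (not_dvd_card_of_le inf_le_left hU.not_dvd)
    (le_normalizer_inf hU.inv (invariant_of_mem_family hK)) fun B hB hi x hx => ?_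
  obtain ⟨n, hn⟩ := hU.isq ⟨x, hx.1.1⟩
  exact S.mem_pCoreIn_of_line hK ⟨hB, hi⟩ hx.1.2 (n := n) (by simpa using congrArg Subtype.val hn)
    fun a haB ha1 => hU.loc a (hB haB) ha1 ⟨hx.1.1, centralizer_le_singleton haB hx.2⟩

/-- A good subgroup normalised by the core of a stable member lies in it. -/
theorem Good.le_core (C : Counter p A θ) {U H : Subgroup G} (hU : Good p q A θ U)
    (hH : H ∈ Cfsg.signalizerFamily p A θ)
    (hst : ∀ K ∈ Cfsg.signalizerFamily p A θ, K ≤ normalizer (pCoreIn q H : Set G) → K ≤ H)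
    (hPU : pCoreIn q H ≤ normalizer (U : Set G)) : U ≤ pCoreIn q H := by
  have hAN : A ≤ normalizer ((U ⊓ normalizer (pCoreIn q H : Set G) : Subgroup G) : Set G) :=
    le_normalizer_inf hU.inv (((invariant_of_mem_family hH).trans
      (normalizer_le_normalizer_pCoreIn q H)).trans le_normalizer)
  refine le_of_normalised (isPGroup_pCoreIn q H) hU.isq hPU ?_
  exact le_trans (le_inf inf_le_left (hst _ (mem_family_of_le hU.mem inf_le_left hAN) inf_le_right))
    (hU.inf_le C.toSetup hH)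

/-- A member with a nontrivial core lies in one that absorbs all members normalising its core. -/
theorem Counter.exists_stable (C : Counter p A θ) {K : Subgroup G}
    (hK : K ∈ Cfsg.signalizerFamily p A θ) (hK1 : pCoreIn q K ≠ ⊥) :
    ∃ H ∈ Cfsg.signalizerFamily p A θ, K ≤ H ∧ pCoreIn q H ≠ ⊥ ∧
      ∀ K' ∈ Cfsg.signalizerFamily p A θ, K' ≤ normalizer (pCoreIn q H : Set G) → K' ≤ H := by
  obtain ⟨H, ⟨hH, hKH, hH1⟩, hmax⟩ := Set.Finite.exists_maximal
    (s := {H : Subgroup G | H ∈ Cfsg.signalizerFamily p A θ ∧ K ≤ H ∧ pCoreIn q H ≠ ⊥})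
    (Set.toFinite _) ⟨K, hK, le_rfl, hK1⟩
  refine ⟨H, hH, hKH, hH1, fun K' hK' hN => ?_⟩
  have hP : pCoreIn q H ∈ Cfsg.signalizerFamily p A θ :=
    mem_family_of_le hH (pCoreIn_le q H)
      ((invariant_of_mem_family hH).trans (normalizer_le_normalizer_pCoreIn q H))
  obtain ⟨hN₁, hN₂, hN₃⟩ := C.norC_mem hP hH1
  have hle : H ≤ norC A θ (pCoreIn q H) := C.le_norC hH (le_normalizer_pCoreIn q H)
  refine (C.le_norC hK' hN).trans (hmax ⟨hN₁, hKH.trans hle, fun h => hH1 (le_bot_iff.1 ?_)⟩ hle)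
  exact (le_pCoreIn hN₃ (isPGroup_pCoreIn q H) hN₂).trans h.le

theorem IsMax.stable (C : Counter p A θ) {M : Subgroup G} (hM : IsMax p A θ M)
    (h1 : pCoreIn q M ≠ ⊥) :
    ∀ K ∈ Cfsg.signalizerFamily p A θ, K ≤ normalizer (pCoreIn q M : Set G) → K ≤ M :=
  fun _ hK hN => hM.le_of_normalizes C h1
    ((invariant_of_mem_family hM.1).trans (normalizer_le_normalizer_pCoreIn q M)) (pCoreIn_le q M)
    (le_normalizer_pCoreIn q M) hK hN

omit [Finite G] hp in
theorem piPart_mono {π' : Set ℕ} (h : π ⊆ π') (a : G) :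
    piPart π A θ a ≤ piPart π' A θ a :=
  iSup_le fun U => le_piPart ⟨U.2.1, U.2.2.1, U.2.2.2.1, fun r hr hd => h (U.2.2.2.2 r hr hd)⟩

omit [Finite G] hp in
theorem piMem_mono {π' : Set ℕ} (h : π ⊆ π') : piMem π A θ ≤ piMem π' A θ :=
  iSup_le fun a => (piPart_mono h a.1).trans (le_piMem_of_mem a.2.1 a.2.2)

theorem Setup.layer_le_piMem (S : Setup p A θ) {a : G} (ha : a ∈ A) (ha1 : a ≠ 1) (hq : q ∈ π)
    (ht : t ∈ π) : layer q t (θ a) ≤ piMem π A θ := by
  refine le_trans (le_piPart ⟨layer_le q t _, (S.inv ha ha1).trans (normalizer_le_normalizer_layer q t _),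
    (S.core_le ha ha1).trans (le_normalizer_layer q t _), fun r hr hd => ?_⟩) (le_piMem_of_mem ha ha1)
  rcases isPiNum_layer (θ a) hr hd with rfl | rfl
  exacts [hq, ht]

theorem Setup.member_layer_le_piMem (S : Setup p A θ) {K : Subgroup G}
    (hK : K ∈ Cfsg.signalizerFamily p A θ)
    (hT : Cfsg.signalizerInf A θ ≤ normalizer (K : Set G)) (hq : q ∈ π) (ht : t ∈ π) :
    layer q t K ≤ piMem π A θ := by
  refine S.le_piMem (mem_family_of_le hK (layer_le q t K)
    ((invariant_of_mem_family hK).trans (normalizer_le_normalizer_layer q t K)))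
    (hT.trans (normalizer_le_normalizer_layer q t K)) fun r hr hd => ?_
  rcases isPiNum_layer K hr hd with rfl | rfl
  exacts [hq, ht]

theorem Setup.pCoreIn_le_qMem (S : Setup p A θ) {K : Subgroup G}
    (hK : K ∈ Cfsg.signalizerFamily p A θ)
    (hT : Cfsg.signalizerInf A θ ≤ normalizer (K : Set G)) :
    pCoreIn q K ≤ piMem ({q} : Set ℕ) A θ := by
  refine S.le_piMem (mem_family_of_le hK (pCoreIn_le q K)
    ((invariant_of_mem_family hK).trans (normalizer_le_normalizer_pCoreIn q K)))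
    (hT.trans (normalizer_le_normalizer_pCoreIn q K)) fun r hr hd => ?_
  obtain ⟨i, hi⟩ := IsPGroup.iff_card.mp (isPGroup_pCoreIn q K)
  rw [hi] at hd
  exact (Nat.prime_dvd_prime_iff_eq hr (Fact.out : q.Prime)).1 (hr.dvd_of_dvd_pow hd)

end SSFT

end Cfsg.Agent.Signalizer
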