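import Cfsg.Agent.Lib.Signalizer.SSFT.Frob
import Cfsg.Agent.Lib.Signalizer.Basic
import Cfsg.Agent.Lib.LocalCharP.Basic
import Cfsg.Agent.Lib.Solvable.Fitting
import Cfsg.Agent.Lib.Cores.Fitting

/-!
# Layers above the `q`-core of a solvable subgroup

* `layer q t K`: the preimage in `K` of `O_t(K / O_q(K))`
* `modCentralizer P x`: the elements `w` normalising `P` with `⁅x, w⁆ ∈ P`
* `mem_pCoreIn_of_layers`: a `q`-element centralising all layers modulo `O_q(K)` lies in `O_q(K)`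
* `commutator_le_of_fpf`, `commutator_le_of_fpf'`: the fixed point free lemma modulo `P`
* `moved_le_pCoreIn`: the coprime abelian case
-/

set_option autoImplicit false

namespace Cfsg.Agent.Signalizer

open Subgroup LocalCharP
open scoped commutatorElement

variable {G : Type*} [Group G] {p q t : ℕ} {K : Subgroup G}

/-- The preimage in `K` of `O_t(K / O_q(K))`. -/
noncomputable def layer (q t : ℕ) (K : Subgroup G) : Subgroup G :=
  ((Cfsg.pCore t (K ⧸ Cfsg.pCore q K)).comap (QuotientGroup.mk' (Cfsg.pCore q K))).map K.subtype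

theorem layer_le (q t : ℕ) (K : Subgroup G) : layer q t K ≤ K := map_subtype_le _

theorem pCoreIn_le_layer (q t : ℕ) (K : Subgroup G) : pCoreIn q K ≤ layer q t K :=
  map_mono fun x hx => mem_comap.2 <| by
    rw [QuotientGroup.mk'_apply, (QuotientGroup.eq_one_iff x).2 hx]
    exact one_mem _

theorem normalizer_le_normalizer_layer (q t : ℕ) (K : Subgroup G) :
    normalizer (K : Set G) ≤ normalizer (layer q t K : Set G) := by
  haveI : ((Cfsg.pCore t (K ⧸ Cfsg.pCore q K)).comap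
      (QuotientGroup.mk' (Cfsg.pCore q K))).Characteristic := by
    refine characteristic_iff_map_le.2 fun φ => ?_
    have hq : (Cfsg.pCore q K).map φ.toMonoidHom = Cfsg.pCore q K :=
      characteristic_iff_map_eq.1 inferInstance φ
    let φ' : (K ⧸ Cfsg.pCore q K) ≃* (K ⧸ Cfsg.pCore q K) := QuotientGroup.congr _ _ φ hq
    rintro _ ⟨x, hx, rfl⟩
    refine mem_comap.2 ?_
    have h : φ' (QuotientGroup.mk' _ x) ∈ Cfsg.pCore t (K ⧸ Cfsg.pCore q K) := by
      have h1 := characteristic_iff_map_eq.1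
        (inferInstance : (Cfsg.pCore t (K ⧸ Cfsg.pCore q K)).Characteristic) φ'
      rw [← h1]
      exact ⟨_, hx, rfl⟩
    exact h
  exact Cores.normalizer_le_normalizer_map _

theorem le_normalizer_layer (q t : ℕ) (K : Subgroup G) :
    K ≤ normalizer (layer q t K : Set G) :=
  le_normalizer.trans (normalizer_le_normalizer_layer q t K)

theorem pow_mem_of_layer {l : G} (hl : l ∈ layer q t K) :
    ∃ k : ℕ, l ^ t ^ k ∈ pCoreIn q K := by
  obtain ⟨x, hx, rfl⟩ := hl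
  obtain ⟨k, hk⟩ := Cores.isPGroup_pCore t (K ⧸ Cfsg.pCore q K) ⟨_, hx⟩
  refine ⟨k, ⟨x ^ t ^ k, ?_, by simp⟩⟩
  rw [SetLike.mem_coe, ← QuotientGroup.eq_one_iff]
  exact congrArg Subtype.val hk

theorem isPiNum_layer [Finite G] [hq : Fact q.Prime] [ht : Fact t.Prime] (K : Subgroup G) {r : ℕ}
    (hr : r.Prime) (h : r ∣ Nat.card (layer q t K)) : r = q ∨ r = t := by
  haveI := Fact.mk hr
  obtain ⟨⟨l, hl⟩, ho⟩ := exists_prime_orderOf_dvd_card' r h
  rw [Subgroup.orderOf_mk] at ho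
  obtain ⟨k, hk⟩ := pow_mem_of_layer hl
  obtain ⟨j, hj⟩ := isPGroup_pCoreIn q K ⟨_, hk⟩
  have h1 : l ^ (t ^ k * q ^ j) = 1 := by
    rw [pow_mul]; simpa using congrArg Subtype.val hj
  rcases hr.dvd_mul.1 (ho ▸ orderOf_dvd_of_pow_eq_one h1) with h' | h'
  · exact Or.inr ((Nat.prime_dvd_prime_iff_eq hr ht.out).1 (hr.dvd_of_dvd_pow h'))
  · exact Or.inl ((Nat.prime_dvd_prime_iff_eq hr hq.out).1 (hr.dvd_of_dvd_pow h'))

/-- The `q`-elements of a layer lie in `O_q(K)`. -/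
theorem mem_pCoreIn_of_mem_layer [hq : Fact q.Prime] [ht : Fact t.Prime] (htq : t ≠ q) {x : G}
    (hx : x ∈ layer q t K) {n : ℕ} (hn : x ^ q ^ n = 1) : x ∈ pCoreIn q K := by
  obtain ⟨k, hk⟩ := pow_mem_of_layer hx
  obtain ⟨m, hm⟩ := exists_pow_eq_self_of_coprime (x := x) (n := t ^ k)
    ((Nat.Coprime.pow k n ((Nat.coprime_primes ht.out hq.out).2 htq)).coprime_dvd_right
      (orderOf_dvd_of_pow_eq_one hn))
  rw [← hm]
  exact pow_mem hk m

theorem le_pCoreIn_of_le_layer [hq : Fact q.Prime] [ht : Fact t.Prime] (htq : t ≠ q)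
    {U : Subgroup G} (hU : IsPGroup q U) (h : U ≤ layer q t K) : U ≤ pCoreIn q K := fun x hx => by
  obtain ⟨n, hn⟩ := hU ⟨x, hx⟩
  exact mem_pCoreIn_of_mem_layer htq (h hx) (n := n) (by simpa using congrArg Subtype.val hn)

/-- The elements `w` normalising `P` with `⁅x, w⁆ ∈ P`. -/
def modCentralizer (P : Subgroup G) (x : G) : Subgroup G where
  carrier := {w | w ∈ normalizer (P : Set G) ∧ ⁅x, w⁆ ∈ P}
  one_mem' := ⟨one_mem _, by simp⟩
  mul_mem' := fun {a b} ha hb => ⟨mul_mem ha.1 hb.1, by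
    rw [show ⁅x, a * b⁆ = ⁅x, a⁆ * (a * ⁅x, b⁆ * a⁻¹) by
      simp only [commutatorElement_def]; group]
    exact mul_mem ha.2 (conj_mem le_rfl ha.1 hb.2)⟩
  inv_mem' := fun {a} ha => ⟨inv_mem ha.1, by
    rw [show ⁅x, a⁻¹⁆ = a⁻¹ * ⁅x, a⁆⁻¹ * a⁻¹⁻¹ by simp only [commutatorElement_def]; group]
    exact conj_mem le_rfl (inv_mem ha.1) (inv_mem ha.2)⟩

theorem mem_modCentralizer {P : Subgroup G} {x w : G} :
    w ∈ modCentralizer P x ↔ w ∈ normalizer (P : Set G) ∧ ⁅x, w⁆ ∈ P := Iff.rfl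

/-- A `q`-element of a solvable group centralising all layers modulo `O_q` lies in `O_q`. -/
theorem mem_pCoreIn_of_layers [Finite G] [hq : Fact q.Prime] (hK : Group.IsSolvable K) {x : G}
    (hx : x ∈ K) {n : ℕ} (hn : x ^ q ^ n = 1)
    (h : ∀ t : ℕ, t.Prime → t ≠ q → t ∣ Nat.card K → ∀ w ∈ layer q t K, ⁅x, w⁆ ∈ pCoreIn q K) :
    x ∈ pCoreIn q K := by
  haveI := hK
  set π := QuotientGroup.mk' (Cfsg.pCore q K) with hπ
  set Q := K ⧸ Cfsg.pCore q K with hQ
  set x' : K := ⟨x, hx⟩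
  suffices hx' : π x' = 1 from ⟨x', (QuotientGroup.eq_one_iff x').1 hx', rfl⟩
  haveI : Group.IsSolvable Q := Group.isSolvable_of_surjective (QuotientGroup.mk'_surjective _)
  have hc : π x' ∈ centralizer (Cfsg.fittingSubgroup Q : Set Q) := by
    rw [← zpowers_le, le_centralizer_iff, Cores.fittingSubgroup_eq_iSup_pCore]
    refine iSup_le fun r => ?_
    intro y hy
    by_cases hy1 : y = 1
    · rw [hy1]; exact one_mem _
    rw [zpowers_eq_closure, centralizer_closure, mem_centralizer_singleton_iff]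
    obtain ⟨j, hj⟩ := Cores.isPGroup_pCore (r : ℕ) Q ⟨y, hy⟩
    have hyo : orderOf y ∣ (r : ℕ) ^ j :=
      orderOf_dvd_of_pow_eq_one (by simpa using congrArg Subtype.val hj)
    have hrp : (r : ℕ).Prime := r.2
    haveI := Fact.mk hrp
    by_cases hrq : (r : ℕ) = q
    · refine absurd ?_ hy1
      have hy' : y ∈ Cfsg.pCore q Q := hrq ▸ hy
      rw [Cores.pCore_quotient_self] at hy'
      simpa using hy'
    · obtain ⟨w, rfl⟩ := QuotientGroup.mk'_surjective _ y
      have hrK : (r : ℕ) ∣ Nat.card K := by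
        obtain ⟨i, -, hi⟩ := (Nat.dvd_prime_pow hrp).1 hyo
        have hi0 : i ≠ 0 := fun h0 => hy1 (orderOf_eq_one_iff.1 (by rw [hi, h0, pow_zero]))
        exact (hi ▸ dvd_pow_self _ hi0).trans ((_root_.orderOf_dvd_natCard _).trans
          (card_quotient_dvd_card _))
      obtain ⟨c, hc, hce⟩ := h r hrp hrq hrK (w : G) ⟨w, hy, rfl⟩
      have h1 : π ⁅x', w⁆ = 1 := by
        rw [hπ, QuotientGroup.mk'_apply, QuotientGroup.eq_one_iff,
          show ⁅x', w⁆ = c from Subtype.ext (by simpa [commutatorElement_def, x'] using hce.symm)]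
        exact hc
      rw [map_commutatorElement, commutatorElement_eq_one_iff_mul_comm] at h1
      exact h1.symm
  have hF := Solvable.centralizer_fitting_le Q hc
  haveI : Group.IsNilpotent (Cfsg.fittingSubgroup Q) :=
    Cores.isNilpotent_of_le_fittingSubgroup le_rfl
  have hxn : (π x') ^ q ^ n = 1 := by
    rw [← map_pow, show x' ^ q ^ n = 1 from Subtype.ext (by simpa [x'] using hn), map_one]
  -- a `q`-element of the nilpotent group `F`
  obtain ⟨P, hP⟩ := (show IsPGroup q (zpowers (⟨π x', hF⟩ : Cfsg.fittingSubgroup Q)) from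
    isPGroup_zpowers_of_pow_eq_one' (n := n) (Subtype.ext (by simpa using hxn))).exists_le_sylow
  have hPn : (P : Subgroup (Cfsg.fittingSubgroup Q)).Normal :=
    ((Group.isNilpotent_of_finite_tfae (G := Cfsg.fittingSubgroup Q)).out 0 3 rfl rfl).mp
      inferInstance q hq P
  have hmem : π x' ∈ (Cfsg.pCore q (Cfsg.fittingSubgroup Q)).map (Cfsg.fittingSubgroup Q).subtype :=
    ⟨⟨π x', hF⟩, Cores.le_pCore hPn P.isPGroup' (hP (mem_zpowers _)), rfl⟩
  rw [Cores.pCore_fittingSubgroup, Cores.pCore_quotient_self] at hmem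
  simpa using hmem
where
  isPGroup_zpowers_of_pow_eq_one' {H : Type _} [Group H] {y : H} {q n : ℕ} (hy : y ^ q ^ n = 1) :
      IsPGroup q (zpowers y) := by
    rintro ⟨_, i, rfl⟩
    refine ⟨n, Subtype.ext ?_⟩
    simp only [SubmonoidClass.coe_pow, OneMemClass.coe_one]
    rw [← zpow_natCast (y ^ i), ← zpow_mul, mul_comm, zpow_mul, zpow_natCast, hy, one_zpow]

/-- The fixed point free lemma modulo a normal `q`-subgroup `P`. -/
theorem commutator_le_of_fpf [Finite G] [hp : Fact p.Prime] [hq : Fact q.Prime] [ht : Fact t.Prime]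
    (htq : t ≠ q) {f : G} (hf : f ^ p = 1) {P Y L : Subgroup G} (hP : IsPGroup q P)
    (hY : IsPGroup q Y) (hpY : ¬ p ∣ Nat.card Y) (hpL : ¬ p ∣ Nat.card L)
    (hLt : ∀ l ∈ L, ∃ k : ℕ, l ^ t ^ k ∈ P)
    (hYP : Y ≤ normalizer (P : Set G)) (hLP : L ≤ normalizer (P : Set G))
    (hfP : f ∈ normalizer (P : Set G)) (hYL : Y ≤ normalizer (L : Set G))
    (hfY : f ∈ normalizer (Y : Set G)) (hfL : f ∈ normalizer (L : Set G))
    (h1 : ∀ y ∈ Y, y ∈ centralizer ({f} : Set G) → ∀ w ∈ L, ⁅y, w⁆ ∈ P)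
    (h2 : ∀ w ∈ L, w ∈ centralizer ({f} : Set G) → ∀ y ∈ Y, ⁅y, w⁆ ∈ P) :
    ∀ y ∈ Y, ∀ w ∈ L, ⁅y, w⁆ ∈ P := by
  set H := normalizer (P : Set G) with hH
  set P' := P.subgroupOf H
  haveI : P'.Normal := normal_subgroupOf_of_le_normalizer le_rfl
  set π := QuotientGroup.mk' P' with hπ
  have hπ1 : ∀ {x : H}, π x = 1 ↔ (x : G) ∈ P := fun {x} => by
    rw [hπ, QuotientGroup.mk'_apply, QuotientGroup.eq_one_iff, mem_subgroupOf]
  have hfix : ∀ {X : Subgroup G}, X ≤ H → ¬ p ∣ Nat.card X → f ∈ normalizer (X : Set G) →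
      ∀ u ∈ (X.subgroupOf H).map π, u ∈ centralizer ({π ⟨f, hfP⟩} : Set (H ⧸ P')) →
        ∃ x : H, (x : G) ∈ X ∧ (x : G) ∈ centralizer ({f} : Set G) ∧ π x = u := by
    intro X hXH hpX hfX u hu huc
    obtain ⟨x, hx, rfl⟩ := map_inf_centralizer_le_map P' (X := X.subgroupOf H) (b := ⟨f, hfP⟩)
      (Subtype.ext (by simpa using hf)) (by rwa [Cores.card_subgroupOf hXH])
      (mem_normalizer_of_conj_mem fun y hy => conj_mem (N := X) le_rfl hfX (mem_subgroupOf.1 hy)) ⟨hu, huc⟩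
    exact ⟨x, hx.1, mem_centralizer_singleton_iff.2
      (congrArg Subtype.val (mem_centralizer_singleton_iff.1 hx.2)), rfl⟩
  set Y' := (Y.subgroupOf H).map π
  set L' := (L.subgroupOf H).map π
  have hY'q : IsPGroup q Y' :=
    (hY.of_equiv (subgroupOfEquivOfLe hYP).symm).map π
  have hL't : IsPGroup t L' := by
    rintro ⟨_, l, hl, rfl⟩
    obtain ⟨k, hk⟩ := hLt l hl
    exact ⟨k, Subtype.ext (by simpa [← map_pow] using (hπ1 (x := l ^ t ^ k)).2 (by simpa using hk))⟩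
  have hcop : (Nat.card Y').Coprime (Nat.card L') := by
    obtain ⟨i, hi⟩ := IsPGroup.iff_card.mp hY'q
    obtain ⟨j, hj⟩ := IsPGroup.iff_card.mp hL't
    rw [hi, hj]
    exact Nat.Coprime.pow i j ((Nat.coprime_primes hq.out ht.out).2 htq.symm)
  have hconj : ∀ {X : Subgroup G} {g : H}, (g : G) ∈ normalizer (X : Set G) →
      π g ∈ normalizer (((X.subgroupOf H).map π : Subgroup _) : Set (H ⧸ P')) := by
    intro X g hg
    refine mem_normalizer_of_conj_mem ?_
    rintro _ ⟨x, hx, rfl⟩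
    exact ⟨g * x * g⁻¹, conj_mem (N := X) le_rfl hg (mem_subgroupOf.1 hx), by simp only [map_mul, map_inv]⟩
  have hdvd : ∀ {X : Subgroup G}, X ≤ H → ¬ p ∣ Nat.card X →
      ¬ p ∣ Nat.card ((X.subgroupOf H).map π) := fun {X} hXH hX h =>
    hX (h.trans ((card_map_dvd _ π).trans (dvd_of_eq (Cores.card_subgroupOf hXH))))
  haveI := hY'q.isNilpotent
  haveI := hL't.isNilpotent
  have key : Y' ≤ centralizer (L' : Set (H ⧸ P')) := by
    refine le_centralizer_of_fpf (p := p) (f := π ⟨f, hfP⟩) ?_ inferInstance inferInstance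
      (hdvd hYP hpY) (hdvd hLP hpL) hcop ?_ (hconj hfY) (hconj hfL) ?_ ?_
    · rw [← map_pow, show (⟨f, hfP⟩ : H) ^ p = 1 from Subtype.ext (by simpa using hf), map_one]
    · rintro _ ⟨y, hy, rfl⟩
      exact hconj (hYL hy)
    · rintro _ ⟨hu, huc⟩
      obtain ⟨y, hy, hyc, rfl⟩ := hfix hYP hpY hfY _ hu huc
      refine mem_centralizer_iff.2 ?_
      rintro _ ⟨w, hw, rfl⟩
      have h := (hπ1 (x := ⁅y, w⁆)).2 (by simpa [commutatorElement_def] using h1 y hy hyc w hw)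
      rw [map_commutatorElement, commutatorElement_eq_one_iff_mul_comm] at h
      exact h.symm
    · rintro _ ⟨hu, huc⟩
      obtain ⟨w, hw, hwc, rfl⟩ := hfix hLP hpL hfL _ hu huc
      refine mem_centralizer_iff.2 ?_
      rintro _ ⟨y, hy, rfl⟩
      have h := (hπ1 (x := ⁅y, w⁆)).2 (by simpa [commutatorElement_def] using h2 w hw hwc y hy)
      rw [map_commutatorElement, commutatorElement_eq_one_iff_mul_comm] at h
      exact h
  intro y hy w hw
  have h : π ⁅(⟨y, hYP hy⟩ : H), ⟨w, hLP hw⟩⁆ = 1 := by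
    rw [map_commutatorElement, commutatorElement_eq_one_iff_mul_comm]
    exact (mem_centralizer_iff.1 (key ⟨⟨y, hYP hy⟩, hy, rfl⟩) _ ⟨⟨w, hLP hw⟩, hw, rfl⟩).symm
  simpa [commutatorElement_def] using hπ1.1 h

/-- A group `Y = [Y, f]`, commutative modulo `P`, has its `f`-fixed points in `P`. -/
theorem inf_centralizer_le_of_moved [Finite G] [hp : Fact p.Prime] {f : G} (hf : f ^ p = 1)
    {P Y : Subgroup G} (hpY : ¬ p ∣ Nat.card Y) (hYP : Y ≤ normalizer (P : Set G))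
    (hfP : f ∈ normalizer (P : Set G)) (hfY : f ∈ normalizer (Y : Set G))
    (hab : ⁅Y, Y⁆ ≤ P) (hmov : Y ≤ ⁅Y, zpowers f⁆ ⊔ P) :
    Y ⊓ centralizer ({f} : Set G) ≤ P := by
  set H := normalizer (P : Set G) with hH
  set P' := P.subgroupOf H
  haveI : P'.Normal := normal_subgroupOf_of_le_normalizer le_rfl
  set π := QuotientGroup.mk' P' with hπ
  have hπ1 : ∀ {x : H}, π x = 1 ↔ (x : G) ∈ P := fun {x} => by
    rw [hπ, QuotientGroup.mk'_apply, QuotientGroup.eq_one_iff, mem_subgroupOf]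
  set F := zpowers (π ⟨f, hfP⟩) with hF
  set Y' := (Y.subgroupOf H).map π with hY'
  haveI : IsMulCommutative Y' := ⟨⟨by
    rintro ⟨_, a, ha, rfl⟩ ⟨_, b, hb, rfl⟩
    refine Subtype.ext ?_
    change π a * π b = π b * π a
    rw [← commutatorElement_eq_one_iff_mul_comm, ← map_commutatorElement, hπ1]
    simpa [commutatorElement_def] using hab (commutator_mem_commutator ha hb)⟩⟩
  have hfix : F ≤ normalizer (Y' : Set (H ⧸ P')) := by
    rw [hF, zpowers_le]
    refine mem_normalizer_of_conj_mem ?_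
    rintro _ ⟨x, hx, rfl⟩
    exact ⟨⟨f, hfP⟩ * x * ⟨f, hfP⟩⁻¹, conj_mem (N := Y) le_rfl hfY (mem_subgroupOf.1 hx), by simp only [map_mul, map_inv]⟩
  have hfp : (π ⟨f, hfP⟩) ^ p = 1 := by
    rw [← map_pow, show (⟨f, hfP⟩ : H) ^ p = 1 from Subtype.ext (by simpa using hf), map_one]
  have hcop : (Nat.card F).Coprime (Nat.card Y') := by
    obtain ⟨i, hi⟩ := IsPGroup.iff_card.mp (isPGroup_zpowers_of_pow_eq_one hfp)
    rw [hi]
    refine Nat.Coprime.pow_left i (hp.out.coprime_iff_not_dvd.2 fun h => hpY ?_)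
    exact h.trans ((card_map_dvd _ π).trans (dvd_of_eq (Cores.card_subgroupOf hYP)))
  have hY'' : Y' ≤ ⁅Y', F⁆ := by
    rintro _ ⟨y, hy, rfl⟩
    have hgen : Y ≤ ((⁅Y', F⁆).comap π).map H.subtype := by
      refine hmov.trans (sup_le (Subgroup.commutator_le.2 ?_) fun z hz =>
        ⟨⟨z, le_normalizer hz⟩, ?_, rfl⟩)
      · rintro a ha _ ⟨i, rfl⟩
        refine ⟨⁅(⟨a, hYP ha⟩ : H), (⟨f, hfP⟩ : H) ^ i⁆, ?_, by simp [commutatorElement_def]⟩
        rw [SetLike.mem_coe, mem_comap, map_commutatorElement]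
        exact commutator_mem_commutator ⟨_, ha, rfl⟩ (by rw [map_zpow]; exact ⟨i, rfl⟩)
      · rw [SetLike.mem_coe, mem_comap, (hπ1 (x := ⟨z, le_normalizer hz⟩)).2 hz]
        exact one_mem _
    obtain ⟨y', hy', hye⟩ := hgen hy
    obtain rfl : y' = y := Subtype.ext hye
    exact hy'
  rintro y ⟨hy, hyc⟩
  refine (hπ1 (x := ⟨y, hYP hy⟩)).1 (mem_bot.1 ?_)
  rw [← Coprime.abelian_inf_eq_bot hfix hcop]
  refine ⟨⟨⟨_, hy, rfl⟩, ?_⟩, hY'' ⟨_, hy, rfl⟩⟩
  rw [hF, zpowers_eq_closure, centralizer_closure]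
  refine mem_centralizer_singleton_iff.2 ?_
  rw [← map_mul, ← map_mul]
  exact congrArg π (Subtype.ext (mem_centralizer_singleton_iff.1 hyc))

/-- An abelian `q`-subgroup normalised by `f` and by `C_K(f)`: its `f`-moved part is in `O_q(K)`. -/
theorem moved_le_pCoreIn [Finite G] [hp : Fact p.Prime] [hq : Fact q.Prime] {f : G} (hf : f ^ p = 1)
    (hK : Group.IsSolvable K) (hpK : ¬ p ∣ Nat.card K) (hfK : f ∈ normalizer (K : Set G))
    {D : Subgroup G} (hDK : D ≤ K) (hD : IsPGroup q D) [IsMulCommutative D]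
    (hfD : f ∈ normalizer (D : Set G))
    (hCD : K ⊓ centralizer ({f} : Set G) ≤ normalizer (D : Set G)) :
    ⁅D, zpowers f⁆ ≤ pCoreIn q K := by
  have hfD' : zpowers f ≤ normalizer (D : Set G) := zpowers_le.2 hfD
  set Y := ⁅D, zpowers f⁆ with hY
  have hYD : Y ≤ D := Coprime.commutator_le_left' hfD'
  have hfY : f ∈ normalizer (Y : Set G) := Subgroup.normalizer_commutator_ge_right D _ (mem_zpowers f)
  have hcop : (Nat.card (zpowers f)).Coprime (Nat.card D) := by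
    obtain ⟨i, hi⟩ := IsPGroup.iff_card.mp (isPGroup_zpowers_of_pow_eq_one hf)
    rw [hi]
    exact Nat.Coprime.pow_left i
      (hp.out.coprime_iff_not_dvd.2 (not_dvd_card_of_le hDK hpK))
  have hbot : ∀ y ∈ Y, y ∈ centralizer ({f} : Set G) → y = 1 := fun y hy hyc => mem_bot.1 (by
    rw [← Coprime.abelian_inf_eq_bot hfD' hcop]
    refine ⟨⟨hYD hy, ?_⟩, hy⟩
    rwa [zpowers_eq_closure, centralizer_closure])
  intro y hy
  obtain ⟨n, hn⟩ := hD ⟨y, hYD hy⟩
  refine mem_pCoreIn_of_layers hK (hDK (hYD hy)) (n := n) (by simpa using congrArg Subtype.val hn)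
    fun r hr hrq _ => ?_
  haveI := Fact.mk hr
  refine commutator_le_of_fpf hrq hf (isPGroup_pCoreIn q K) (hD.to_le hYD)
    (not_dvd_card_of_le (hYD.trans hDK) hpK) (not_dvd_card_of_le (layer_le q r K) hpK)
    (fun l hl => pow_mem_of_layer hl) ((hYD.trans hDK).trans (le_normalizer_pCoreIn q K))
    ((layer_le q r K).trans (le_normalizer_pCoreIn q K))
    (normalizer_le_normalizer_pCoreIn q K hfK)
    ((hYD.trans hDK).trans (le_normalizer_layer q r K)) hfY
    (normalizer_le_normalizer_layer q r K hfK)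
    (fun y' hy' hyc w _ => by simp [hbot y' hy' hyc]) (fun w hw hwc y' hy' => ?_) y hy
  have h1 : ⁅y', w⁆ ∈ D := by
    rw [commutatorElement_def, mul_assoc, mul_assoc, ← mul_assoc w]
    exact D.mul_mem (hYD hy')
      (conj_mem le_rfl (hCD ⟨layer_le q r K hw, hwc⟩) (D.inv_mem (hYD hy')))
  have h2 : ⁅y', w⁆ ∈ layer q r K := by
    rw [commutatorElement_def]
    exact mul_mem (conj_mem le_rfl (le_normalizer_layer q r K (hDK (hYD hy'))) hw) (inv_mem hw)
  obtain ⟨m, hm⟩ := hD ⟨_, h1⟩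
  exact mem_pCoreIn_of_mem_layer hrq h2 (n := m) (by simpa using congrArg Subtype.val hm)

end Cfsg.Agent.Signalizer
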