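import Cfsg.Agent.Lib.Signalizer.SSFT.Quotient
import Cfsg.Agent.Lib.Solvable.InvariantHall
import Cfsg.Agent.Lib.LocalCharP.Basic

/-!
# The largest `θ(C(A))`-invariant π-members; maximal members

* `piPart`, `piMem`, `Counter.piMem_mem`, `Setup.le_piMem`
* `IsMax`, `exists_isMax_ge`, `IsMax.norC_eq`
* `Counter.exists_two_primes`
-/

set_option autoImplicit false
set_option linter.unusedSectionVars false

namespace Cfsg.Agent.Signalizer.SSFT

open Subgroup
open scoped Pointwise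

universe u

variable {G : Type u} [Group G] {p : ℕ} {A : Subgroup G} {θ : G → Subgroup G} {π : Set ℕ}

/-- An invariant π-subgroup of `θ a` normalised by `θ(C(A))`. -/
def PartCand (π : Set ℕ) (A : Subgroup G) (θ : G → Subgroup G) (a : G) (U : Subgroup G) : Prop :=
  U ≤ θ a ∧ A ≤ normalizer (U : Set G) ∧
    Cfsg.signalizerInf A θ ≤ normalizer (U : Set G) ∧ Solvable.IsPiNum π (Nat.card U)

/-- The largest π-subgroup of `θ a` invariant under `A` and `θ(C(A))`. -/
def piPart (π : Set ℕ) (A : Subgroup G) (θ : G → Subgroup G) (a : G) : Subgroup G :=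
  ⨆ U : {U : Subgroup G // PartCand π A θ a U}, U.1

/-- The largest π-member invariant under `θ(C(A))`. -/
def piMem (π : Set ℕ) (A : Subgroup G) (θ : G → Subgroup G) : Subgroup G :=
  ⨆ a : {a : G // a ∈ A ∧ a ≠ 1}, piPart π A θ a.1

/-- A maximal element of the family. -/
def IsMax (p : ℕ) (A : Subgroup G) (θ : G → Subgroup G) (M : Subgroup G) : Prop :=
  M ∈ Cfsg.signalizerFamily p A θ ∧
    ∀ K ∈ Cfsg.signalizerFamily p A θ, M ≤ K → K = M

theorem le_piPart {a : G} {U : Subgroup G} (h : PartCand π A θ a U) : U ≤ piPart π A θ a :=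
  le_iSup (fun U : {U : Subgroup G // PartCand π A θ a U} => U.1) ⟨U, h⟩

theorem piPart_le (a : G) : piPart π A θ a ≤ θ a := iSup_le fun U => U.2.1

theorem le_piMem_of_mem {a : G} (ha : a ∈ A) (ha1 : a ≠ 1) : piPart π A θ a ≤ piMem π A θ :=
  le_iSup (fun a : {a : G // a ∈ A ∧ a ≠ 1} => piPart π A θ a.1) ⟨a, ha, ha1⟩

variable [Finite G] [hp : Fact p.Prime]

namespace Setup

variable (S : Setup p A θ)
include S

theorem core_mem : Cfsg.signalizerInf A θ ∈ Cfsg.signalizerFamily p A θ :=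
  signalizerInf_mem_family S.func le_rfl S.ne_bot

theorem core_le {a : G} (ha : a ∈ A) (ha1 : a ≠ 1) : Cfsg.signalizerInf A θ ≤ θ a :=
  signalizerInf_le ha ha1

theorem core_le_centralizer {a : G} (ha : a ∈ A) :
    Cfsg.signalizerInf A θ ≤ centralizer ({a} : Set G) :=
  (signalizerInf_le_centralizer S.func.1 le_rfl).trans (centralizer_le_singleton ha)

theorem member_inf_centralizer_le_core {K : Subgroup G} (hK : K ∈ Cfsg.signalizerFamily p A θ) :
    K ⊓ centralizer (A : Set G) ≤ Cfsg.signalizerInf A θ :=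
  inf_family_le_inf hK le_rfl

theorem piPart_cand {a : G} (ha : a ∈ A) (ha1 : a ≠ 1) : PartCand π A θ a (piPart π A θ a) := by
  refine ⟨piPart_le a, le_normalizer_iSup fun U => U.2.2.1, le_normalizer_iSup fun U => U.2.2.2.1, ?_⟩
  have hcop : (Nat.card A).Coprime (Nat.card (θ a)) := by
    rw [S.card]
    exact Nat.Coprime.pow_left 3 (hp.out.coprime_iff_not_dvd.2 (S.not_dvd ha ha1))
  obtain ⟨H, hH, hAH, -⟩ := Solvable.exists_invariant_hall_ge (S.inv ha ha1) hcop (S.solv ha ha1) π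
    (U := ⊥) bot_le (le_normalizer_of_conj_mem fun b _ x hx => by rw [mem_bot] at hx ⊢; simp [hx])
    (fun r hr hd => absurd (Nat.dvd_one.1 (by simpa using hd)) hr.ne_one)
  suffices h : piPart π A θ a ≤ H from fun r hr hd =>
    hH.2.1 r hr (hd.trans (Subgroup.card_dvd_of_le h))
  refine iSup_le fun ⟨U, hUθ, hAU, hTU, hUπ⟩ => ?_
  obtain ⟨H', hH', hAH', hUH'⟩ :=
    Solvable.exists_invariant_hall_ge (S.inv ha ha1) hcop (S.solv ha ha1) π hUθ hAU hUπ
  obtain ⟨c, hc, hcH⟩ :=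
    Solvable.invariant_hall_conj (S.inv ha ha1) hcop (S.solv ha ha1) hH' hAH' hH hAH
  have hcT : c ∈ Cfsg.signalizerInf A θ := theta_inf_centralizer_le_inf S.func.1 ha ha1 le_rfl hc
  intro u hu
  rw [← hcH, Subgroup.mem_pointwise_smul_iff_inv_smul_mem]
  refine hUH' ?_
  simpa [MulAut.smul_def] using conj_mem hTU (inv_mem hcT) hu

theorem piPart_bal {a b : G} (ha : a ∈ A) (ha1 : a ≠ 1) (hb : b ∈ A) (hb1 : b ≠ 1) :
    piPart π A θ a ⊓ centralizer {b} ≤ piPart π A θ b := by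
  obtain ⟨hle, hA, hT, hπ⟩ := S.piPart_cand (π := π) ha ha1
  have hTb : Cfsg.signalizerInf A θ ≤ normalizer (centralizer ({b} : Set G) : Set G) :=
    (S.core_le_centralizer hb).trans le_normalizer
  exact le_piPart ⟨(inf_le_inf_right _ hle).trans (S.bal ha ha1 hb hb1),
    le_normalizer_inf hA (S.le_normalizer_centralizer_singleton hb), le_normalizer_inf hT hTb,
    fun r hr hd => hπ r hr (hd.trans (Subgroup.card_dvd_of_le inf_le_left))⟩

theorem isSignalizerFunctor_piPart : Cfsg.IsSignalizerFunctor p A (piPart π A θ) :=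
  ⟨fun a ha ha1 => (piPart_le a).trans (S.le_cent ha ha1),
    fun a ha ha1 => not_dvd_card_of_le (piPart_le a) (S.not_dvd ha ha1),
    fun a ha ha1 _ hb _ hx => conj_mem (S.piPart_cand ha ha1).2.1 hb hx,
    fun _ ha ha1 _ hb hb1 => S.piPart_bal ha ha1 hb hb1⟩

theorem core_le_normalizer_piMem :
    Cfsg.signalizerInf A θ ≤ normalizer (piMem π A θ : Set G) :=
  le_normalizer_iSup fun a => (S.piPart_cand a.2.1 a.2.2).2.2.1

theorem inv_piMem : A ≤ normalizer (piMem π A θ : Set G) :=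
  le_normalizer_iSup fun a => (S.piPart_cand a.2.1 a.2.2).2.1

/-- Members invariant under `θ(C(A))` with π-order lie in `piMem π`. -/
theorem le_piMem {K : Subgroup G} (hK : K ∈ Cfsg.signalizerFamily p A θ)
    (hT : Cfsg.signalizerInf A θ ≤ normalizer (K : Set G))
    (hπ : Solvable.IsPiNum π (Nat.card K)) : K ≤ piMem π A θ :=
  S.le_of_points hK fun a ha ha1 => (le_piPart ⟨inf_le_right,
    le_normalizer_inf (invariant_of_mem_family hK) (S.inv ha ha1),
    le_normalizer_inf hT ((S.core_le ha ha1).trans le_normalizer),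
    fun r hr hd => hπ r hr (hd.trans (Subgroup.card_dvd_of_le inf_le_left))⟩).trans
      (le_piMem_of_mem ha ha1)

end Setup

/-! ## Maximal members -/

theorem exists_isMax_ge {K : Subgroup G} (hK : K ∈ Cfsg.signalizerFamily p A θ) :
    ∃ M, IsMax p A θ M ∧ K ≤ M := by
  obtain ⟨M, ⟨hM, hKM⟩, hmax⟩ := Set.Finite.exists_maximal
    (s := {M : Subgroup G | M ∈ Cfsg.signalizerFamily p A θ ∧ K ≤ M}) (Set.toFinite _) ⟨K, hK, le_rfl⟩
  exact ⟨M, ⟨hM, fun N hN hMN => le_antisymm (hmax ⟨hN, hKM.trans hMN⟩ hMN) hMN⟩, hKM⟩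

namespace Counter

variable (C : Counter p A θ)
include C

theorem top_piMem {c : G} (hc : c ∈ A) (hc1 : c ≠ 1)
    (hne : ¬ Solvable.IsPiNum π (Nat.card (θ c))) :
    piMem π A θ ∈ Cfsg.signalizerFamily p A θ ∧
      Solvable.IsPiNum π (Nat.card (piMem π A θ)) ∧
      ∀ a ∈ A, a ≠ 1 → piMem π A θ ⊓ centralizer {a} ≤ piPart π A θ a := by
  have hS := C.toSetup
  obtain ⟨K, hK, hK', htop⟩ := C.top_of_sub (θ' := piPart π A θ) hS.isSignalizerFunctor_piPart
    (fun a _ _ => piPart_le a) hc hc1 fun h => hne (h ▸ (hS.piPart_cand hc hc1).2.2.2)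
  have hle : piMem π A θ ≤ K := iSup_le fun a => htop a.1 a.2.1 a.2.2
  have hmem' : piMem π A θ ∈ Cfsg.signalizerFamily p A (piPart π A θ) :=
    mem_family_of_le hK' hle hS.inv_piMem
  refine ⟨mem_family_of_le hK hle hS.inv_piMem, fun r hr hd => ?_, hmem'.2.2.2⟩
  haveI := Fact.mk hr
  obtain ⟨R, hR, hAR⟩ := exists_invariant_sylow (q := r) hS.isPGroup (piMem π A θ) hmem'.2.1
    hS.inv_piMem
  have hR1 : R ≠ ⊥ := by
    rintro rfl
    exact hR.2.2 (by rw [Subgroup.relIndex_bot_left]; exact hd)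
  by_contra hrπ
  refine hR1 (le_bot_iff.1 (le_of_elements hS.elem hS.card_ge_two ⊥ R
    (not_dvd_card_of_le hR.1 hmem'.2.1) hAR fun a ha ha1 x hx => ?_))
  rw [mem_bot]
  by_contra hx1
  obtain ⟨n, hn⟩ := hR.2.1 ⟨x, hx.1⟩
  have hxP : x ∈ piPart π A θ a := hmem'.2.2.2 a ha ha1 ⟨hR.1 hx.1, hx.2⟩
  obtain ⟨i, -, hi⟩ := (Nat.dvd_prime_pow hr).1
    (orderOf_dvd_of_pow_eq_one (x := x) (n := r ^ n) (by simpa using congrArg Subtype.val hn))
  have hi0 : i ≠ 0 := fun h0 => hx1 (orderOf_eq_one_iff.1 (by rw [hi, h0, pow_zero]))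
  refine hrπ ((hS.piPart_cand ha ha1).2.2.2 r hr ?_)
  refine (hi ▸ dvd_pow_self r hi0).trans ?_
  rw [← Subgroup.orderOf_mk x hxP]
  exact _root_.orderOf_dvd_natCard _

/-- At least two primes divide the orders of the values. -/
theorem exists_two_primes (q : ℕ) [Fact q.Prime] :
    ∃ c ∈ A, c ≠ 1 ∧ ¬ Solvable.IsPiNum {q} (Nat.card (θ c)) := by
  by_contra h
  push Not at h
  have hS := C.toSetup
  have hpg : ∀ a ∈ A, a ≠ 1 → IsPGroup q (θ a) := fun a ha ha1 => by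
    obtain ⟨m, hm⟩ : ∃ m, Nat.card (θ a) = q ^ m := ⟨_, Nat.eq_prime_pow_of_unique_prime_dvd
      Nat.card_pos.ne' fun {r} hr hd => h a ha ha1 r hr hd⟩
    exact IsPGroup.of_card hm
  obtain ⟨a₀, ha₀, ha₀1⟩ := hS.exists_point
  obtain ⟨Q, hQ, hmax⟩ := exists_greatest_member hS.elem hS.card_ge hS.func
    ((hpg a₀ ha₀ ha₀1).to_le (signalizerInf_le ha₀ ha₀1))
  exact C.noTop ⟨Q, hQ.1, fun a ha ha1 => hmax _ (hS.theta_mem ha ha1) (hpg a ha ha1)⟩

theorem qMem (q : ℕ) [Fact q.Prime] :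
    piMem ({q} : Set ℕ) A θ ∈ Cfsg.signalizerFamily p A θ ∧
      IsPGroup q (piMem ({q} : Set ℕ) A θ) := by
  obtain ⟨c, hc, hc1, hne⟩ := C.exists_two_primes q
  obtain ⟨h1, h2, -⟩ := C.top_piMem hc hc1 hne
  refine ⟨h1, ?_⟩
  exact IsPGroup.of_card (n := (Nat.card (piMem ({q} : Set ℕ) A θ)).primeFactorsList.length)
    (Nat.eq_prime_pow_of_unique_prime_dvd Nat.card_pos.ne' fun {r} hr hd => h2 r hr hd)

end Counter

/-- In a maximal member the container of a normal invariant member is the member itself. -/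
theorem IsMax.norC_eq (C : Counter p A θ) {M N : Subgroup G} (hM : IsMax p A θ M) (hN1 : N ≠ ⊥)
    (hAN : A ≤ normalizer (N : Set G)) (hNM : N ≤ M) (hMN : M ≤ normalizer (N : Set G)) :
    norC A θ N = M :=
  hM.2 _ (C.norC_mem (mem_family_of_le hM.1 hNM hAN) hN1).1 (C.le_norC hM.1 hMN)

theorem IsMax.le_of_normalizes (C : Counter p A θ) {M N K : Subgroup G} (hM : IsMax p A θ M)
    (hN1 : N ≠ ⊥) (hAN : A ≤ normalizer (N : Set G)) (hNM : N ≤ M)
    (hMN : M ≤ normalizer (N : Set G)) (hK : K ∈ Cfsg.signalizerFamily p A θ)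
    (hKN : K ≤ normalizer (N : Set G)) : K ≤ M :=
  (C.le_norC hK hKN).trans (hM.norC_eq C hN1 hAN hNM hMN).le

theorem IsMax.theta_inf_le (C : Counter p A θ) {M N : Subgroup G} (hM : IsMax p A θ M) (hN1 : N ≠ ⊥)
    (hAN : A ≤ normalizer (N : Set G)) (hNM : N ≤ M) (hMN : M ≤ normalizer (N : Set G)) {a : G}
    (ha : a ∈ A) (ha1 : a ≠ 1) : θ a ⊓ normalizer (N : Set G) ≤ M :=
  (C.theta_inf_le_norC ha ha1).trans (hM.norC_eq C hN1 hAN hNM hMN).le

end Cfsg.Agent.Signalizer.SSFT
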