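import Cfsg.Agent.Lib.Signalizer.SSFT.Setup

/-!
# The quotient step and the containers

* `Counter.false_of_normalised`: no nontrivial member is normalised by all values
* `norC A θ N` and `Counter.norC_mem`, `Counter.le_norC`: the largest member normalising `N`
-/

set_option autoImplicit false
set_option linter.unusedSectionVars false

namespace Cfsg.Agent.Signalizer.SSFT

open Subgroup

universe u

variable {G : Type u} [Group G] [Finite G] {p : ℕ} [hp : Fact p.Prime] {A : Subgroup G}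
  {θ : G → Subgroup G}

/-- The subgroup generated by the parts of the values normalising `N`. -/
def norC (A : Subgroup G) (θ : G → Subgroup G) (N : Subgroup G) : Subgroup G :=
  ⨆ a : {a : G // a ∈ A ∧ a ≠ 1}, θ a.1 ⊓ normalizer (N : Set G)

namespace Counter

variable (C : Counter p A θ)
include C

/-- No nontrivial member is normalised by all values. -/
theorem false_of_normalised {N : Subgroup G} (hN : N ∈ Cfsg.signalizerFamily p A θ) (hN1 : N ≠ ⊥)
    (hnorm : ∀ a ∈ A, a ≠ 1 → θ a ≤ normalizer (N : Set G)) : False := by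
  have hS := C.toSetup
  have hAN : A ≤ normalizer (N : Set G) := invariant_of_mem_family hN
  set H := normalizer (N : Set G) with hH
  set N' := N.subgroupOf H with hN'
  haveI : N'.Normal := normal_subgroupOf_of_le_normalizer le_rfl
  set π := QuotientGroup.mk' N' with hπ
  have hπ1 : ∀ {x : H}, π x = 1 ↔ (x : G) ∈ N := fun {x} => by
    rw [hπ, QuotientGroup.mk'_apply, QuotientGroup.eq_one_iff, hN', mem_subgroupOf]
  have hAN1 : ∀ {x : H}, (x : G) ∈ A → π x = 1 → x = 1 := by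
    intro x hxA hx
    refine Subtype.ext (orderOf_eq_one_iff.1 (((Nat.dvd_prime hp.out).1
      (orderOf_dvd_of_pow_eq_one (hS.pow_eq hxA))).resolve_right fun h => hN.2.1 ?_))
    rw [← h]
    exact (Subgroup.orderOf_mk (x : G) (hπ1.1 hx) ▸ _root_.orderOf_dvd_natCard _ :
      orderOf (x : G) ∣ Nat.card N)
  set f : Subgroup G → Subgroup (H ⧸ N') := fun X => (X.subgroupOf H).map π with hf
  let θ' : H ⧸ N' → Subgroup (H ⧸ N') := fun u =>
    ⨆ c : {c : H // (c : G) ∈ A ∧ (c : G) ≠ 1 ∧ π c = u}, f (θ (c.1 : G))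
  have hθ' : ∀ c : H, (c : G) ∈ A → (c : G) ≠ 1 → θ' (π c) = f (θ c) := by
    intro c hc hc1
    refine le_antisymm (iSup_le fun d => ?_) (le_iSup_of_le ⟨c, hc, hc1, rfl⟩ le_rfl)
    have h : (c : H)⁻¹ * d.1 = 1 := hAN1 (A.mul_mem (A.inv_mem hc) d.2.1)
      (by rw [map_mul, map_inv, d.2.2.2, inv_mul_cancel])
    rw [← inv_mul_eq_one.1 h]
  have hA' : ∀ u ∈ f A, u ≠ 1 → ∃ c : H, (c : G) ∈ A ∧ (c : G) ≠ 1 ∧ π c = u := by
    rintro _ ⟨c, hc, rfl⟩ hu
    exact ⟨c, hc, fun h => hu (by rw [(Subtype.ext h : c = 1), map_one]), rfl⟩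
  have hne1 : ∀ {c : H}, (c : G) ∈ A → (c : G) ≠ 1 → π c ≠ 1 := fun {c} hc hc1 h =>
    hc1 (congrArg Subtype.val (hAN1 hc h))
  have hdvd : ∀ {X : Subgroup G}, X ≤ H → Nat.card (f X) ∣ Nat.card X := fun {X} hXH =>
    (card_map_dvd _ π).trans (dvd_of_eq (Cores.card_subgroupOf hXH))
  have hcA : ∀ {X : Subgroup G}, A ≤ normalizer (X : Set G) →
      ∀ v ∈ f A, ∀ z ∈ f X, v * z * v⁻¹ ∈ f X := by
    rintro X hX _ ⟨b, hb, rfl⟩ _ ⟨z, hz, rfl⟩
    exact ⟨b * z * b⁻¹, conj_mem hX hb (mem_subgroupOf.1 hz), by simp only [map_mul, map_inv]⟩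
  have hfun : Cfsg.IsSignalizerFunctor p (f A) θ' := by
    refine ⟨?_, ?_, ?_, ?_⟩
    · intro u hu hu1
      obtain ⟨c, hc, hc1, rfl⟩ := hA' u hu hu1
      rw [hθ' c hc hc1]
      rintro _ ⟨z, hz, rfl⟩
      refine mem_centralizer_singleton_iff.2 ?_
      rw [← map_mul, ← map_mul]
      exact congrArg π (Subtype.ext (mem_centralizer_singleton_iff.1 (hS.le_cent hc hc1 hz)))
    · intro u hu hu1
      obtain ⟨c, hc, hc1, rfl⟩ := hA' u hu hu1
      rw [hθ' c hc hc1]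
      exact fun h => hS.not_dvd hc hc1 (h.trans (hdvd (hnorm c hc hc1)))
    · intro u hu hu1 v hv
      obtain ⟨c, hc, hc1, rfl⟩ := hA' u hu hu1
      rw [hθ' c hc hc1]
      exact hcA (hS.inv hc hc1) v hv
    · intro u hu hu1 v hv hv1
      obtain ⟨c, hc, hc1, rfl⟩ := hA' u hu hu1
      obtain ⟨d, hd, hd1, rfl⟩ := hA' v hv hv1
      rw [hθ' c hc hc1, hθ' d hd hd1]
      refine le_trans (map_inf_centralizer_le_map N' (Subtype.ext (by simpa using hS.pow_eq hd))
        (by rw [Cores.card_subgroupOf (hnorm c hc hc1)]; exact hS.not_dvd hc hc1)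
        (mem_normalizer_of_conj_mem fun y hy => conj_mem (hS.inv hc hc1) hd hy)) ?_
      rintro _ ⟨z, ⟨hz, hzd⟩, rfl⟩
      exact mem_map_of_mem π (show (z : G) ∈ θ (d : G) from hS.bal hc hc1 hd hd1
        ⟨hz, mem_centralizer_singleton_iff.2
          (congrArg Subtype.val (mem_centralizer_singleton_iff.1 hzd))⟩)
  have hcard : Nat.card (f A) = Nat.card A := by
    rw [← Cores.card_subgroupOf hAN]
    refine Nat.card_congr (Equiv.ofBijective
      (fun x : A.subgroupOf H => (⟨π x, mem_map_of_mem π x.2⟩ : f A)) ⟨?_, ?_⟩).symm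
    · intro x y h
      have h' : π (x : H) = π (y : H) := congrArg Subtype.val h
      exact Subtype.ext (inv_mul_eq_one.1 (hAN1 (A.mul_mem (A.inv_mem x.2) y.2)
        (by rw [map_mul, map_inv, h', inv_mul_cancel])))
    · rintro ⟨_, x, hx, rfl⟩
      exact ⟨⟨x, hx⟩, rfl⟩
  have hel : Cfsg.IsElementaryAbelian p (f A) := by
    refine ⟨⟨⟨?_⟩⟩, ?_⟩
    · rintro ⟨_, x, hx, rfl⟩ ⟨_, y, hy, rfl⟩
      refine Subtype.ext ?_
      change π x * π y = π y * π x
      rw [← map_mul, ← map_mul]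
      exact congrArg π (Subtype.ext (hS.comm hx hy))
    · rintro _ ⟨x, hx, rfl⟩
      rw [← map_pow, show x ^ p = 1 from Subtype.ext (by simpa using hS.pow_eq hx), map_one]
  have hsol : ∀ {X : Subgroup G}, Group.IsSolvable X → X ≤ H → Group.IsSolvable (f X) := by
    intro X hX hXH
    haveI := hX
    haveI : Group.IsSolvable (X.subgroupOf H) :=
      Group.isSolvable_of_isSolvable_injective (f := (subgroupOfEquivOfLe hXH).toMonoidHom)
        (subgroupOfEquivOfLe hXH).injective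
    exact Group.isSolvable_of_surjective (π.subgroupMap_surjective (X.subgroupOf H))
  have S' : Setup p (f A) θ' := ⟨hel, hcard.trans C.card, hfun, fun u hu hu1 => by
    obtain ⟨c, hc, hc1, rfl⟩ := hA' u hu hu1
    rw [hθ' c hc hc1]
    exact hsol (hS.solv hc hc1) (hnorm c hc hc1)⟩
  -- the weight drops
  obtain ⟨c₀, hc₀, hc₀1, hc₀N⟩ : ∃ c ∈ A, c ≠ 1 ∧ N ⊓ θ c ≠ ⊥ := by
    by_contra h
    push Not at h
    exact hN1 (le_bot_iff.1 (hS.le_of_points hN fun a ha ha1 => (h a ha ha1).le))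
  have hlt : weight (f A) θ' < weight A θ := by
    classical
    cases nonempty_fintype {a : G // a ∈ A ∧ a ≠ 1}
    cases nonempty_fintype {u : H ⧸ N' // u ∈ f A ∧ u ≠ 1}
    let e : {a : G // a ∈ A ∧ a ≠ 1} → {u : H ⧸ N' // u ∈ f A ∧ u ≠ 1} := fun a =>
      ⟨π ⟨a.1, hAN a.2.1⟩, mem_map_of_mem π a.2.1, hne1 (c := ⟨a.1, hAN a.2.1⟩) a.2.1 a.2.2⟩
    have he : Function.Bijective e := by
      refine ⟨fun a b h => ?_, fun u => ?_⟩
      · have h' : π ⟨a.1, hAN a.2.1⟩ = π ⟨b.1, hAN b.2.1⟩ := congrArg Subtype.val h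
        have h2 := inv_mul_eq_one.1 (hAN1 (x := (⟨a.1, hAN a.2.1⟩ : H)⁻¹ * ⟨b.1, hAN b.2.1⟩)
          (A.mul_mem (A.inv_mem a.2.1) b.2.1)
          (by rw [map_mul, map_inv, h', inv_mul_cancel]))
        exact Subtype.ext (congrArg Subtype.val h2 :)
      · obtain ⟨c, hc, hc1, hcu⟩ := hA' u.1 u.2.1 u.2.2
        exact ⟨⟨c, hc, hc1⟩, Subtype.ext hcu⟩
    have hval : ∀ a : {a : G // a ∈ A ∧ a ≠ 1}, θ' (e a).1 = f (θ a.1) := fun a =>
      hθ' ⟨a.1, hAN a.2.1⟩ a.2.1 a.2.2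
    rw [weight_eq, weight_eq, ← Equiv.sum_comp (Equiv.ofBijective e he)]
    simp only [Equiv.ofBijective_apply, hval]
    refine Finset.sum_lt_sum (fun a _ => Nat.le_of_dvd Nat.card_pos (hdvd (hnorm _ a.2.1 a.2.2)))
      ⟨⟨c₀, hc₀, hc₀1⟩, Finset.mem_univ _, ?_⟩
    have h0 := Subgroup.relIndex_ker ((θ c₀).subgroupOf H) π
    rw [show π.ker = N' from QuotientGroup.ker_mk' N',
      relIndex_subgroupOf (hnorm c₀ hc₀ hc₀1)] at h0
    change Nat.card (((θ c₀).subgroupOf H).map π) < Nat.card (θ c₀)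
    rw [← h0]
    have h1 := relIndex_mul_relIndex ⊥ (N ⊓ θ c₀) (θ c₀) bot_le inf_le_right
    rw [relIndex_bot_left, relIndex_bot_left, inf_relIndex_right] at h1
    have h2 := (N ⊓ θ c₀).one_lt_card_iff_ne_bot.2 hc₀N
    have h3 : 0 < N.relIndex (θ c₀) := Nat.pos_of_ne_zero fun h => by
      rw [h, mul_zero] at h1; exact Nat.card_pos.ne h1
    rw [← h1]
    exact (lt_mul_iff_one_lt_left h3).2 h2
  obtain ⟨K', hK', htop⟩ := C.below (f A) θ' S' hlt
  -- pull back
  set K := (K'.comap π).map H.subtype with hKdef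
  have hmemK : ∀ {x : H}, π x ∈ K' → (x : G) ∈ K := fun {x} hx => ⟨x, hx, rfl⟩
  have hKH : K ≤ H := map_subtype_le _
  have hpK : ¬ p ∣ Nat.card K := by
    intro hd
    obtain ⟨⟨x, hxK⟩, ho⟩ := exists_prime_orderOf_dvd_card' p hd
    rw [Subgroup.orderOf_mk] at ho
    obtain ⟨x', hx', rfl⟩ := hxK
    change orderOf (x' : G) = p at ho
    have hxp : (x' : G) ^ p = 1 := ho ▸ pow_orderOf_eq_one _
    by_cases h1 : π x' = 1
    · refine hN.2.1 (ho ▸ ?_)
      exact Subgroup.orderOf_mk (x' : G) (hπ1.1 h1) ▸ _root_.orderOf_dvd_natCard _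
    · refine hK'.2.1 ?_
      have ho' : orderOf (π x') = p := orderOf_eq_prime (by
        rw [← map_pow, show x' ^ p = 1 from Subtype.ext (by simpa using hxp), map_one]) h1
      exact ho' ▸ Subgroup.orderOf_mk (π x') hx' ▸ _root_.orderOf_dvd_natCard _
  have hKs : Group.IsSolvable K := by
    haveI := hK'.1
    haveI := hN.1
    haveI : Group.IsSolvable (K'.comap π) := by
      haveI : Group.IsSolvable N' :=
        Group.isSolvable_of_isSolvable_injective (f := (subgroupOfEquivOfLe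
          (show N ≤ H from le_normalizer)).toMonoidHom) (subgroupOfEquivOfLe _).injective
      exact Group.isSolvable_of_ker_le_range
        (Subgroup.inclusion (show N' ≤ K'.comap π from fun z hz => by
          rw [mem_comap, (hπ1 (x := z)).2 (mem_subgroupOf.1 hz)]; exact one_mem _))
        ((π.comp (K'.comap π).subtype).codRestrict K' fun z => z.2) (fun z hz => by
          have : π z.1 = 1 := congrArg Subtype.val hz
          exact ⟨⟨z.1, mem_subgroupOf.2 (hπ1.1 this)⟩, rfl⟩)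
    exact Group.isSolvable_of_surjective
      ((H.subtype).subgroupMap_surjective (K'.comap π))
  have hKinv : A ≤ normalizer (K : Set G) := by
    refine le_normalizer_of_conj_mem fun b hb => ?_
    rintro _ ⟨z, hz, rfl⟩
    refine ⟨⟨b, hAN hb⟩ * z * ⟨b, hAN hb⟩⁻¹, ?_, by simp⟩
    rw [SetLike.mem_coe, mem_comap, map_mul, map_mul, map_inv]
    exact hK'.2.2.1 _ (mem_map_of_mem π (show ((⟨b, hAN hb⟩ : H) : G) ∈ A from hb)) _ hz
  refine C.noTop ⟨K, ⟨hKs, hpK, fun b hb x hx => conj_mem hKinv hb hx, ?_⟩, fun a ha ha1 x hx =>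
    hmemK (x := ⟨x, hnorm a ha ha1 hx⟩) (htop _ (mem_map_of_mem π (show ((⟨a, hAN ha⟩ : H) : G) ∈ A from ha))
      (hne1 (c := ⟨a, hAN ha⟩) ha ha1) (by rw [hθ' ⟨a, hAN ha⟩ ha ha1]; exact mem_map_of_mem π hx))⟩
  rintro a ha ha1 _ ⟨⟨x, hx, rfl⟩, hxa⟩
  have h : π x ∈ θ' (π ⟨a, hAN ha⟩) := by
    refine hK'.2.2.2 _ (mem_map_of_mem π (show ((⟨a, hAN ha⟩ : H) : G) ∈ A from ha))
      (hne1 (c := ⟨a, hAN ha⟩) ha ha1) ⟨hx, mem_centralizer_singleton_iff.2 ?_⟩
    rw [← map_mul, ← map_mul]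
    exact congrArg π (Subtype.ext (mem_centralizer_singleton_iff.1 hxa))
  rw [hθ' ⟨a, hAN ha⟩ ha ha1] at h
  obtain ⟨t, ht, hte⟩ := h
  have hn : (t : G)⁻¹ * x ∈ N :=
    (hπ1 (x := t⁻¹ * x)).1 (by rw [map_mul, map_inv, hte, inv_mul_cancel])
  have htc := hS.le_cent ha ha1 (mem_subgroupOf.1 ht)
  have h2 : (t : G)⁻¹ * x ∈ θ a :=
    hN.2.2.2 a ha ha1 (mem_inf.2 ⟨hn, mul_mem (inv_mem htc) hxa⟩)
  simpa using (θ a).mul_mem (mem_subgroupOf.1 ht) h2

/-- The member of all parts of values normalising a nontrivial member. -/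
theorem norC_mem {N : Subgroup G} (hN : N ∈ Cfsg.signalizerFamily p A θ) (hN1 : N ≠ ⊥) :
    norC A θ N ∈ Cfsg.signalizerFamily p A θ ∧ norC A θ N ≤ normalizer (N : Set G) ∧
      N ≤ norC A θ N := by
  have hS := C.toSetup
  have hAN := invariant_of_mem_family hN
  have hAH : A ≤ normalizer ((normalizer (N : Set G) : Subgroup G) : Set G) := hAN.trans le_normalizer
  have hfun : Cfsg.IsSignalizerFunctor p A fun a => θ a ⊓ normalizer (N : Set G) :=
    ⟨fun a ha ha1 => inf_le_left.trans (hS.le_cent ha ha1),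
      fun a ha ha1 => not_dvd_card_of_le inf_le_left (hS.not_dvd ha ha1),
      fun a ha ha1 b hb x hx => ⟨conj_mem (hS.inv ha ha1) hb hx.1, conj_mem hAH hb hx.2⟩,
      fun a ha ha1 b hb hb1 x hx => ⟨hS.bal ha ha1 hb hb1 ⟨hx.1.1, hx.2⟩, hx.1.2⟩⟩
  obtain ⟨c, hc, hc1, hne⟩ : ∃ c ∈ A, c ≠ 1 ∧ θ c ⊓ normalizer (N : Set G) ≠ θ c := by
    by_contra h
    push Not at h
    exact C.false_of_normalised hN hN1 fun a ha ha1 => inf_eq_left.1 (h a ha ha1)
  obtain ⟨K, hK, hK', htop⟩ := C.top_of_sub hfun (fun a _ _ => inf_le_left) hc hc1 hne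
  have hle : norC A θ N ≤ K := iSup_le fun a => htop a.1 a.2.1 a.2.2
  have hA : A ≤ normalizer (norC A θ N : Set G) := le_normalizer_iSup fun a =>
    le_normalizer_inf (hS.inv a.2.1 a.2.2) hAH
  exact ⟨mem_family_of_le hK hle hA, iSup_le fun a => inf_le_right,
    hS.le_of_points hN fun a ha ha1 =>
      (le_inf inf_le_right (inf_le_left.trans le_normalizer)).trans (le_iSup
        (fun a : {a : G // a ∈ A ∧ a ≠ 1} => θ a.1 ⊓ normalizer (N : Set G)) ⟨a, ha, ha1⟩)⟩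

/-- Every member normalising `N` lies in the container. -/
theorem le_norC {N K : Subgroup G} (hK : K ∈ Cfsg.signalizerFamily p A θ)
    (hKN : K ≤ normalizer (N : Set G)) : K ≤ norC A θ N :=
  C.toSetup.le_of_points hK fun a ha ha1 =>
    (le_inf inf_le_right (inf_le_left.trans hKN)).trans
      (le_iSup (fun a : {a : G // a ∈ A ∧ a ≠ 1} => θ a.1 ⊓ normalizer (N : Set G)) ⟨a, ha, ha1⟩)

theorem theta_inf_le_norC {N : Subgroup G} {a : G} (ha : a ∈ A) (ha1 : a ≠ 1) :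
    θ a ⊓ normalizer (N : Set G) ≤ norC A θ N :=
  le_iSup (fun a : {a : G // a ∈ A ∧ a ≠ 1} => θ a.1 ⊓ normalizer (N : Set G)) ⟨a, ha, ha1⟩

end Counter

end Cfsg.Agent.Signalizer.SSFT
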