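import Cfsg.Agent.Lib.Signalizer.Transitivity
import Cfsg.Agent.Lib.Signalizer.ElemAb
import Cfsg.Agent.Lib.Cores.Basic
import Cfsg.Agent.Lib.Coprime.Basic

/-!
# A counterexample of least weight to the solvable signalizer functor theorem

* `Setup`, `HasTop`, `weight`, `Below`, `Counter`
* `Line`, lines and points of `A`
* `Setup.theta_le_of_lines`, `Counter.false_of_lines`, `Counter.false_of_centralizer`
* `Counter.top_of_sub`: subfunctors
-/

set_option autoImplicit false
set_option linter.unusedSectionVars false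

namespace Cfsg.Agent.Signalizer.SSFT

open Subgroup

universe u

variable {G : Type u} [Group G] {p : ℕ} {A B : Subgroup G} {θ : G → Subgroup G}

/-- A solvable signalizer functor on an elementary abelian group of order `p ^ 3`. -/
structure Setup (p : ℕ) (A : Subgroup G) (θ : G → Subgroup G) : Prop where
  elem : Cfsg.IsElementaryAbelian p A
  card : Nat.card A = p ^ 3
  func : Cfsg.IsSolvableSignalizerFunctor p A θ

/-- Some member of the family contains every value. -/
def HasTop (p : ℕ) (A : Subgroup G) (θ : G → Subgroup G) : Prop :=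
  ∃ K ∈ Cfsg.signalizerFamily p A θ, ∀ a ∈ A, a ≠ 1 → θ a ≤ K

/-- The sum of the orders of the values. -/
noncomputable def weight (A : Subgroup G) (θ : G → Subgroup G) : ℕ :=
  Nat.card (Σ a : {a : G // a ∈ A ∧ a ≠ 1}, ↥(θ a.1))

/-- Functors of weight less than `n` have tops. -/
def Below (p n : ℕ) : Prop :=
  ∀ {G : Type u} [Group G] [Finite G] (A : Subgroup G) (θ : G → Subgroup G),
    Setup p A θ → weight A θ < n → HasTop p A θ

/-- A counterexample of least weight. -/
structure Counter (p : ℕ) (A : Subgroup G) (θ : G → Subgroup G) : Prop extends Setup p A θ where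
  noTop : ¬ HasTop p A θ
  below : Below.{u} p (weight A θ)

/-- The hyperplanes of `A`. -/
def Line (p : ℕ) (A B : Subgroup G) : Prop := B ≤ A ∧ B.relIndex A = p

theorem weight_eq [Finite G] [Fintype {a : G // a ∈ A ∧ a ≠ 1}] :
    weight A θ = ∑ a : {a : G // a ∈ A ∧ a ≠ 1}, Nat.card (θ a.1) := by
  rw [weight, Nat.card_sigma]

variable [Finite G] [hp : Fact p.Prime]

namespace Setup

variable (S : Setup p A θ)
include S

theorem card_ge : p ^ 3 ≤ Nat.card A := S.card.ge

theorem card_ge_two : p ^ 2 ≤ Nat.card A :=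
  le_trans (Nat.pow_le_pow_right hp.out.pos (by omega)) S.card_ge

theorem ne_bot : A ≠ ⊥ := ne_bot_of_pow_le three_ne_zero S.card_ge

theorem pow_eq {a : G} (ha : a ∈ A) : a ^ p = 1 := S.elem.2 a ha

theorem comm {a b : G} (ha : a ∈ A) (hb : b ∈ A) : a * b = b * a :=
  commute_of_isMulCommutative S.elem.1 ha hb

theorem isPGroup : IsPGroup p A := isPGroup_of_elemAb S.elem

theorem inv {a : G} (ha : a ∈ A) (ha1 : a ≠ 1) : A ≤ normalizer (θ a : Set G) :=
  invariant_theta S.func.1 ha ha1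

theorem solv {a : G} (ha : a ∈ A) (ha1 : a ≠ 1) : Group.IsSolvable (θ a) := S.func.2 a ha ha1

theorem not_dvd {a : G} (ha : a ∈ A) (ha1 : a ≠ 1) : ¬ p ∣ Nat.card (θ a) := S.func.1.2.1 a ha ha1

theorem le_cent {a : G} (ha : a ∈ A) (ha1 : a ≠ 1) : θ a ≤ centralizer {a} := S.func.1.1 a ha ha1

theorem bal {a b : G} (ha : a ∈ A) (ha1 : a ≠ 1) (hb : b ∈ A) (hb1 : b ≠ 1) :
    θ a ⊓ centralizer {b} ≤ θ b := S.func.1.2.2.2 a ha ha1 b hb hb1

theorem theta_mem {a : G} (ha : a ∈ A) (ha1 : a ≠ 1) : θ a ∈ Cfsg.signalizerFamily p A θ :=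
  theta_mem_family S.func ha ha1

theorem exists_point : ∃ a ∈ A, a ≠ 1 := by
  by_contra h
  push Not at h
  exact S.ne_bot ((Subgroup.eq_bot_iff_forall A).2 h)

theorem le_normalizer_centralizer' (hBA : B ≤ A) :
    A ≤ normalizer (centralizer (B : Set G) : Set G) :=
  le_normalizer_centralizer (le_normalizer_of_commute fun _ hx _ hy => S.comm hx (hBA hy))

theorem le_normalizer_centralizer_singleton {a : G} (ha : a ∈ A) :
    A ≤ normalizer (centralizer ({a} : Set G) : Set G) := by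
  rw [← centralizer_closure, ← zpowers_eq_closure]
  exact S.le_normalizer_centralizer' (zpowers_le.2 ha)

theorem line_card (hB : Line p A B) : Nat.card B = p ^ 2 := by
  have h := card_hyperplane_mul hB.1 hB.2
  rw [S.card, pow_succ] at h
  exact Nat.eq_of_mul_eq_mul_right hp.out.pos h

theorem line_of_card (hBA : B ≤ A) (h : Nat.card B = p ^ 2) : Line p A B := by
  refine ⟨hBA, ?_⟩
  have h1 := relIndex_mul_relIndex ⊥ B A bot_le hBA
  rw [relIndex_bot_left, relIndex_bot_left, h, S.card, pow_succ] at h1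
  exact Nat.eq_of_mul_eq_mul_left (pow_pos hp.out.pos 2) (h1.trans (by ring))

/-- A line through two given points. -/
theorem exists_line {a b : G} (ha : a ∈ A) (hb : b ∈ A) : ∃ B, Line p A B ∧ a ∈ B ∧ b ∈ B := by
  have hz : ∀ {x : G}, x ∈ A → Nat.card (zpowers x) ≤ p := fun {x} hx => by
    rw [Nat.card_zpowers]
    exact Nat.le_of_dvd hp.out.pos (orderOf_dvd_of_pow_eq_one (S.pow_eq hx))
  have hcard : Nat.card ↥(zpowers a ⊔ zpowers b) ≤ p ^ 2 := by
    by_cases h : b ∈ zpowers a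
    · rw [sup_eq_left.2 (zpowers_le.2 h)]
      exact (hz ha).trans (Nat.le_self_pow two_ne_zero p)
    · rw [card_sup_zpowers S.elem (zpowers_le.2 ha) hb h, sq]
      exact Nat.mul_le_mul_right p (hz ha)
  obtain ⟨D, hle, hDA, hD⟩ := exists_between S.elem (sup_le (zpowers_le.2 ha) (zpowers_le.2 hb))
    le_rfl (k := 2) hcard S.card_ge_two
  exact ⟨D, S.line_of_card hDA hD, hle (mem_sup_left (mem_zpowers a)),
    hle (mem_sup_right (mem_zpowers b))⟩

theorem exists_mem_line (hB : Line p A B) : ∃ a ∈ B, a ≠ 1 :=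
  exists_ne_one_mem_hyperplane hB.1 S.card_ge_two hB.2

theorem exists_mem_inter {B' : Subgroup G} (hB : Line p A B) (hB' : Line p A B') :
    ∃ d, d ∈ B ∧ d ∈ B' ∧ d ≠ 1 := by
  have hp2 := hp.out.two_le
  obtain ⟨d, hd, hd1⟩ : ∃ d ∈ B ⊓ B', d ≠ 1 := by
    by_contra hc
    push Not at hc
    have hbot : B ⊓ B' = ⊥ := (Subgroup.eq_bot_iff_forall _).2 hc
    have h2 : (B ⊓ B').relIndex B ≤ B'.relIndex A := by
      rw [inf_comm, inf_relIndex_right]
      exact relIndex_le_of_le_right hB.1 (by rw [hB'.2]; omega)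
    rw [hbot, relIndex_bot_left, S.line_card hB, hB'.2] at h2
    nlinarith
  exact ⟨d, hd.1, hd.2, hd1⟩

/-- Two distinct lines meet in the powers of any common point. -/
theorem inter_le {B' : Subgroup G} (hB : Line p A B) (hB' : Line p A B') (hne : B ≠ B') {d : G}
    (hd : d ∈ B) (hd' : d ∈ B') (hd1 : d ≠ 1) : B ⊓ B' ≤ zpowers d := by
  intro x hx
  by_contra hxd
  have h := card_sup_zpowers S.elem (zpowers_le.2 (hB.1 hd)) (hB.1 hx.1) hxd
  rw [Nat.card_zpowers, orderOf_eq_prime (S.pow_eq (hB.1 hd)) hd1, ← sq] at h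
  have e1 : zpowers d ⊔ zpowers x = B := Subgroup.eq_of_le_of_card_ge
    (sup_le (zpowers_le.2 hd) (zpowers_le.2 hx.1)) (by rw [h, S.line_card hB])
  have e2 : zpowers d ⊔ zpowers x = B' := Subgroup.eq_of_le_of_card_ge
    (sup_le (zpowers_le.2 hd') (zpowers_le.2 hx.2)) (by rw [h, S.line_card hB'])
  exact hne (e1.symm.trans e2)

theorem exists_mem_not_zpowers (hB : Line p A B) {d : G} (hd : d ∈ B) :
    ∃ e ∈ B, e ∉ zpowers d := by
  by_contra h
  push Not at h
  have h1 := Subgroup.card_le_of_le (h : B ≤ zpowers d)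
  rw [Nat.card_zpowers, S.line_card hB] at h1
  have h2 := Nat.le_of_dvd hp.out.pos (orderOf_dvd_of_pow_eq_one (S.pow_eq (hB.1 hd)))
  nlinarith [hp.out.two_le]

theorem exists_mem_not_line (hB : Line p A B) : ∃ e ∈ A, e ∉ B := by
  by_contra h
  push Not at h
  have h1 := Subgroup.card_le_of_le (h : A ≤ B)
  rw [S.card, S.line_card hB, pow_succ] at h1
  have := pow_pos hp.out.pos 2
  nlinarith [hp.out.two_le]

theorem sup_zpowers_eq (hB : Line p A B) {a : G} (ha : a ∈ A) (haB : a ∉ B) :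
    B ⊔ zpowers a = A :=
  Subgroup.eq_of_le_of_card_ge (sup_le hB.1 (zpowers_le.2 ha)) (by
    rw [card_sup_zpowers S.elem hB.1 ha haB, S.line_card hB, S.card, ← pow_succ])

theorem centralizer_line_inf (hB : Line p A B) {a : G} (ha : a ∈ A) (haB : a ∉ B) :
    centralizer (B : Set G) ⊓ centralizer ({a} : Set G) ≤ centralizer (A : Set G) := by
  rintro x ⟨hx, hxa⟩
  rw [← zpowers_le, le_centralizer_iff]
  conv_lhs => rw [← S.sup_zpowers_eq hB ha haB]
  refine sup_le (le_centralizer_iff.1 (zpowers_le.2 hx)) ?_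
  rw [le_centralizer_iff, zpowers_le, zpowers_eq_closure a, centralizer_closure]
  exact hxa

/-! ### Generation -/

/-- A member is generated by its pieces at the points. -/
theorem le_of_points {K W : Subgroup G} (hK : K ∈ Cfsg.signalizerFamily p A θ)
    (h : ∀ a ∈ A, a ≠ 1 → K ⊓ θ a ≤ W) : K ≤ W :=
  le_of_elements S.elem S.card_ge_two W K hK.2.1 (invariant_of_mem_family hK) fun a ha ha1 =>
    le_trans (le_inf inf_le_left (hK.2.2.2 a ha ha1)) (h a ha ha1)

/-- An invariant `p'`-subgroup is generated by its fixed points on the lines through a given point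
when the point centralises it. -/
theorem le_of_lines_through {K W : Subgroup G} (hpK : ¬ p ∣ Nat.card K)
    (hAK : A ≤ normalizer (K : Set G)) {a : G} (ha : a ∈ A) (hKa : K ≤ centralizer {a})
    (h : ∀ B, Line p A B → a ∈ B → K ⊓ centralizer (B : Set G) ≤ W) : K ≤ W := by
  refine le_of_hyperplanes S.elem S.ne_bot W K hpK hAK fun H hH hi => ?_
  by_cases haH : a ∈ H
  · exact h H ⟨hH, hi⟩ haH
  obtain ⟨B, hB, haB, -⟩ := S.exists_line ha ha
  refine le_trans (le_inf inf_le_left ?_) (h B hB haB)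
  rintro x ⟨hx, hxH⟩
  exact centralizer_le hB.1 (S.centralizer_line_inf ⟨hH, hi⟩ ha haH ⟨hxH, hKa hx⟩)

theorem theta_le_of_lines {a : G} (ha : a ∈ A) (ha1 : a ≠ 1) {W : Subgroup G}
    (h : ∀ B, Line p A B → a ∈ B → Cfsg.signalizerInf B θ ≤ W) : θ a ≤ W :=
  S.le_of_lines_through (S.not_dvd ha ha1) (S.inv ha ha1) ha (S.le_cent ha ha1)
    fun B hB haB => (theta_inf_centralizer_le_inf S.func.1 ha ha1 hB.1).trans (h B hB haB)

theorem hasTop_of_lines {K : Subgroup G} (hK : K ∈ Cfsg.signalizerFamily p A θ)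
    (h : ∀ B, Line p A B → Cfsg.signalizerInf B θ ≤ K) : HasTop p A θ :=
  ⟨K, hK, fun _ ha ha1 => S.theta_le_of_lines ha ha1 fun B hB _ => h B hB⟩

theorem hasTop_of_centralizer {h : G} (hh : h ∈ A) (hh1 : h ≠ 1)
    (hc : ∀ a ∈ A, a ≠ 1 → θ a ≤ centralizer {h}) : HasTop p A θ :=
  ⟨θ h, S.theta_mem hh hh1, fun a ha ha1 => fun _ hx => S.bal ha ha1 hh hh1 ⟨hx, hc a ha ha1 hx⟩⟩

end Setup

namespace Counter

variable (C : Counter p A θ)
include C

theorem false_of_lines {K : Subgroup G} (hK : K ∈ Cfsg.signalizerFamily p A θ)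
    (h : ∀ B, Line p A B → Cfsg.signalizerInf B θ ≤ K) : False :=
  C.noTop (C.toSetup.hasTop_of_lines hK h)

theorem false_of_centralizer {h : G} (hh : h ∈ A) (hh1 : h ≠ 1)
    (hc : ∀ a ∈ A, a ≠ 1 → θ a ≤ centralizer {h}) : False :=
  C.noTop (C.toSetup.hasTop_of_centralizer hh hh1 hc)

/-- A proper subfunctor has a top. -/
theorem top_of_sub {θ' : G → Subgroup G} (hθ' : Cfsg.IsSignalizerFunctor p A θ')
    (hle : ∀ a ∈ A, a ≠ 1 → θ' a ≤ θ a) {c : G} (hc : c ∈ A) (hc1 : c ≠ 1) (hne : θ' c ≠ θ c) :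
    ∃ K ∈ Cfsg.signalizerFamily p A θ,
      K ∈ Cfsg.signalizerFamily p A θ' ∧ ∀ a ∈ A, a ≠ 1 → θ' a ≤ K := by
  have S' : Setup p A θ' := ⟨C.elem, C.card, hθ',
    fun a ha ha1 => Coprime.isSolvable_of_le (hle a ha ha1) (C.toSetup.solv ha ha1)⟩
  have hlt : weight A θ' < weight A θ := by
    classical
    cases nonempty_fintype {a : G // a ∈ A ∧ a ≠ 1}
    rw [weight_eq, weight_eq]
    refine Finset.sum_lt_sum (fun a _ => Subgroup.card_le_of_le (hle a a.2.1 a.2.2))
      ⟨⟨c, hc, hc1⟩, Finset.mem_univ _, lt_of_le_of_ne (Subgroup.card_le_of_le (hle c hc hc1))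
        fun h => hne (Subgroup.eq_of_le_of_card_ge (hle c hc hc1) h.ge)⟩
  obtain ⟨K, hK, htop⟩ := C.below A θ' S' hlt
  exact ⟨K, ⟨hK.1, hK.2.1, hK.2.2.1,
    fun a ha ha1 => (hK.2.2.2 a ha ha1).trans (hle a ha ha1)⟩, hK, htop⟩

end Counter

end Cfsg.Agent.Signalizer.SSFT
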