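import Cfsg.Agent.Lib.Signalizer.SSFT.Diag
import Cfsg.Agent.Lib.FFPair.Failure
import Cfsg.Agent.Lib.Constrained.Basic

/-!
# Failure of Thompson factorisation in an invariant solvable subgroup

* `zIn q K`, `jIn q K`: the join of the `Ω₁(Z(S))` and the Thompson subgroup of `K`, inside the
  ambient group
* `commutator_jIn_le`: an invariant `q`-subgroup normalised by the fixed points of the operators
  centralises `J(K)` modulo `C_K(zIn q K)`
* `mem_sup_of_frattini`: `K = N_K(J(S)) J(K) C_K(zIn q K)`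
-/

set_option autoImplicit false
set_option linter.unusedSectionVars false

namespace Cfsg.Agent.Signalizer

open Subgroup LocalCharP
open scoped commutatorElement Pointwise

universe u

variable {G : Type u} [Group G]

/-- The join of the `Ω₁(Z(S))`, `S` Sylow in `K`. -/
def zIn (q : ℕ) (K : Subgroup G) : Subgroup G := (FFPair.zSup q ↥K).map K.subtype

/-- The Thompson subgroup of `K`. -/
def jIn (q : ℕ) (K : Subgroup G) : Subgroup G := (Cfsg.thompsonSubgroup q ↥K).map K.subtype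

variable [Finite G] {p q : ℕ} [hp : Fact p.Prime] [hq : Fact q.Prime]

instance zSup_characteristic {K : Type u} [Group K] [Finite K] :
    (FFPair.zSup q K).Characteristic := by
  refine characteristic_iff_map_le.2 fun e => ?_
  rw [FFPair.zSup, Subgroup.map_iSup]
  refine iSup_le fun S => ?_
  rw [PLocal.map_omegaOne _ e.injective.injOn,
    PLocal.map_centralizer_inf _ e.injective.injOn le_rfl]
  exact le_iSup (fun T : Sylow q K => Cfsg.omegaOne q ((T : Subgroup K) ⊓
    centralizer ((T : Subgroup K) : Set K))) (S.mapSurjective (f := e.toMonoidHom) e.surjective)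

theorem zIn_le (q : ℕ) (K : Subgroup G) : zIn q K ≤ K := map_subtype_le _

theorem jIn_le (q : ℕ) (K : Subgroup G) : jIn q K ≤ K := map_subtype_le _

theorem normalizer_le_normalizer_zIn (K : Subgroup G) :
    normalizer (K : Set G) ≤ normalizer (zIn q K : Set G) :=
  Cores.normalizer_le_normalizer_map _

theorem normalizer_le_normalizer_jIn (K : Subgroup G) :
    normalizer (K : Set G) ≤ normalizer (jIn q K : Set G) :=
  haveI := PLocal.thompsonSubgroup_characteristic (p := q) (G := ↥K)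
  Cores.normalizer_le_normalizer_map _

/-- An invariant `q`-subgroup normalised by the fixed points of the operators centralises `J(K)`
modulo the centraliser of `zIn q K`. -/
theorem commutator_jIn_le {A K D : Subgroup G} (hA : Cfsg.IsElementaryAbelian p A) (hpq : p ≠ q)
    (hK : Group.IsSolvable K) (hpK : ¬ p ∣ Nat.card K) (hAK : A ≤ normalizer (K : Set G))
    (hc : HasCharP q K) (hDK : D ≤ K) (hD : IsPGroup q D) (hAD : A ≤ normalizer (D : Set G))
    (hfix : K ⊓ centralizer (A : Set G) ≤ normalizer (D : Set G)) :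
    ∀ x ∈ D, ∀ j ∈ jIn q K, ⁅j, x⁆ ∈ K ⊓ centralizer (zIn q K : Set G) := by
  haveI := hK
  have hsep : Solvable.IsPiSeparable {q} ↥K := Solvable.isPiSeparable_of_isSolvable _
  have hO : Cfsg.pPrimeCore q ↥K = ⊥ := Constrained.IsCharP.pPrimeCore_eq_bot (hasCharP_iff.1 hc)
  obtain ⟨hZ, -, hcore⟩ := FFPair.zSup_props hsep hO
  set V := zIn q K with hV
  set N := normalizer (V : Set G) with hN
  have hKN : K ≤ N := le_normalizer.trans (normalizer_le_normalizer_zIn K)
  have hAN : A ≤ N := hAK.trans (normalizer_le_normalizer_zIn K)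
  have hVN : V ≤ N := le_normalizer
  haveI : (V.subgroupOf N).Normal := normal_subgroupOf_of_le_normalizer le_rfl
  obtain ⟨X, hXg, hXf, U, ι, j, hM⟩ := FFPair.exists_model (V.subgroupOf N)
  -- the restriction to `K`
  set incl : ↥K →* ↥N := Subgroup.inclusion hKN
  have hmemV : ∀ v : FFPair.zSup q ↥K, incl (v : ↥K) ∈ V.subgroupOf N := fun v =>
    mem_subgroupOf.2 ⟨_, v.2, rfl⟩
  let jK : FFPair.zSup q ↥K →* X :=
    j.comp ((incl.comp (FFPair.zSup q ↥K).subtype).codRestrict _ hmemV)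
  set κ : ↥K →* X := ι.comp incl with hκ
  haveI := FFPair.zSup_normal (G := ↥K) (p := q)
  have hMK : FFPair.IsModel (FFPair.zSup q ↥K) U κ jK := by
    refine ⟨?_, ?_, fun g => hM.mem _, fun g v v' h => hM.conj _ _ _ ?_, ?_, ?_⟩
    · intro a b h
      have h1 : ((a : ↥K) : G) = ((b : ↥K) : G) :=
        congrArg (fun t : ↥(V.subgroupOf N) => ((t : ↥N) : G)) (hM.inj h)
      exact Subtype.ext (Subtype.ext h1)
    · rw [← hM.range]
      refine le_antisymm ?_ ?_
      · rintro _ ⟨v, rfl⟩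
        exact ⟨_, rfl⟩
      · rintro _ ⟨⟨⟨v, hvN⟩, hv⟩, rfl⟩
        obtain ⟨w, hw, hwe⟩ := mem_subgroupOf.1 hv
        exact ⟨⟨w, hw⟩, congrArg j (Subtype.ext (Subtype.ext hwe))⟩
    · exact (congrArg incl h).trans (by simp only [map_mul, map_inv]; rfl)
    · ext k
      rw [hκ, MonoidHom.mem_ker, MonoidHom.comp_apply, ← MonoidHom.mem_ker, hM.ker,
        mem_centralizer_iff, mem_centralizer_iff]
      constructor
      · intro h v hv
        exact Subtype.ext (congrArg Subtype.val (h (incl v) (hmemV ⟨v, hv⟩)) :)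
      · rintro h ⟨v, hvN⟩ hv
        obtain ⟨w, hw, hwe⟩ := mem_subgroupOf.1 hv
        refine Subtype.ext ?_
        change v * (k : G) = k * v
        rw [show v = (w : G) from hwe.symm]
        exact congrArg Subtype.val (h w hw)
    · refine le_bot_iff.1 (le_trans (inf_le_inf_right _ ?_) hM.faith.le)
      rintro _ ⟨k, rfl⟩
      exact ⟨_, rfl⟩
  haveI hJn := FFPair.thompsonSubgroup_normal (G := ↥K) (p := q)
  have hF := hMK.isFF hZ hsep (hcore inferInstance) (J := Cfsg.thompsonSubgroup q ↥K)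
  have hgen := hMK.gen (J := Cfsg.thompsonSubgroup q ↥K)
    (S := Cfsg.maxElementaryAbelianSubgroups q ↥K) rfl (fun B hB => FFPair.maxIn_best hZ hB)
  set H := (Cfsg.thompsonSubgroup q ↥K).map κ with hH
  set K₁ := (Cfsg.pPrimeCore q ↥H).map H.subtype with hK₁
  set f : Subgroup G → Subgroup X := fun S => (S.subgroupOf N).map ι with hf
  have hfH : f (jIn q K) = H := by
    refine le_antisymm ?_ ?_
    · rintro _ ⟨⟨g, hgN⟩, hg, rfl⟩
      obtain ⟨w, hw, hwe⟩ := mem_subgroupOf.1 hg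
      exact ⟨w, hw, congrArg ι (Subtype.ext hwe)⟩
    · rintro _ ⟨w, hw, rfl⟩
      exact ⟨incl w, ⟨w, hw, rfl⟩, rfl⟩
  have hfn : ∀ {T S : Subgroup G}, T ≤ N → T ≤ normalizer (S : Set G) →
      f T ≤ normalizer (f S : Set X) := by
    intro T S _ hTS
    refine le_normalizer_of_conj_mem ?_
    rintro _ ⟨t, ht, rfl⟩ _ ⟨s, hs, rfl⟩
    exact ⟨t * s * t⁻¹, conj_mem hTS (mem_subgroupOf.1 ht) (mem_subgroupOf.1 hs),
      by simp only [map_mul, map_inv]⟩
  have hfU : ∀ S : Subgroup G, f S ≤ normalizer (U : Set X) := fun S => by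
    rintro _ ⟨s, -, rfl⟩; exact hM.mem s
  have hDN : D ≤ N := hDK.trans hKN
  have hBH : f A ≤ normalizer (H : Set X) :=
    hfH ▸ hfn hAN (hAK.trans (normalizer_le_normalizer_jIn K))
  have hDH : f D ≤ normalizer (H : Set X) :=
    hfH ▸ hfn hDN ((hDK.trans le_normalizer).trans (normalizer_le_normalizer_jIn K))
  have hBelem : Cfsg.IsElementaryAbelian p (f A) := by
    refine ⟨⟨⟨?_⟩⟩, ?_⟩
    · rintro ⟨_, a, ha, rfl⟩ ⟨_, b, hb, rfl⟩
      refine Subtype.ext ?_
      change ι a * ι b = ι b * ι a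
      rw [← map_mul, ← map_mul]
      exact congrArg ι (Subtype.ext (commute_of_isMulCommutative hA.1 ha hb))
    · rintro _ ⟨a, ha, rfl⟩
      rw [← map_pow, show a ^ p = 1 from Subtype.ext (by simpa using hA.2 _ ha), map_one]
  have hpK₁ : ¬ p ∣ Nat.card K₁ := fun hd => hpK <| hd.trans <|
    (card_dvd_of_le (map_subtype_le _ : K₁ ≤ H)).trans <| (card_map_dvd _ κ).trans
      (card_subgroup_dvd_card _)
  have hfix' : K₁ ⊓ centralizer (f A : Set X) ≤ normalizer (f D : Set X) := by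
    rintro d ⟨hd, hdA⟩
    have hdH : d ∈ f (jIn q K) := hfH.symm ▸ (map_subtype_le _ : K₁ ≤ H) hd
    obtain ⟨g, hg, rfl⟩ := hdH
    have hgK : (g : G) ∈ K := jIn_le q K hg
    obtain ⟨n, hn, hng⟩ := exists_fixed_in_coset (isPGroup_of_elemAb hA) (g := (g : G))
      (N := K ⊓ centralizer (V : Set G))
      (le_normalizer_inf hAK (le_normalizer_centralizer hAN))
      (not_dvd_card_of_le inf_le_left hpK) fun a ha => by
        refine ⟨K.mul_mem (conj_mem hAK ha hgK) (K.inv_mem hgK), ?_⟩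
        set a' : ↥N := ⟨a, hAN ha⟩
        have h1 : ι (a' * g * a'⁻¹ * g⁻¹) = 1 := by
          rw [map_mul, map_mul, map_mul, map_inv, map_inv,
            mem_centralizer_iff.1 hdA (ι a') ⟨a', ha, rfl⟩]
          group
        rw [← MonoidHom.mem_ker, hM.ker] at h1
        exact mem_centralizer_iff.2 fun v hv =>
          (congrArg Subtype.val (mem_centralizer_iff.1 h1 ⟨v, hVN hv⟩ hv) :)
    have hnN : n ∈ N := hKN hn.1
    have hι : ι (⟨n, hnN⟩ * g) = ι g := by
      rw [map_mul, show ι (⟨n, hnN⟩ : ↥N) = 1 from ?_, one_mul]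
      rw [← MonoidHom.mem_ker, hM.ker]
      exact mem_centralizer_iff.2 fun v hv =>
        Subtype.ext (mem_centralizer_iff.1 hn.2 (v : G) (mem_subgroupOf.1 hv))
    rw [← hι]
    refine mem_normalizer_of_conj_mem ?_
    rintro _ ⟨x, hx, rfl⟩
    refine ⟨⟨n, hnN⟩ * g * x * (⟨n, hnN⟩ * g)⁻¹, ?_, by simp only [map_mul, map_inv]⟩
    exact conj_mem hfix ⟨K.mul_mem hn.1 hgK, hng⟩ (mem_subgroupOf.1 hx)
  have key := ff_le_centralizer hF hgen (D := f D) hBelem hpq hpK₁ (hfU A) hBH
    (hBH.trans (Cores.normalizer_le_normalizer_map _))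
    ((hD.of_equiv (subgroupOfEquivOfLe hDN).symm).map ι) (hfU D) hDH
    (hDH.trans (Cores.normalizer_le_normalizer_map _)) (hfn hAN hAD) hfix'
  intro x hx g hg
  have hxN := hDN hx
  have hgN := hKN (jIn_le q K hg)
  refine ⟨commutatorElement_mem_left' (jIn_le q K hg) (hDK hx), ?_⟩
  have h1 : ι ⁅(⟨g, hgN⟩ : ↥N), ⟨x, hxN⟩⁆ = 1 := by
    rw [map_commutatorElement, commutatorElement_eq_one_iff_mul_comm]
    exact mem_centralizer_iff.1 (key ⟨⟨x, hxN⟩, hx, rfl⟩) _ (hfH ▸ ⟨⟨g, hgN⟩, hg, rfl⟩)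
  rw [← MonoidHom.mem_ker, hM.ker] at h1
  refine mem_centralizer_iff.2 fun v hv => ?_
  exact (congrArg Subtype.val (mem_centralizer_iff.1 h1 ⟨v, hVN hv⟩ hv) :)
where
  commutatorElement_mem_left' {H : Type _} [Group H] {K : Subgroup H} {g x : H} (hg : g ∈ K)
      (hx : x ∈ K) : ⁅g, x⁆ ∈ K := by
    rw [commutatorElement_def]
    exact K.mul_mem (K.mul_mem (K.mul_mem hg hx) (K.inv_mem hg)) (K.inv_mem hx)

/-- The Frattini argument for `J(K) C_K(zIn q K)`. -/
theorem le_sup_of_frattini {K S : Subgroup G} (hS : IsSylowIn q K S) :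
    K ≤ ((K ⊓ normalizer (Cfsg.thompsonSubgroupOf q S : Set G)) ⊔ jIn q K) ⊔
      (K ⊓ centralizer (zIn q K : Set G)) := by
  obtain ⟨s, hs⟩ := hS.exists_sylow
  set J := Cfsg.thompsonSubgroup q ↥K
  haveI : J.Normal := FFPair.thompsonSubgroup_normal
  set P : Sylow q J := (s.isPGroup'.comap_subtype (K := J)).toSylow fun hd =>
    s.not_dvd_index (hd.trans (Cores.relIndex_dvd_index_of_normal_right _ J)) with hPdef
  have hP : (P : Subgroup J).map J.subtype = (s : Subgroup K) ⊓ J :=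
    Subgroup.subgroupOf_map_subtype _ _
  intro g hg
  have hg' : (⟨g, hg⟩ : K) ∈ normalizer ((P : Subgroup J).map J.subtype : Set K) ⊔ J := by
    rw [Sylow.normalizer_sup_eq_top]; exact mem_top _
  rw [hP] at hg'
  obtain ⟨n, hn, c, hc, hnc⟩ := mem_sup_of_normal_right.1 hg'
  have hJs : Cfsg.thompsonSubgroupOf q ((s : Subgroup K) ⊓ J) =
      Cfsg.thompsonSubgroupOf q (s : Subgroup K) := by
    have hJC := PLocal.thompsonSubgroupOf_sylow_le s
    rw [PLocal.thompsonSubgroupOf_eq] at hJC ⊢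
    rw [PLocal.thompsonSubgroupOf_eq]
    obtain ⟨B, hB⟩ := PLocal.exists_maxIn (Q := PLocal.elemAb q) PLocal.elemAb_bot (s : Subgroup K)
    refine le_antisymm (sSup_le_sSup (PLocal.maxIn_subset hB (le_inf hB.1 ((le_sSup hB).trans hJC))
      inf_le_left)) (sSup_le fun T hT => le_sSup (PLocal.maxIn_of_mem_le hT
        (le_inf hT.1 ((le_sSup hT).trans hJC)) inf_le_left))
  have hn' : n ∈ normalizer (Cfsg.thompsonSubgroupOf q (s : Subgroup K) : Set K) :=
    hJs ▸ PLocal.normalizer_le_normalizer_thompsonSubgroupOf _ hn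
  have hmap : (Cfsg.thompsonSubgroupOf q (s : Subgroup K)).map K.subtype =
      Cfsg.thompsonSubgroupOf q S := by
    rw [← hs, PLocal.map_thompsonSubgroupOf _ K.subtype_injective.injOn]
  rw [show g = (n : G) * (c : G) from (congrArg Subtype.val hnc).symm]
  refine mem_sup_left (mul_mem (mem_sup_left ⟨n.2, ?_⟩) (mem_sup_right ⟨c, hc, rfl⟩))
  rw [← hmap]
  exact le_normalizer_map K.subtype ⟨n, hn', rfl⟩

end Cfsg.Agent.Signalizer
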