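import Cfsg.Agent.Lib.Signalizer.SSFT.Common

/-!
# Tools for the two-prime case

* `TwoPrimes`, `TwoPrimes.mem_core`
* `exists_split`: an element is the product of powers of coprime orders
* `commutator_mem_of_parts`, `Counter.false_of_lines_avoiding`: lines avoiding one point suffice
-/

set_option autoImplicit false
set_option linter.unusedSectionVars false

namespace Cfsg.Agent.Signalizer

open Subgroup LocalCharP
open scoped commutatorElement Pointwise

theorem exists_split {G : Type*} [Group G] {c : G} {a b : ℕ} (h : c ^ (a * b) = 1)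
    (hab : a.Coprime b) :
    ∃ c₁ c₂, c₁ ∈ zpowers c ∧ c₂ ∈ zpowers c ∧ c = c₁ * c₂ ∧ c₁ ^ a = 1 ∧ c₂ ^ b = 1 := by
  have hz : c ^ ((a : ℤ) * b) = 1 := by rw [← Nat.cast_mul, zpow_natCast]; exact h
  have hg : (1 : ℤ) = (a : ℤ) * Nat.gcdA a b + (b : ℤ) * Nat.gcdB a b := by
    rw [← Nat.gcd_eq_gcd_ab, hab.gcd_eq_one]; rfl
  refine ⟨c ^ ((b : ℤ) * Nat.gcdB a b), c ^ ((a : ℤ) * Nat.gcdA a b), ⟨_, rfl⟩, ⟨_, rfl⟩, ?_, ?_, ?_⟩
  · rw [← zpow_add, add_comm, ← hg, zpow_one]
  · rw [← zpow_natCast, ← zpow_mul,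
      show (b : ℤ) * Nat.gcdB a b * a = ((a : ℤ) * b) * Nat.gcdB a b by ring, zpow_mul, hz, one_zpow]
  · rw [← zpow_natCast, ← zpow_mul,
      show (a : ℤ) * Nat.gcdA a b * b = ((a : ℤ) * b) * Nat.gcdA a b by ring, zpow_mul, hz, one_zpow]

/-- The moved part of a coprime group is generated by the moved parts of the fixed points. -/
theorem commutator_mem_of_parts {G : Type*} [Group G] [Finite G] {p : ℕ} [hp : Fact p.Prime]
    {A : Subgroup G} (hA : Cfsg.IsElementaryAbelian p A) (h2 : p ^ 2 ≤ Nat.card A) {h : G}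
    (hh : h ∈ A) {W : Subgroup G} (hW : h ∈ normalizer (W : Set G)) (K : Subgroup G)
    (hK : Group.IsSolvable K) (hpK : ¬ p ∣ Nat.card K) (hAK : A ≤ normalizer (K : Set G))
    (hparts : ∀ b ∈ A, b ∉ zpowers h → ⁅K ⊓ centralizer {b}, zpowers h⁆ ≤ W) :
    ⁅K, zpowers h⁆ ≤ W := by
  induction hn : Nat.card K using Nat.strong_induction_on generalizing K with
  | _ n ih =>
  subst hn
  by_cases hK1 : K = ⊥
  · subst hK1; simp
  set F := zpowers h with hF
  have hFA : F ≤ A := zpowers_le.2 hh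
  have hFK : F ≤ normalizer (K : Set G) := hFA.trans hAK
  set K' := ⁅K, K⁆ with hK'
  have hK'K : K' ≤ K := Subgroup.commutator_le_self K
  haveI := hK
  have hlt : K' < K := Solvable.commutator_lt_of_solvable hK1
  have hAK' : A ≤ normalizer (K' : Set G) := Coprime.le_normalizer_commutator hAK hAK
  have hih : ⁅K', F⁆ ≤ W :=
    ih _ (lt_of_le_of_ne (Subgroup.card_le_of_le hK'K)
      fun he => hlt.ne (Subgroup.eq_of_le_of_card_ge hK'K he.ge)) K'
      (Coprime.isSolvable_of_le hK'K hK) (not_dvd_card_of_le hK'K hpK) hAK'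
      (fun b hb hbF => (Subgroup.commutator_mono (inf_le_inf_right _ hK'K) le_rfl).trans
        (hparts b hb hbF)) rfl
  have hKK' : K ≤ normalizer (K' : Set G) :=
    Coprime.le_normalizer_commutator le_normalizer le_normalizer
  set U := (W ⊓ K) ⊔ K' with hU
  have hKU : K ≤ normalizer (U : Set G) := by
    refine le_normalizer_of_conj_mem fun x hx y hy => ?_
    have hyK : y ∈ K := (sup_le inf_le_right hK'K : U ≤ K) hy
    have h1 : ⁅x, y⁆ ∈ U := mem_sup_right (commutator_mem_commutator hx hyK)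
    rw [show x * y * x⁻¹ = ⁅x, y⁆ * y by simp only [commutatorElement_def]; group]
    exact mul_mem h1 hy
  have hFW : F ≤ normalizer (W : Set G) := zpowers_le.2 hW
  have hFc : centralizer (F : Set G) = centralizer {h} := by
    rw [hF, zpowers_eq_closure, centralizer_closure]
  -- the elements moved into `U`
  let T : Subgroup G :=
    { carrier := {x | x ∈ K ∧ ∀ f ∈ F, ⁅x, f⁆ ∈ U}
      one_mem' := ⟨one_mem _, fun f _ => by simp⟩
      mul_mem' := fun {a b} ha hb => ⟨mul_mem ha.1 hb.1, fun f hf => by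
        rw [show ⁅a * b, f⁆ = a * ⁅b, f⁆ * a⁻¹ * ⁅a, f⁆ by simp only [commutatorElement_def]; group]
        exact mul_mem (conj_mem hKU ha.1 (hb.2 f hf)) (ha.2 f hf)⟩
      inv_mem' := fun {a} ha => ⟨inv_mem ha.1, fun f hf => by
        rw [show ⁅a⁻¹, f⁆ = a⁻¹ * ⁅a, f⁆⁻¹ * a⁻¹⁻¹ by simp only [commutatorElement_def]; group]
        exact conj_mem hKU (inv_mem ha.1) (inv_mem (ha.2 f hf))⟩ }
  have hgen : K ≤ T := by
    refine le_of_elements hA h2 _ K hpK hAK fun b hb hb1 x hx => ⟨hx.1, fun f hf => ?_⟩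
    by_cases hbF : b ∈ F
    · have heq : zpowers b = F := Subgroup.eq_of_le_of_card_ge (zpowers_le.2 hbF) (by
        rw [hF, Nat.card_zpowers, Nat.card_zpowers, orderOf_eq_prime (hA.2 b hb) hb1]
        exact Nat.le_of_dvd hp.out.pos (orderOf_dvd_of_pow_eq_one (hA.2 h hh)))
      have hxc : x ∈ centralizer (F : Set G) := by
        rw [← heq, zpowers_eq_closure, centralizer_closure]; exact hx.2
      rw [commutatorElement_eq_one_iff_mul_comm.2 (mem_centralizer_iff.1 hxc f hf).symm]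
      exact one_mem _
    · exact mem_sup_left ⟨hparts b hb hbF (commutator_mem_commutator hx hf),
        commutatorElement_mem_left hx.1 (hFK hf)⟩
  have hKFU : ⁅K, F⁆ ≤ U := Subgroup.commutator_le.2 fun x hx f hf => (hgen hx).2 f hf
  have hcopK : ∀ {L : Subgroup G}, L ≤ K → (Nat.card F).Coprime (Nat.card L) := fun {L} hL => by
    obtain ⟨i, hi⟩ := IsPGroup.iff_card.mp (isPGroup_zpowers_of_pow_eq_one (hA.2 h hh))
    rw [hF, hi]
    exact Nat.Coprime.pow_left i (hp.out.coprime_iff_not_dvd.2 (not_dvd_card_of_le hL hpK))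
  rw [← Coprime.commutator_commutator_eq hFK (hcopK le_rfl) (Or.inr hK), Subgroup.commutator_le]
  intro y hy f hf
  have hy' : y ∈ ((W ⊓ K : Subgroup G) : Set G) * (K' : Set G) := by
    rw [← coe_mul_of_left_le_normalizer_right _ _ (inf_le_right.trans hKK')]; exact hKFU hy
  obtain ⟨w, hw, z, hz, rfl⟩ := hy'
  have hz' : z ∈ ((⁅K', F⁆ : Subgroup G) : Set G) * ((K' ⊓ centralizer (F : Set G) : Subgroup G) : Set G) := by
    rw [← coe_mul_of_right_le_normalizer_left _ _
      (inf_le_left.trans (Subgroup.normalizer_commutator_ge_left K' F))]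
    exact (Coprime.commutator_sup_centralizer (hFA.trans hAK') (hcopK hK'K)
      (Or.inr (Coprime.isSolvable_of_le hK'K hK))).ge hz
  obtain ⟨z₁, hz₁, c, hc, rfl⟩ := hz'
  have hcf : c * f = f * c := (mem_centralizer_iff.1 hc.2 f hf).symm
  have he : ⁅w * (z₁ * c), f⁆ = ⁅w * z₁, f⁆ := by
    simp only [commutatorElement_def, mul_inv_rev]
    calc w * (z₁ * c) * f * (c⁻¹ * z₁⁻¹ * w⁻¹) * f⁻¹
        = w * z₁ * (c * f) * c⁻¹ * z₁⁻¹ * w⁻¹ * f⁻¹ := by group
      _ = w * z₁ * (f * c) * c⁻¹ * z₁⁻¹ * w⁻¹ * f⁻¹ := by rw [hcf]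
      _ = _ := by group
  rw [he]
  exact commutatorElement_mem_left (W.mul_mem hw.1 (hih hz₁)) (hFW hf)

namespace SSFT

universe u

variable {G : Type u} [Group G] [Finite G] {p : ℕ} [hp : Fact p.Prime] {A : Subgroup G}
  {θ : G → Subgroup G}

/-- Only two primes. -/
structure TwoPrimes (A : Subgroup G) (θ : G → Subgroup G) (q r : ℕ) : Prop where
  ne : q ≠ r
  only : ∀ t, ThetaPrime A θ t → t = q ∨ t = r

omit hp in
theorem TwoPrimes.symm {q r : ℕ} (h : TwoPrimes A θ q r) : TwoPrimes A θ r q :=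
  ⟨h.ne.symm, fun t ht => (h.only t ht).symm⟩

/-- An element of prime power order of a member centralising both cores lies in its core. -/
theorem TwoPrimes.mem_core {q r : ℕ} (h : TwoPrimes A θ q r) (S : Setup p A θ) {t : ℕ}
    [Fact t.Prime] {K : Subgroup G} (hK : K ∈ Cfsg.signalizerFamily p A θ) {x : G} (hx : x ∈ K)
    {n : ℕ} (hn : x ^ t ^ n = 1) (hq : x ∈ centralizer (pCoreIn q K : Set G))
    (hr : x ∈ centralizer (pCoreIn r K : Set G)) : x ∈ pCoreIn t K := by
  refine mem_pCoreIn_of_centralizes hK.1 hx hn fun s hs hd => ?_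
  rcases h.only s (S.thetaPrime_of_dvd hK hs hd) with rfl | rfl
  exacts [hq, hr]

/-- Members are of order `q^i r^j`. -/
theorem TwoPrimes.exists_pow_mul {q r : ℕ} (h : TwoPrimes A θ q r) (S : Setup p A θ)
    {K : Subgroup G} (hK : K ∈ Cfsg.signalizerFamily p A θ) {x : G} (hx : x ∈ K) :
    ∃ i j : ℕ, x ^ (q ^ i * r ^ j) = 1 := by
  refine ⟨(orderOf x).factorization q, (orderOf x).factorization r, orderOf_dvd_iff_pow_eq_one.1 ?_⟩
  have h0 : orderOf x ≠ 0 := (orderOf_pos x).ne'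
  conv_lhs => rw [← Nat.prod_factorization_pow_eq_self h0]
  have hsub : (orderOf x).factorization.support ⊆ {q, r} := by
    intro s hs
    rw [Nat.support_factorization, Nat.mem_primeFactors] at hs
    have hd : s ∣ Nat.card K := hs.2.1.trans (by
      rw [← Subgroup.orderOf_mk x hx]; exact _root_.orderOf_dvd_natCard _)
    simpa using h.only s (S.thetaPrime_of_dvd hK hs.1 hd)
  rw [Finsupp.prod_of_support_subset _ hsub _ (fun i _ => pow_zero i), Finset.prod_pair h.ne]

namespace Counter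

variable (C : Counter p A θ)
include C

/-- The lines avoiding one point cannot all give subgroups of one member. -/
theorem false_of_lines_avoiding {M : Subgroup G} (hM : M ∈ Cfsg.signalizerFamily p A θ) {h : G}
    (hh : h ∈ A) (hh1 : h ≠ 1)
    (hl : ∀ B, Line p A B → h ∉ B → Cfsg.signalizerInf B θ ≤ M) : False := by
  have S := C.toSetup
  set F := zpowers h with hF
  set E := ⨆ B : {B : Subgroup G // Line p A B ∧ h ∉ B}, ⁅Cfsg.signalizerInf B.1 θ, F⁆ with hE
  have hFM : F ≤ normalizer (M : Set G) := zpowers_le.2 (invariant_of_mem_family hM hh)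
  have hEM : E ≤ M := iSup_le fun B => (Subgroup.commutator_mono (hl B.1 B.2.1 B.2.2) le_rfl).trans
    (Coprime.commutator_le_left' hFM)
  have hFA : F ≤ A := zpowers_le.2 hh
  have hAE : A ≤ normalizer (E : Set G) := le_normalizer_iSup fun B =>
    Coprime.le_normalizer_commutator (invariant_signalizerInf S.func.1 B.2.1.1)
      (le_normalizer_of_commute fun a ha b hb => S.comm ha (hFA hb))
  -- the moved part of every point off `F`
  have hmov : ∀ d ∈ A, d ∉ F → ⁅θ d, F⁆ ≤ E := by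
    intro d hd hdF
    have hd1 : d ≠ 1 := fun h0 => hdF (h0 ▸ one_mem _)
    obtain ⟨B₁, hB₁, hhB₁, hdB₁⟩ := S.exists_line hh hd
    obtain ⟨e, he, heB₁⟩ := S.exists_mem_not_line hB₁
    obtain ⟨B₀, hB₀, hhB₀, heB₀⟩ := S.exists_line hh he
    have hdB₀ : d ∉ B₀ := fun hdB₀ => hdF <| S.inter_le hB₀ hB₁ (fun h0 => heB₁ (h0 ▸ heB₀))
      hhB₀ hhB₁ hh1 ⟨hdB₀, hdB₁⟩
    refine commutator_mem_of_parts (elemAb_of_le S.elem hB₀.1) (S.line_card hB₀).ge hhB₀
      (hAE hh) _ (S.solv hd hd1) (S.not_dvd hd hd1)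
      (hB₀.1.trans (S.inv hd hd1)) fun b hb hbF => ?_
    obtain ⟨B, hB, hdB, hbB⟩ := S.exists_line hd (hB₀.1 hb)
    have hhB : h ∉ B := fun hhB => hbF <| S.inter_le hB₀ hB (fun h0 => hdB₀ (h0 ▸ hdB))
      hhB₀ hhB hh1 ⟨hb, hbB⟩
    have hb1 : b ≠ 1 := fun h0 => hbF (h0 ▸ one_mem _)
    have hbd : b ∉ zpowers d := fun hbd => hdB₀ (by
      have heq : zpowers b = zpowers d := Subgroup.eq_of_le_of_card_ge (zpowers_le.2 hbd) (by
        rw [Nat.card_zpowers, Nat.card_zpowers, orderOf_eq_prime (S.pow_eq hd) hd1,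
          orderOf_eq_prime (S.pow_eq (hB₀.1 hb)) hb1])
      exact zpowers_le.2 hb (heq ▸ mem_zpowers d))
    refine le_trans (Subgroup.commutator_mono (fun x hx => ?_) le_rfl)
      (le_iSup (fun B : {B : Subgroup G // Line p A B ∧ h ∉ B} =>
        ⁅Cfsg.signalizerInf B.1 θ, F⁆) ⟨B, hB, hhB⟩)
    exact theta_inf_centralizer_le_inf S.func.1 hd hd1 hB.1
      ⟨hx.1, S.mem_centralizer_line hB hdB hd1 hbB hbd (S.le_cent hd hd1 hx.1) hx.2⟩
  have hoff : ∀ {B : Subgroup G} {d : G}, Line p A B → d ∈ B → d ≠ 1 → h ∉ B → d ∉ F := by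
    intro B d hB hd hd1 hhB hdF
    refine hhB (zpowers_le.2 hd ?_)
    have heq : zpowers d = F := Subgroup.eq_of_le_of_card_ge (zpowers_le.2 hdF) (by
      rw [hF, Nat.card_zpowers, Nat.card_zpowers, orderOf_eq_prime (S.pow_eq hh) hh1,
        orderOf_eq_prime (S.pow_eq (hB.1 hd)) hd1])
    exact heq ▸ mem_zpowers h
  -- every line normalises `E`
  have key : ∀ B, Line p A B → Cfsg.signalizerInf B θ ≤ normalizer (E : Set G) := by
    intro B hB x hx
    refine mem_normalizer_of_conj_mem fun y hy => ?_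
    suffices hs : E ≤ E.comap (MulAut.conj x).toMonoidHom from hs hy
    refine iSup_le fun B' => ?_
    rw [Subgroup.commutator_le]
    intro u hu f hf
    rw [mem_comap]
    change x * ⁅u, f⁆ * x⁻¹ ∈ E
    obtain ⟨d, hdB, hdB', hd1⟩ := S.exists_mem_inter hB B'.2.1
    have hdF := hoff B'.2.1 hdB' hd1 B'.2.2
    have hdA := hB.1 hdB
    have hxd : x ∈ θ d := signalizerInf_le hdB hd1 hx
    have hud : u ∈ θ d := signalizerInf_le hdB' hd1 hu
    by_cases hhB : h ∈ B
    · have hxf : x * f * x⁻¹ = f := by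
        have hxB : x ∈ centralizer (B : Set G) := signalizerInf_le_centralizer S.func.1 hB.1 hx
        rw [← mem_centralizer_iff.1 hxB f ((zpowers_le.2 hhB) hf), mul_inv_cancel_right]
      have he : x * ⁅u, f⁆ * x⁻¹ = ⁅x * u * x⁻¹, x * f * x⁻¹⁆ := by
        simp only [commutatorElement_def]; group
      rw [he, hxf]
      exact hmov d hdA hdF (commutator_mem_commutator ((θ d).mul_mem ((θ d).mul_mem hxd hud)
        ((θ d).inv_mem hxd)) hf)
    · rw [show x * ⁅u, f⁆ * x⁻¹ = ⁅x * u, f⁆ * ⁅x, f⁆⁻¹ by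
        simp only [commutatorElement_def]; group]
      exact mul_mem (hmov d hdA hdF (commutator_mem_commutator ((θ d).mul_mem hxd hud) hf))
        (inv_mem (le_iSup (fun B : {B : Subgroup G // Line p A B ∧ h ∉ B} =>
          ⁅Cfsg.signalizerInf B.1 θ, F⁆) ⟨B, hB, hhB⟩ (commutator_mem_commutator hx hf)))
  have hE1 : E = ⊥ := by
    by_contra hne
    exact C.false_of_normalised (mem_family_of_le hM hEM hAE) hne fun a ha ha1 =>
      S.theta_le_of_lines ha ha1 fun B hB _ => key B hB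
  refine C.false_of_centralizer hh hh1 fun a ha ha1 =>
    S.theta_le_of_lines ha ha1 fun B hB _ => ?_
  by_cases hhB : h ∈ B
  · exact (signalizerInf_le_centralizer S.func.1 hB.1).trans (centralizer_le_singleton hhB)
  · rw [← centralizer_closure, ← zpowers_eq_closure, ← hF, ← commutator_eq_bot_iff_le_centralizer,
      ← le_bot_iff, ← hE1]
    exact le_iSup (fun B : {B : Subgroup G // Line p A B ∧ h ∉ B} =>
      ⁅Cfsg.signalizerInf B.1 θ, F⁆) ⟨B, hB, hhB⟩

end Counter

end SSFT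

end Cfsg.Agent.Signalizer
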