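import Cfsg.Agent.Lib.Signalizer.SSFT.TwoAux

/-!
# Two primes: no maximal member has both cores nontrivial

* `Mixed`, `Counter.eq_of_cores_le`, `Counter.le_of_normalizes_part`, `Counter.le_of_parts`
* `Counter.qMem_le_of_two_lines`, `Counter.exists_good_part`, `Counter.false_of_mixed`
-/

set_option autoImplicit false
set_option linter.unusedSectionVars false

namespace Cfsg.Agent.Signalizer.SSFT

open Subgroup LocalCharP
open scoped commutatorElement

universe u

variable {G : Type u} [Group G] [Finite G] {p : ℕ} [hp : Fact p.Prime] {A : Subgroup G}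
  {θ : G → Subgroup G} {q r : ℕ} [Fact q.Prime] [Fact r.Prime]

/-- A maximal member with both cores nontrivial. -/
structure Mixed (p : ℕ) (A : Subgroup G) (θ : G → Subgroup G) (q r : ℕ) (M : Subgroup G) : Prop where
  two : TwoPrimes A θ q r
  isMax : IsMax p A θ M
  neq : pCoreIn q M ≠ ⊥
  ner : pCoreIn r M ≠ ⊥

omit hp [Fact q.Prime] [Fact r.Prime] in
theorem Mixed.symm {M : Subgroup G} (h : Mixed p A θ q r M) : Mixed p A θ r q M :=
  ⟨h.two.symm, h.isMax, h.ner, h.neq⟩

theorem cores_commute (hqr : q ≠ r) (K : Subgroup G) :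
    pCoreIn q K ≤ centralizer (pCoreIn r K : Set G) :=
  commute_of_isPGroup hqr (isPGroup_pCoreIn q K) (isPGroup_pCoreIn r K)
    ((pCoreIn_le q K).trans (le_normalizer_pCoreIn r K))
    ((pCoreIn_le r K).trans (le_normalizer_pCoreIn q K))

theorem inv_pCoreIn {K : Subgroup G} (hK : K ∈ Cfsg.signalizerFamily p A θ) (q : ℕ) :
    A ≤ normalizer (pCoreIn q K : Set G) :=
  (invariant_of_mem_family hK).trans (normalizer_le_normalizer_pCoreIn q K)

theorem center_ne_bot {X : Subgroup G} (hX : IsPGroup q X) (h : X ≠ ⊥) :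
    X ⊓ centralizer (X : Set G) ≠ ⊥ := fun h0 => by
  obtain ⟨x, hx, hx1, hxc⟩ := exists_mem_centralizing hX le_rfl le_normalizer h
  exact hx1 (mem_bot.1 (h0 ▸ mem_inf.2 ⟨hx, hxc⟩))

namespace Counter

variable (C : Counter p A θ)
include C

theorem pCore_mem {K : Subgroup G} (hK : K ∈ Cfsg.signalizerFamily p A θ) (q : ℕ) :
    pCoreIn q K ∈ Cfsg.signalizerFamily p A θ :=
  mem_family_of_le hK (pCoreIn_le q K) (inv_pCoreIn hK q)

variable {M : Subgroup G} (h : Mixed p A θ q r M)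
include h

/-- A part of `O_r(M)` centralises the `q`-core of a member containing a large part of `O_q(M)`. -/
theorem part_le_centralizer {H X₀ Y₀ : Subgroup G} (hH : H ∈ Cfsg.signalizerFamily p A θ)
    (hX : X₀ ≤ pCoreIn q M) (hY : Y₀ ≤ pCoreIn r M) (hAX : A ≤ normalizer (X₀ : Set G))
    (hXH : X₀ ≤ H) (hYH : Y₀ ≤ H)
    (hXM : ∀ K ∈ Cfsg.signalizerFamily p A θ, K ≤ centralizer (X₀ : Set G) → K ≤ M) :
    Y₀ ≤ centralizer (pCoreIn q H : Set G) := by
  refine Coprime.thompson_pq q ((isPGroup_pCoreIn q M).to_le hX) ?_ (isPGroup_pCoreIn q H)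
    ((hX.trans (cores_commute h.two.ne M)).trans (Subgroup.centralizer_le (SetLike.coe_subset_coe.2 hY)))
    (hXH.trans (le_normalizer_pCoreIn q H)) (hYH.trans (le_normalizer_pCoreIn q H)) ?_
  · obtain ⟨i, hi⟩ := IsPGroup.iff_card.mp ((isPGroup_pCoreIn r M).to_le hY)
    rw [hi]
    exact Nat.Coprime.pow_left i ((Nat.coprime_primes Fact.out Fact.out).2 h.two.ne.symm)
  · intro y hy
    have hyM : y ∈ M := hXM _ (mem_family_of_le hH (inf_le_left.trans (pCoreIn_le q H))
      (le_normalizer_inf (inv_pCoreIn hH q) (le_normalizer_centralizer hAX))) inf_le_right hy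
    refine mem_centralizer_iff.2 fun c hc => ?_
    have h1 : ⁅y, c⁆ = 1 := eq_one_of_mem_of_mem h.two.ne.symm
      (isPGroup_pCoreIn r M) (isPGroup_pCoreIn q H)
      (commutatorElement_mem_right (hY hc) (le_normalizer_pCoreIn r M hyM))
      (commutatorElement_mem_left hy.1 (le_normalizer_pCoreIn q H (hYH hc)))
    exact (commutatorElement_eq_one_iff_mul_comm.1 h1).symm

/-- The `q`-core of such a member lies in `M`. -/
theorem core_le_of_parts {H X₀ Y₀ : Subgroup G} (hH : H ∈ Cfsg.signalizerFamily p A θ)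
    (hX : X₀ ≤ pCoreIn q M) (hY : Y₀ ≤ pCoreIn r M) (hAX : A ≤ normalizer (X₀ : Set G))
    (hXH : X₀ ≤ H) (hYH : Y₀ ≤ H) (hY0 : Y₀ ≠ ⊥)
    (hXM : ∀ K ∈ Cfsg.signalizerFamily p A θ, K ≤ centralizer (X₀ : Set G) → K ≤ M)
    (hYM : ∀ K ∈ Cfsg.signalizerFamily p A θ, K ≤ centralizer (Y₀ : Set G) → K ≤ M) :
    pCoreIn q H ≤ M ∧ pCoreIn r H ≠ ⊥ := by
  have hc := C.part_le_centralizer h hH hX hY hAX hXH hYH hXM
  refine ⟨hYM _ (C.pCore_mem hH q) (le_centralizer_iff.1 hc), fun h0 => hY0 ?_⟩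
  refine (Subgroup.eq_bot_iff_forall _).2 fun y hy => ?_
  obtain ⟨n, hn⟩ := isPGroup_pCoreIn r M ⟨y, hY hy⟩
  have := h.two.mem_core C.toSetup hH (t := r) (hYH hy) (n := n)
    (by simpa using congrArg Subtype.val hn) (hc hy) (by rw [h0]; simp [Subgroup.mem_centralizer_iff])
  rwa [h0, mem_bot] at this

theorem le_of_centralizes_core {K : Subgroup G} (hK : K ∈ Cfsg.signalizerFamily p A θ)
    (hKP : K ≤ centralizer (pCoreIn q M : Set G)) : K ≤ M :=
  h.isMax.stable C h.neq K hK (hKP.trans (Subgroup.centralizer_le_normalizer _))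

/-- In a maximal member containing both cores of `M` the `r`-core contains that of `M`. -/
theorem core_le_core {H : Subgroup G} (hH : H ∈ Cfsg.signalizerFamily p A θ)
    (hP : pCoreIn q M ≤ H) (hE : pCoreIn r M ≤ H) : pCoreIn r M ≤ pCoreIn r H := by
  have hAP := inv_pCoreIn h.isMax.1 q
  have hAE := inv_pCoreIn h.isMax.1 r
  have hXM : ∀ K ∈ Cfsg.signalizerFamily p A θ, K ≤ centralizer (pCoreIn q M : Set G) → K ≤ M :=
    fun K hK hc => C.le_of_centralizes_core h hK hc
  have hYM : ∀ K ∈ Cfsg.signalizerFamily p A θ, K ≤ centralizer (pCoreIn r M : Set G) → K ≤ M :=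
    fun K hK hc => C.le_of_centralizes_core h.symm hK hc
  have hEP := C.part_le_centralizer h hH le_rfl le_rfl hAP hP hE hXM
  have hPR := C.part_le_centralizer h.symm hH le_rfl le_rfl hAE hE hP hYM
  set K := H ⊓ centralizer (pCoreIn q H : Set G) with hKdef
  set W := pCoreIn q H ⊔ pCoreIn q M with hWdef
  have hWq : IsPGroup q W := (isPGroup_pCoreIn q H).to_sup_of_normal_left'
    (isPGroup_pCoreIn q M) (hP.trans (le_normalizer_pCoreIn q H))
  have hKW : K ≤ normalizer (W : Set G) := by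
    refine le_normalizer_of_conj_mem fun x hx y hy => ?_
    suffices hs : W ≤ W.comap (MulAut.conj x).toMonoidHom from hs hy
    refine sup_le (fun y hy => mem_sup_left (conj_mem (le_normalizer_pCoreIn q H) hx.1 hy))
      fun y hy => ?_
    rw [mem_comap]
    change x * y * x⁻¹ ∈ W
    set c := ⁅x, y⁆ with hc
    have hcH : c ∈ H := by
      rw [hc, commutatorElement_def]
      exact H.mul_mem (H.mul_mem (H.mul_mem hx.1 (hP hy)) (H.inv_mem hx.1)) (H.inv_mem (hP hy))
    have hcP : c ∈ centralizer (pCoreIn q H : Set G) :=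
      commutatorElement_mem_left hx.2
        ((le_normalizer_centralizer (le_normalizer_pCoreIn q H)) (hP hy))
    have hcR : c ∈ centralizer (pCoreIn r H : Set G) :=
      commutatorElement_mem_right (hPR hy)
        ((le_normalizer_centralizer (le_normalizer_pCoreIn r H)) hx.1)
    obtain ⟨i, j, hij⟩ := h.two.exists_pow_mul C.toSetup hH hcH
    obtain ⟨c₁, c₂, hc₁, hc₂, hc12, h1, h2⟩ := exists_split hij
      (Nat.Coprime.pow i j ((Nat.coprime_primes Fact.out Fact.out).2 h.two.ne))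
    have hc₁P : c₁ ∈ pCoreIn q H := h.two.mem_core C.toSetup hH (zpowers_le.2 hcH hc₁) h1
      (zpowers_le.2 hcP hc₁) (zpowers_le.2 hcR hc₁)
    have hc₂R : c₂ ∈ pCoreIn r H := h.two.mem_core C.toSetup hH (zpowers_le.2 hcH hc₂) h2
      (zpowers_le.2 hcP hc₂) (zpowers_le.2 hcR hc₂)
    have hcomm : Commute c₂ (c₁ * y) :=
      Commute.mul_right (mem_centralizer_iff.1 (cores_commute h.two.ne H hc₁P) c₂ hc₂R)
        (mem_centralizer_iff.1 (hPR hy) c₂ hc₂R)
    have hxy : x * y * x⁻¹ = c₂ * (c₁ * y) := by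
      rw [← mul_assoc, show c₂ * c₁ = c₁ * c₂ from
        mem_centralizer_iff.1 (cores_commute h.two.ne H hc₁P) c₂ hc₂R, ← hc12, hc]
      simp only [commutatorElement_def]; group
    have hmem : c₁ * y ∈ W := mul_mem (mem_sup_left hc₁P) (mem_sup_right hy)
    obtain ⟨a, ha⟩ := hWq ⟨_, hmem⟩
    obtain ⟨b, hb⟩ := isPGroup_pCoreIn q M ⟨y, hy⟩
    have hb' : y ^ q ^ b = 1 := by simpa using congrArg Subtype.val hb
    have hc2q : c₂ ^ q ^ (a + b) = 1 := by
      have e1 : (x * y * x⁻¹) ^ q ^ (a + b) = 1 := by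
        rw [conj_pow, pow_add, mul_comm (q ^ a), pow_mul, hb', one_pow]; simp
      have e2 : (c₁ * y) ^ q ^ (a + b) = 1 := by
        rw [pow_add, pow_mul, show (c₁ * y) ^ q ^ a = 1 by simpa using congrArg Subtype.val ha,
          one_pow]
      rwa [hxy, hcomm.mul_pow, e2, mul_one] at e1
    have hc21 : c₂ = 1 := eq_one_of_coprime (isPGroup_pCoreIn r H) hc₂R
      ((Nat.Coprime.pow_left (a + b) ((Nat.coprime_primes Fact.out Fact.out).2 h.two.ne)).coprime_dvd_left
        (orderOf_dvd_of_pow_eq_one hc2q))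
    rw [hxy, hc21, one_mul]
    exact hmem
  set K' := K ⊓ centralizer (W : Set G) with hK'
  have hAK : A ≤ normalizer (K : Set G) :=
    le_normalizer_inf (invariant_of_mem_family hH) (le_normalizer_centralizer (inv_pCoreIn hH q))
  have hAW : A ≤ normalizer (W : Set G) := le_normalizer_sup (inv_pCoreIn hH q) hAP
  have hK'M : K' ≤ M := hXM _ (mem_family_of_le hH (inf_le_left.trans inf_le_left)
    (le_normalizer_inf hAK (le_normalizer_centralizer hAW)))
    (inf_le_right.trans (Subgroup.centralizer_le (SetLike.coe_subset_coe.2 le_sup_right)))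
  have hEK : pCoreIn r M ≤ K' := le_inf (le_inf hE hEP)
    (le_centralizer_iff.1 (sup_le (le_centralizer_iff.1 hEP) (cores_commute h.two.ne M)))
  refine le_trans (le_pCoreIn hEK (isPGroup_pCoreIn r M) (hK'M.trans (le_normalizer_pCoreIn r M))) ?_
  refine le_trans (le_pCoreIn ((pCoreIn_le r K').trans inf_le_left) (isPGroup_pCoreIn r K')
    ((le_normalizer_inf le_normalizer (le_normalizer_centralizer hKW)).trans
      (normalizer_le_normalizer_pCoreIn r K'))) ?_
  exact le_pCoreIn ((pCoreIn_le r K).trans inf_le_left) (isPGroup_pCoreIn r K)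
    ((le_normalizer_inf le_normalizer (le_normalizer_centralizer (le_normalizer_pCoreIn q H))).trans
      (normalizer_le_normalizer_pCoreIn r K))

/-- `M` is the only maximal member containing both of its cores. -/
theorem eq_of_cores_le {H : Subgroup G} (hH : IsMax p A θ H) (hP : pCoreIn q M ≤ H)
    (hE : pCoreIn r M ≤ H) : H = M := by
  have hXM : ∀ K ∈ Cfsg.signalizerFamily p A θ, K ≤ centralizer (pCoreIn q M : Set G) → K ≤ M :=
    fun K hK hc => C.le_of_centralizes_core h hK hc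
  have hYM : ∀ K ∈ Cfsg.signalizerFamily p A θ, K ≤ centralizer (pCoreIn r M : Set G) → K ≤ M :=
    fun K hK hc => C.le_of_centralizes_core h.symm hK hc
  obtain ⟨hPM, hR1⟩ := C.core_le_of_parts h hH.1 le_rfl le_rfl (inv_pCoreIn h.isMax.1 q) hP hE
    h.ner hXM hYM
  obtain ⟨hRM, -⟩ := C.core_le_of_parts h.symm hH.1 le_rfl le_rfl (inv_pCoreIn h.isMax.1 r) hE hP
    h.neq hYM hXM
  have hER := C.core_le_core h hH.1 hP hE
  have hPP := C.core_le_core h.symm hH.1 hE hP
  set R := pCoreIn r H with hRdef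
  set Z := R ⊓ centralizer (R : Set G) with hZdef
  have hcP := cores_commute (K := H) h.two.ne
  have hZE : Z ≤ pCoreIn r M := fun z hz => by
    obtain ⟨n, hn⟩ := isPGroup_pCoreIn r H ⟨z, hz.1⟩
    exact h.two.mem_core C.toSetup h.isMax.1 (hRM hz.1) (n := n)
      (by simpa using congrArg Subtype.val hn)
      (Subgroup.centralizer_le (SetLike.coe_subset_coe.2 hPP) (le_centralizer_iff.1 hcP hz.1))
      (Subgroup.centralizer_le (SetLike.coe_subset_coe.2 hER) hz.2)
  set K := M ⊓ centralizer (pCoreIn r M : Set G)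
  have hKH : K ≤ H := hH.le_of_normalizes C (center_ne_bot (isPGroup_pCoreIn r H) hR1)
    (le_normalizer_inf (inv_pCoreIn hH.1 r) (le_normalizer_centralizer (inv_pCoreIn hH.1 r)))
    (inf_le_left.trans (pCoreIn_le r H))
    (le_normalizer_inf (le_normalizer_pCoreIn r H)
      (le_normalizer_centralizer (le_normalizer_pCoreIn r H)))
    (mem_family_of_le h.isMax.1 inf_le_left (le_normalizer_inf (invariant_of_mem_family h.isMax.1)
      (le_normalizer_centralizer (inv_pCoreIn h.isMax.1 r))))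
    ((inf_le_right.trans (Subgroup.centralizer_le (SetLike.coe_subset_coe.2 hZE))).trans
      (Subgroup.centralizer_le_normalizer _))
  have heq : pCoreIn q H = pCoreIn q M := le_antisymm
    ((le_pCoreIn (X := K)
      (le_inf hPM (hcP.trans (Subgroup.centralizer_le (SetLike.coe_subset_coe.2 hER))))
      (isPGroup_pCoreIn q H) (hKH.trans (le_normalizer_pCoreIn q H))).trans
      (le_pCoreIn ((pCoreIn_le q K).trans inf_le_left) (isPGroup_pCoreIn q K)
        ((le_normalizer_inf le_normalizer (le_normalizer_centralizer (le_normalizer_pCoreIn r M))).trans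
          (normalizer_le_normalizer_pCoreIn q K)))) hPP
  exact (hH.2 M h.isMax.1 (h.isMax.stable C h.neq H hH.1 (heq ▸ le_normalizer_pCoreIn q H))).symm

theorem eq_of_parts {H X₀ Y₀ : Subgroup G} (hH : IsMax p A θ H)
    (hX : X₀ ≤ pCoreIn q M) (hY : Y₀ ≤ pCoreIn r M) (hAX : A ≤ normalizer (X₀ : Set G))
    (hAY : A ≤ normalizer (Y₀ : Set G)) (hX0 : X₀ ≠ ⊥) (hY0 : Y₀ ≠ ⊥)
    (hXH : X₀ ≤ H) (hYH : Y₀ ≤ H)
    (hXM : ∀ K ∈ Cfsg.signalizerFamily p A θ, K ≤ centralizer (X₀ : Set G) → K ≤ M)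
    (hYM : ∀ K ∈ Cfsg.signalizerFamily p A θ, K ≤ centralizer (Y₀ : Set G) → K ≤ M) : H = M := by
  obtain ⟨hPM, hR1⟩ := C.core_le_of_parts h hH.1 hX hY hAX hXH hYH hY0 hXM hYM
  obtain ⟨hRM, hP1⟩ := C.core_le_of_parts h.symm hH.1 hY hX hAY hYH hXH hX0 hYM hXM
  exact (C.eq_of_cores_le (⟨h.two, hH, hP1, hR1⟩ : Mixed p A θ q r H) h.isMax hPM hRM).symm

/-- Members normalising a nontrivial part of `O_q(M)` lie in `M`. -/
theorem le_of_normalizes_part {X₀ : Subgroup G} (hX : X₀ ≤ pCoreIn q M)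
    (hAX : A ≤ normalizer (X₀ : Set G)) (hX0 : X₀ ≠ ⊥) {K : Subgroup G}
    (hK : K ∈ Cfsg.signalizerFamily p A θ) (hKX : K ≤ normalizer (X₀ : Set G)) : K ≤ M := by
  have hXmem := mem_family_of_le h.isMax.1 (hX.trans (pCoreIn_le q M)) hAX
  obtain ⟨H, hH, hNH⟩ := exists_isMax_ge (C.norC_mem hXmem hX0).1
  set Z₁ := pCoreIn q M ⊓ centralizer (pCoreIn q M : Set G)
  set Z₂ := pCoreIn r M ⊓ centralizer (pCoreIn r M : Set G)
  have hA₁ : A ≤ normalizer (Z₁ : Set G) :=
    le_normalizer_inf (inv_pCoreIn h.isMax.1 q) (le_normalizer_centralizer (inv_pCoreIn h.isMax.1 q))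
  have hA₂ : A ≤ normalizer (Z₂ : Set G) :=
    le_normalizer_inf (inv_pCoreIn h.isMax.1 r) (le_normalizer_centralizer (inv_pCoreIn h.isMax.1 r))
  have h₁ : Z₁ ≤ H := (C.le_norC (mem_family_of_le h.isMax.1 (inf_le_left.trans (pCoreIn_le q M)) hA₁)
    ((inf_le_right.trans (Subgroup.centralizer_le (SetLike.coe_subset_coe.2 hX))).trans
      (Subgroup.centralizer_le_normalizer _))).trans hNH
  have h₂ : Z₂ ≤ H := (C.le_norC (mem_family_of_le h.isMax.1 (inf_le_left.trans (pCoreIn_le r M)) hA₂)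
    ((inf_le_left.trans ((cores_commute h.two.ne.symm M).trans
      (Subgroup.centralizer_le (SetLike.coe_subset_coe.2 hX)))).trans
      (Subgroup.centralizer_le_normalizer _))).trans hNH
  have heq := C.eq_of_parts h hH inf_le_left inf_le_left hA₁ hA₂
    (center_ne_bot (isPGroup_pCoreIn q M) h.neq) (center_ne_bot (isPGroup_pCoreIn r M) h.ner) h₁ h₂
    (fun K hK hc => h.isMax.le_of_normalizes C (center_ne_bot (isPGroup_pCoreIn q M) h.neq) hA₁
      (inf_le_left.trans (pCoreIn_le q M))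
      (le_normalizer_inf (le_normalizer_pCoreIn q M)
        (le_normalizer_centralizer (le_normalizer_pCoreIn q M))) hK
      (hc.trans (Subgroup.centralizer_le_normalizer _)))
    (fun K hK hc => h.isMax.le_of_normalizes C (center_ne_bot (isPGroup_pCoreIn r M) h.ner) hA₂
      (inf_le_left.trans (pCoreIn_le r M))
      (le_normalizer_inf (le_normalizer_pCoreIn r M)
        (le_normalizer_centralizer (le_normalizer_pCoreIn r M))) hK
      (hc.trans (Subgroup.centralizer_le_normalizer _)))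
  exact ((C.le_norC hK hKX).trans hNH).trans heq.le

/-- Members containing parts of both cores lie in `M`. -/
theorem le_of_parts {K X₀ Y₀ : Subgroup G} (hK : K ∈ Cfsg.signalizerFamily p A θ)
    (hX : X₀ ≤ pCoreIn q M) (hY : Y₀ ≤ pCoreIn r M) (hAX : A ≤ normalizer (X₀ : Set G))
    (hAY : A ≤ normalizer (Y₀ : Set G)) (hX0 : X₀ ≠ ⊥) (hY0 : Y₀ ≠ ⊥)
    (hXK : X₀ ≤ K) (hYK : Y₀ ≤ K) : K ≤ M := by
  obtain ⟨H, hH, hKH⟩ := exists_isMax_ge hK
  exact hKH.trans (C.eq_of_parts h hH hX hY hAX hAY hX0 hY0 (hXK.trans hKH) (hYK.trans hKH)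
    (fun K hK hc => C.le_of_normalizes_part h hX hAX hX0 hK
      (hc.trans (Subgroup.centralizer_le_normalizer _)))
    (fun K hK hc => C.le_of_normalizes_part h.symm hY hAY hY0 hK
      (hc.trans (Subgroup.centralizer_le_normalizer _)))).le

/-- A value centralising parts of both cores lies in `M`. -/
theorem theta_le_of_point {a : G} (ha : a ∈ A) (ha1 : a ≠ 1)
    (hP : pCoreIn q M ⊓ centralizer {a} ≠ ⊥) (hE : pCoreIn r M ⊓ centralizer {a} ≠ ⊥) :
    θ a ≤ M := by
  have S := C.toSetup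
  exact C.le_of_parts h (S.theta_mem ha ha1) inf_le_left inf_le_left
    (le_normalizer_inf (inv_pCoreIn h.isMax.1 q) (S.le_normalizer_centralizer_singleton ha))
    (le_normalizer_inf (inv_pCoreIn h.isMax.1 r) (S.le_normalizer_centralizer_singleton ha)) hP hE
    ((inf_le_inf_right _ (pCoreIn_le q M)).trans (h.isMax.1.2.2.2 a ha ha1))
    ((inf_le_inf_right _ (pCoreIn_le r M)).trans (h.isMax.1.2.2.2 a ha ha1))

omit C in
theorem point_of_line (X : Subgroup G) {B : Subgroup G} {a : G} (ha : a ∈ B)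
    (hB : X ⊓ centralizer (B : Set G) ≠ ⊥) : X ⊓ centralizer {a} ≠ ⊥ := fun h0 =>
  hB (le_bot_iff.1 ((inf_le_inf_left _ (centralizer_le_singleton ha)).trans h0.le))

/-- No line centralises parts of both cores. -/
theorem not_both {B : Subgroup G} (hB : Line p A B)
    (hP : pCoreIn q M ⊓ centralizer (B : Set G) ≠ ⊥)
    (hE : pCoreIn r M ⊓ centralizer (B : Set G) ≠ ⊥) : False := by
  refine C.false_of_lines h.isMax.1 fun B' hB' => ?_
  obtain ⟨d, hd, hd', hd1⟩ := C.toSetup.exists_mem_inter hB hB'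
  exact (signalizerInf_le hd' hd1).trans (C.theta_le_of_point h (hB.1 hd) hd1
    (point_of_line h _ hd hP) (point_of_line h _ hd hE))

theorem exists_line_part : ∃ B, Line p A B ∧ pCoreIn q M ⊓ centralizer (B : Set G) ≠ ⊥ := by
  by_contra hc
  push Not at hc
  exact h.neq (le_bot_iff.1 (le_of_hyperplanes C.toSetup.elem C.toSetup.ne_bot ⊥ _
    (C.pCore_mem h.isMax.1 q).2.1 (inv_pCoreIn h.isMax.1 q) fun B hB hi => (hc B ⟨hB, hi⟩).le))

theorem inf_core_eq_bot : pCoreIn q M ⊓ centralizer (A : Set G) = ⊥ := by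
  by_contra hne
  obtain ⟨B, hB, hE⟩ := C.exists_line_part h.symm
  exact C.not_both h hB (fun h0 => hne (le_bot_iff.1
    ((inf_le_inf_left _ (Subgroup.centralizer_le (SetLike.coe_subset_coe.2 hB.1))).trans h0.le))) hE

theorem theta_le_of_inter {B B' : Subgroup G} (hB : Line p A B)
    (hP : pCoreIn q M ⊓ centralizer (B : Set G) ≠ ⊥)
    (hE : pCoreIn r M ⊓ centralizer (B' : Set G) ≠ ⊥) {d : G} (hd : d ∈ B) (hd' : d ∈ B')
    (hd1 : d ≠ 1) : θ d ≤ M :=
  C.theta_le_of_point h (hB.1 hd) hd1 (point_of_line h _ hd hP) (point_of_line h _ hd' hE)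

theorem le_top : Cfsg.signalizerInf A θ ≤ M := by
  obtain ⟨B, hB, hP⟩ := C.exists_line_part h
  obtain ⟨B', hB', hE⟩ := C.exists_line_part h.symm
  obtain ⟨d, hd, hd', hd1⟩ := C.toSetup.exists_mem_inter hB hB'
  exact (C.toSetup.core_le (hB.1 hd) hd1).trans (C.theta_le_of_inter h hB hP hE hd hd' hd1)

theorem core_le_qMem : pCoreIn q M ≤ piMem ({q} : Set ℕ) A θ :=
  C.toSetup.pCoreIn_le_qMem h.isMax.1 ((C.le_top h).trans le_normalizer)

/-- A point centralising both cores centralises the largest `q`-member. -/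
theorem qMem_le_centralizer {g : G} (hg : g ∈ A) (hg1 : g ≠ 1)
    (hP : pCoreIn q M ≤ centralizer {g}) (hE : pCoreIn r M ≤ centralizer {g}) :
    piMem ({q} : Set ℕ) A θ ≤ centralizer {g} := by
  have S := C.toSetup
  have hMg : M ≤ centralizer {g} := by
    refine le_centralizer_of_cores (S.pow_eq hg) h.isMax.1.1 h.isMax.1.2.1
      (invariant_of_mem_family h.isMax.1 hg) fun t ht htd => ?_
    rcases h.two.only t (S.thetaPrime_of_dvd h.isMax.1 ht htd) with rfl | rfl
    exacts [hP, hE]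
  have hθ : θ g = M := h.isMax.2 _ (S.theta_mem hg hg1)
    ((le_inf le_rfl hMg).trans (h.isMax.1.2.2.2 g hg hg1))
  obtain ⟨hQ, hQq⟩ := C.qMem q
  set Q := piMem ({q} : Set ℕ) A θ
  set J := Q ⊓ M with hJ
  set N := Q ⊓ normalizer (J : Set G) with hN
  have hAQ := invariant_of_mem_family hQ
  have hAJ : A ≤ normalizer (J : Set G) := le_normalizer_inf hAQ (invariant_of_mem_family h.isMax.1)
  have hAN : A ≤ normalizer (N : Set G) := le_normalizer_inf hAQ (hAJ.trans le_normalizer)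
  set F := zpowers g with hF
  have hFc : centralizer (F : Set G) = centralizer {g} := by
    rw [hF, zpowers_eq_closure, centralizer_closure]
  have hFN : F ≤ normalizer (N : Set G) := zpowers_le.2 (hAN hg)
  have hNmem := mem_family_of_le hQ inf_le_left hAN
  set Y := ⁅N, F⁆
  have hYN : Y ≤ N := Coprime.commutator_le_left' hFN
  have hAY : A ≤ normalizer (Y : Set G) := Coprime.le_normalizer_commutator hAN
    (le_normalizer_of_commute fun a ha b hb => S.comm ha (zpowers_le.2 hg hb))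
  have hYJ : Y ≤ centralizer (J : Set G) := by
    rw [← commutator_eq_bot_iff_le_centralizer]
    have hJF : ⁅J, F⁆ = ⊥ :=
      commutator_eq_bot_iff_le_centralizer.2 ((inf_le_right.trans hMg).trans hFc.ge)
    refine commutator_commutator_eq_bot_of_rotate ?_ ?_
    · rw [commutator_comm F J, hJF, commutator_bot_left]
    · rw [commutator_eq_bot_iff_le_centralizer]
      exact (Subgroup.le_normalizer_iff_commutator_le_left.1 (inf_le_right : N ≤ _)).trans
        ((inf_le_right.trans hMg).trans hFc.ge)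
  have hYM : Y ≤ M := C.le_of_centralizes_core h (mem_family_of_le hNmem hYN hAY)
    (hYJ.trans (Subgroup.centralizer_le
      (SetLike.coe_subset_coe.2 (le_inf (C.core_le_qMem h) (pCoreIn_le q M)))))
  have hcop : (Nat.card F).Coprime (Nat.card N) := by
    obtain ⟨i, hi⟩ := IsPGroup.iff_card.mp (isPGroup_zpowers_of_pow_eq_one (S.pow_eq hg))
    rw [hF, hi]
    exact Nat.Coprime.pow_left i (hp.out.coprime_iff_not_dvd.2 hNmem.2.1)
  have hcc := Coprime.commutator_commutator_eq hFN hcop (Or.inr hNmem.1)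
  rw [commutator_eq_bot_iff_le_centralizer.2 ((hYM.trans hMg).trans hFc.ge), eq_comm,
    commutator_eq_bot_iff_le_centralizer, hFc] at hcc
  have hNM : N ≤ M := hθ ▸ (le_inf le_rfl hcc).trans (hNmem.2.2.2 g hg hg1)
  have hQJ : Q ≤ J := le_of_normalised (hQq.to_le inf_le_left) hQq (inf_le_left.trans le_normalizer)
    (le_inf inf_le_left hNM)
  exact (hQJ.trans inf_le_right).trans hMg

/-- No point centralises both cores. -/
theorem false_of_common {g : G} (hg : g ∈ A) (hg1 : g ≠ 1)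
    (hP : pCoreIn q M ≤ centralizer {g}) (hE : pCoreIn r M ≤ centralizer {g}) : False := by
  refine C.false_of_qMem_le hg hg1 fun t ht => ?_
  rcases h.two.only t ht with rfl | rfl
  exacts [C.qMem_le_centralizer h hg hg1 hP hE, C.qMem_le_centralizer h.symm hg hg1 hE hP]

/-- Two lines with parts of `O_q(M)` force the largest `q`-member into `M`. -/
theorem qMem_le_of_two_lines {B₁ B₂ : Subgroup G} (hB₁ : Line p A B₁) (hB₂ : Line p A B₂)
    (hne : B₁ ≠ B₂) (hP₁ : pCoreIn q M ⊓ centralizer (B₁ : Set G) ≠ ⊥)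
    (hP₂ : pCoreIn q M ⊓ centralizer (B₂ : Set G) ≠ ⊥) :
    piMem ({q} : Set ℕ) A θ ≤ M := by
  have S := C.toSetup
  obtain ⟨hQ, hQq⟩ := C.qMem q
  set Q := piMem ({q} : Set ℕ) A θ
  set J := Q ⊓ M with hJ
  set N := Q ⊓ normalizer (J : Set G) with hN
  have hAQ := invariant_of_mem_family hQ
  have hAM := invariant_of_mem_family h.isMax.1
  have hAJ : A ≤ normalizer (J : Set G) := le_normalizer_inf hAQ hAM
  have hAN : A ≤ normalizer (N : Set G) := le_normalizer_inf hAQ (hAJ.trans le_normalizer)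
  have hNmem := mem_family_of_le hQ inf_le_left hAN
  suffices hNM : N ≤ M from
    (le_of_normalised (hQq.to_le inf_le_left) hQq (inf_le_left.trans le_normalizer)
      (le_inf inf_le_left hNM)).trans inf_le_right
  refine le_of_hyperplanes S.elem S.ne_bot M N hNmem.2.1 hAN fun B hB hi => ?_
  have hBl : Line p A B := ⟨hB, hi⟩
  have hparts : N ⊓ centralizer (B : Set G) ≤ Cfsg.signalizerInf B θ := inf_family_le_inf hNmem hB
  by_cases hgood : ∃ s ∈ B, s ≠ 1 ∧ θ s ≤ M
  · obtain ⟨s, hs, hs1, hsM⟩ := hgood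
    exact hparts.trans ((signalizerInf_le hs hs1).trans hsM)
  push Not at hgood
  have hPB : pCoreIn q M ⊓ centralizer (B : Set G) = ⊥ := by
    by_contra hPB
    obtain ⟨B', hB', hE⟩ := C.exists_line_part h.symm
    obtain ⟨d, hd, hd', hd1⟩ := S.exists_mem_inter hBl hB'
    exact hgood d hd hd1 (C.theta_le_of_inter h hBl hPB hE hd hd' hd1)
  set Z := J ⊓ centralizer (J : Set G) with hZ
  set V := pCoreIn q M ⊓ centralizer (J : Set G) with hV
  have hPJ : pCoreIn q M ≤ J := le_inf (C.core_le_qMem h) (pCoreIn_le q M)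
  have hVZ : V ≤ Z := inf_le_inf_right _ hPJ
  have hV1 : V ≠ ⊥ := fun h0 => by
    obtain ⟨x, hx, hx1, hxc⟩ := exists_mem_centralizing (hQq.to_le inf_le_left : IsPGroup q J) hPJ
      (inf_le_right.trans (le_normalizer_pCoreIn q M)) h.neq
    exact hx1 (mem_bot.1 (h0 ▸ mem_inf.2 ⟨hx, hxc⟩))
  have hAV : A ≤ normalizer (V : Set G) :=
    le_normalizer_inf (inv_pCoreIn h.isMax.1 q) (le_normalizer_centralizer hAJ)
  haveI : IsMulCommutative Z := le_centralizer_iff_isMulCommutative.1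
    ((inf_le_right : Z ≤ centralizer (J : Set G)).trans
      (Subgroup.centralizer_le (SetLike.coe_subset_coe.2 inf_le_left)))
  have hAB : A ≤ normalizer (B : Set G) :=
    le_normalizer_of_commute fun a ha b hb => S.comm ha (hB hb)
  have hAZ : A ≤ normalizer (Z : Set G) := le_normalizer_inf hAJ (le_normalizer_centralizer hAJ)
  have hZmem := mem_family_of_le hQ ((inf_le_left : Z ≤ J).trans inf_le_left) hAZ
  have hcop : ∀ {X : Subgroup G}, ¬ p ∣ Nat.card X → (Nat.card B).Coprime (Nat.card X) := by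
    intro X hX
    rw [S.line_card hBl]
    exact Nat.Coprime.pow_left 2 (hp.out.coprime_iff_not_dvd.2 hX)
  set U := ⁅Z, B⁆ with hU
  have hUZ : U ≤ Z := Coprime.commutator_le_left' (hB.trans hAZ)
  have hAU : A ≤ normalizer (U : Set G) := Coprime.le_normalizer_commutator hAZ hAB
  have hUmem := mem_family_of_le hZmem hUZ hAU
  have hUB : U ⊓ centralizer (B : Set G) = ⊥ := le_bot_iff.1 <| by
    rw [← Coprime.abelian_inf_eq_bot (hB.trans hAZ) (hcop hZmem.2.1)]
    exact fun x hx => ⟨⟨hUZ hx.1, hx.2⟩, hx.1⟩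
  have hVU : V ≤ U := by
    have hVs : Group.IsSolvable V :=
      Coprime.isSolvable_of_isPGroup ((isPGroup_pCoreIn q M).to_le inf_le_left)
    have hd := Coprime.commutator_sup_centralizer (hB.trans hAV) (hcop (not_dvd_card_of_le
      (inf_le_left.trans (pCoreIn_le q M)) h.isMax.1.2.1)) (Or.inr hVs)
    refine hd.ge.trans (sup_le (Subgroup.commutator_mono hVZ le_rfl) ?_)
    exact ((inf_le_inf_right _ inf_le_left).trans hPB.le).trans bot_le
  -- `U` centralises `O_r(M)`
  have hUE : U ≤ centralizer (pCoreIn r M : Set G) := by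
    refine le_of_hyperplanes S.elem S.ne_bot _ U hUmem.2.1 hAU fun L hL hLi => ?_
    have hLl : Line p A L := ⟨hL, hLi⟩
    by_cases hLB : L = B
    · rw [hLB, hUB]; exact bot_le
    set Y := U ⊓ centralizer (L : Set G)
    by_cases hf : ∃ f ∈ A, f ∉ L ∧ pCoreIn r M ⊓ centralizer {f} = ⊥
    · obtain ⟨f, hfA, hfL, hfE⟩ := hf
      have hYq : IsPGroup q Y := hQq.to_le (inf_le_left.trans (hUZ.trans (inf_le_left.trans inf_le_left)))
      refine le_centralizer_of_fpf (p := p) (S.pow_eq hfA) (Coprime.isSolvable_of_isPGroup hYq)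
        (Coprime.isSolvable_of_isPGroup (isPGroup_pCoreIn r M))
        (not_dvd_card_of_le inf_le_left hUmem.2.1)
        (not_dvd_card_of_le (pCoreIn_le r M) h.isMax.1.2.1) ?_
        ((inf_le_left.trans (hUZ.trans (inf_le_left.trans inf_le_right))).trans
          (le_normalizer_pCoreIn r M))
        (le_normalizer_inf hAU (S.le_normalizer_centralizer' hL) hfA)
        (inv_pCoreIn h.isMax.1 r hfA) ?_ (hfE.le.trans bot_le)
      · obtain ⟨i, hi⟩ := IsPGroup.iff_card.mp hYq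
        obtain ⟨j, hj⟩ := IsPGroup.iff_card.mp (isPGroup_pCoreIn r M)
        rw [hi, hj]
        exact Nat.Coprime.pow i j ((Nat.coprime_primes Fact.out Fact.out).2 h.two.ne)
      · rintro x ⟨⟨hxU, hxL⟩, hxf⟩
        have hxA := S.centralizer_line_inf hLl hfA hfL ⟨hxL, hxf⟩
        have : x ∈ U ⊓ centralizer (B : Set G) := ⟨hxU, centralizer_le hB hxA⟩
        rw [hUB, mem_bot] at this
        rw [this]; exact one_mem _
    · exfalso
      push Not at hf
      obtain ⟨Bi, hBi, hBiP, hBiL⟩ : ∃ Bi, Line p A Bi ∧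
          pCoreIn q M ⊓ centralizer (Bi : Set G) ≠ ⊥ ∧ Bi ≠ L := by
        by_cases h1 : B₁ = L
        · exact ⟨B₂, hB₂, hP₂, fun h2 => hne (h1.trans h2.symm)⟩
        · exact ⟨B₁, hB₁, hP₁, h1⟩
      obtain ⟨d, hdi, hdL, hd1⟩ := S.exists_mem_inter hBi hLl
      refine C.false_of_lines_avoiding h.isMax.1 (hL hdL) hd1 fun B' hB' hdB' => ?_
      obtain ⟨e, he, hei, he1⟩ := S.exists_mem_inter hB' hBi
      have heL : e ∉ L := fun heL => hdB' (by
        have hz := S.inter_le hBi hLl hBiL hdi hdL hd1 ⟨hei, heL⟩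
        have heq : zpowers e = zpowers d := Subgroup.eq_of_le_of_card_ge (zpowers_le.2 hz) (by
          rw [Nat.card_zpowers, Nat.card_zpowers, orderOf_eq_prime (S.pow_eq (hL hdL)) hd1,
            orderOf_eq_prime (S.pow_eq (hBi.1 hei)) he1])
        exact zpowers_le.2 he (heq ▸ mem_zpowers d))
      exact (signalizerInf_le he he1).trans (C.theta_le_of_point h (hBi.1 hei) he1
        (point_of_line h _ hei hBiP) (hf e (hBi.1 hei) heL))
  -- so the part of `N` on `B` lies in `M`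
  obtain ⟨hK, -, hUK⟩ := C.norC_mem hUmem (fun h0 => hV1 (le_bot_iff.1 (h0 ▸ hVU)))
  refine le_trans (C.le_norC (mem_family_of_le hNmem inf_le_left
    (le_normalizer_inf hAN (S.le_normalizer_centralizer' hB))) ?_)
    (C.le_of_parts h hK (X₀ := V) (Y₀ := pCoreIn r M) inf_le_left le_rfl hAV
      (inv_pCoreIn h.isMax.1 r) hV1 h.ner (hVU.trans hUK)
      (C.le_norC (C.pCore_mem h.isMax.1 r) ((le_centralizer_iff.1 hUE).trans
        (Subgroup.centralizer_le_normalizer _))))
  refine Coprime.le_normalizer_commutator ?_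
    (inf_le_right.trans (Subgroup.centralizer_le_normalizer _))
  exact le_normalizer_inf (inf_le_left.trans inf_le_right)
    (le_normalizer_centralizer (inf_le_left.trans inf_le_right))

/-- A part of the centre of `O_q(M)` good at the points of its line. -/
theorem good_part {B : Subgroup G} (hB : Line p A B) {s : G} (hs : s ∈ A) (hsB : s ∉ B)
    (hsM : θ s ≤ M) {a : G} (ha : a ∈ B) (ha1 : a ≠ 1) :
    pCoreIn q M ⊓ centralizer (pCoreIn q M : Set G) ⊓ centralizer (B : Set G) ≤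
      pCoreIn q (θ a) := by
  have S := C.toSetup
  set P := pCoreIn q M
  set U := P ⊓ centralizer (P : Set G) ⊓ centralizer (B : Set G)
  set D := P ⊓ centralizer (P : Set G) ⊓ centralizer {a}
  have hAP : A ≤ normalizer (P : Set G) := inv_pCoreIn h.isMax.1 q
  have haA := hB.1 ha
  have hs1 : s ≠ 1 := fun h0 => hsB (h0 ▸ one_mem _)
  have hAD : A ≤ normalizer (D : Set G) :=
    le_normalizer_inf (le_normalizer_inf hAP (le_normalizer_centralizer hAP))
      (S.le_normalizer_centralizer_singleton haA)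
  haveI : IsMulCommutative D := le_centralizer_iff_isMulCommutative.1
    (((inf_le_left : D ≤ _).trans inf_le_right).trans
      (Subgroup.centralizer_le (SetLike.coe_subset_coe.2 (inf_le_left.trans inf_le_left))))
  have hDθ : D ≤ θ a := fun x hx => h.isMax.1.2.2.2 a haA ha1 ⟨pCoreIn_le q M hx.1.1, hx.2⟩
  have hmov := moved_le_pCoreIn (q := q) (f := s) (S.pow_eq hs) (S.solv haA ha1) (S.not_dvd haA ha1)
    (S.inv haA ha1 hs) hDθ ((isPGroup_pCoreIn q M).to_le (inf_le_left.trans inf_le_left)) (hAD hs) ?_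
  · have hUD : U ≤ D := inf_le_inf_left _ (centralizer_le_singleton ha)
    have hAU : A ≤ normalizer (U : Set G) :=
      le_normalizer_inf (le_normalizer_inf hAP (le_normalizer_centralizer hAP))
        (S.le_normalizer_centralizer' hB.1)
    have hUp : IsPGroup q U := (isPGroup_pCoreIn q M).to_le (inf_le_left.trans inf_le_left)
    have hcop : (Nat.card (zpowers s)).Coprime (Nat.card U) := by
      obtain ⟨i, hi⟩ := IsPGroup.iff_card.mp (isPGroup_zpowers_of_pow_eq_one (S.pow_eq hs))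
      rw [hi]
      exact Nat.Coprime.pow_left i (hp.out.coprime_iff_not_dvd.2
        (not_dvd_card_of_le ((inf_le_left.trans inf_le_left).trans (pCoreIn_le q M)) h.isMax.1.2.1))
    refine ((Coprime.commutator_sup_centralizer (zpowers_le.2 (hAU hs)) hcop
      (Or.inr (Coprime.isSolvable_of_isPGroup hUp))).ge).trans
      (sup_le ((Subgroup.commutator_mono hUD le_rfl).trans hmov) ?_)
    rintro x ⟨hxU, hxs⟩
    rw [zpowers_eq_closure, centralizer_closure] at hxs
    have : x ∈ P ⊓ centralizer (A : Set G) :=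
      ⟨hxU.1.1, S.centralizer_line_inf hB hs hsB ⟨hxU.2, hxs⟩⟩
    rw [C.inf_core_eq_bot h, mem_bot] at this
    rw [this]; exact one_mem _
  · rintro x ⟨hxθ, hxs⟩
    have hxM : x ∈ M := hsM (S.bal haA ha1 hs hs1 ⟨hxθ, hxs⟩)
    refine le_normalizer_inf (A := θ a ⊓ M)
      (le_normalizer_inf (inf_le_right.trans (le_normalizer_pCoreIn q M))
        (le_normalizer_centralizer (inf_le_right.trans (le_normalizer_pCoreIn q M))))
      ((inf_le_left.trans (S.le_cent haA ha1)).trans le_normalizer) ⟨hxθ, hxM⟩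

/-- With two lines some part is good. -/
theorem exists_good_part {B₁ B₂ : Subgroup G} (hB₁ : Line p A B₁) (hB₂ : Line p A B₂)
    (hne : B₁ ≠ B₂) (hP₁ : pCoreIn q M ⊓ centralizer (B₁ : Set G) ≠ ⊥)
    (hP₂ : pCoreIn q M ⊓ centralizer (B₂ : Set G) ≠ ⊥) :
    ∃ B U, Line p A B ∧ U ≠ ⊥ ∧ U ≤ pCoreIn q M ⊓ centralizer (B : Set G) ∧
      A ≤ normalizer (U : Set G) ∧ ∀ a ∈ B, a ≠ 1 → U ≤ pCoreIn q (θ a) := by
  have S := C.toSetup
  set P := pCoreIn q M
  have hAP : A ≤ normalizer (P : Set G) := inv_pCoreIn h.isMax.1 q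
  set Z := P ⊓ centralizer (P : Set G)
  have hAZ : A ≤ normalizer (Z : Set G) := le_normalizer_inf hAP (le_normalizer_centralizer hAP)
  obtain ⟨B, hB, hZB⟩ : ∃ B, Line p A B ∧ Z ⊓ centralizer (B : Set G) ≠ ⊥ := by
    by_contra hc
    push Not at hc
    exact center_ne_bot (isPGroup_pCoreIn q M) h.neq (le_bot_iff.1 (le_of_hyperplanes S.elem S.ne_bot
      ⊥ Z (not_dvd_card_of_le (inf_le_left.trans (pCoreIn_le q M)) h.isMax.1.2.1) hAZ
      fun L hL hi => (hc L ⟨hL, hi⟩).le))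
  have hPB : P ⊓ centralizer (B : Set G) ≠ ⊥ := fun h0 =>
    hZB (le_bot_iff.1 ((inf_le_inf_right _ inf_le_left).trans h0.le))
  refine ⟨B, _, hB, hZB, inf_le_inf_right _ inf_le_left,
    le_normalizer_inf hAZ (S.le_normalizer_centralizer' hB.1), ?_⟩
  by_contra hc
  push Not at hc
  obtain ⟨a, ha, ha1, hna⟩ := hc
  have hin : ∀ s ∈ A, s ∉ B → ¬ θ s ≤ M := fun s hs hsB hsM =>
    hna (C.good_part h hB hs hsB hsM ha ha1)
  -- all lines of parts pass through one point
  obtain ⟨B', hB', hP', hB'ne⟩ : ∃ B', Line p A B' ∧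
      P ⊓ centralizer (B' : Set G) ≠ ⊥ ∧ B' ≠ B := by
    by_cases h1 : B₁ = B
    · exact ⟨B₂, hB₂, hP₂, fun h2 => hne (h1.trans h2.symm)⟩
    · exact ⟨B₁, hB₁, hP₁, h1⟩
  obtain ⟨d, hdB', hdB, hd1⟩ := S.exists_mem_inter hB' hB
  have hdA := hB.1 hdB
  have hz : ∀ {L : Subgroup G} {x : G}, x ∈ L → x ∈ zpowers d → x ≠ 1 → d ∈ L := by
    intro L x hxL hxd hx1
    have heq : zpowers x = zpowers d := Subgroup.eq_of_le_of_card_ge (zpowers_le.2 hxd) (by
      rw [Nat.card_zpowers, Nat.card_zpowers, orderOf_eq_prime (S.pow_eq hdA) hd1,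
        orderOf_eq_prime (S.pow_eq ((zpowers_le.2 hdA) hxd)) hx1])
    exact zpowers_le.2 hxL (heq ▸ mem_zpowers d)
  have hr : ∀ L, Line p A L → pCoreIn r M ⊓ centralizer (L : Set G) ≠ ⊥ → d ∈ L := by
    intro L hL hE
    obtain ⟨x, hxB', hxL, hx1⟩ := S.exists_mem_inter hB' hL
    have hxB : x ∈ B := by
      by_contra hxB
      exact hin x (hB'.1 hxB') hxB (C.theta_le_of_inter h hB' hP' hE hxB' hxL hx1)
    exact hz hxL (S.inter_le hB' hB hB'ne hdB' hdB hd1 ⟨hxB', hxB⟩) hx1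
  refine C.false_of_common h hdA hd1 ?_ ?_
  · refine le_of_hyperplanes S.elem S.ne_bot _ P (C.pCore_mem h.isMax.1 q).2.1 hAP fun L hL hi => ?_
    by_cases hPL : P ⊓ centralizer (L : Set G) = ⊥
    · rw [hPL]; exact bot_le
    refine inf_le_right.trans (centralizer_le_singleton ?_)
    obtain ⟨L', hL', hE⟩ := C.exists_line_part h.symm
    obtain ⟨x, hxL, hxL', hx1⟩ := S.exists_mem_inter ⟨hL, hi⟩ hL'
    have hxB : x ∈ B := by
      by_contra hxB
      exact hin x (hL hxL) hxB (C.theta_le_of_inter h ⟨hL, hi⟩ hPL hE hxL hxL' hx1)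
    exact hz hxL (S.inter_le hL' hB (fun h0 => C.not_both h hB hPB (h0 ▸ hE))
      (hr L' hL' hE) hdB hd1 ⟨hxL', hxB⟩) hx1
  · refine le_of_hyperplanes S.elem S.ne_bot _ _ (C.pCore_mem h.isMax.1 r).2.1
      (inv_pCoreIn h.isMax.1 r) fun L hL hi => ?_
    by_cases hEL : pCoreIn r M ⊓ centralizer (L : Set G) = ⊥
    · rw [hEL]; exact bot_le
    exact inf_le_right.trans (centralizer_le_singleton (hr L ⟨hL, hi⟩ hEL))

/-- Two lines on each side are impossible. -/
theorem false_of_two_two {B₁ B₂ C₁ C₂ : Subgroup G} (hB₁ : Line p A B₁) (hB₂ : Line p A B₂)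
    (hne : B₁ ≠ B₂) (hP₁ : pCoreIn q M ⊓ centralizer (B₁ : Set G) ≠ ⊥)
    (hP₂ : pCoreIn q M ⊓ centralizer (B₂ : Set G) ≠ ⊥) (hC₁ : Line p A C₁) (hC₂ : Line p A C₂)
    (hne' : C₁ ≠ C₂) (hE₁ : pCoreIn r M ⊓ centralizer (C₁ : Set G) ≠ ⊥)
    (hE₂ : pCoreIn r M ⊓ centralizer (C₂ : Set G) ≠ ⊥) : False := by
  have S := C.toSetup
  have hQM := C.qMem_le_of_two_lines h hB₁ hB₂ hne hP₁ hP₂
  have hRM := C.qMem_le_of_two_lines h.symm hC₁ hC₂ hne' hE₁ hE₂
  obtain ⟨Bu, U, hBu, hU1, hUP, hAU, hUgood⟩ := C.exists_good_part h hB₁ hB₂ hne hP₁ hP₂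
  obtain ⟨Bv, V, hBv, hV1, hVE, hAV, hVgood⟩ := C.exists_good_part h.symm hC₁ hC₂ hne' hE₁ hE₂
  refine C.false_of_lines h.isMax.1 fun B hB => ?_
  set L := Cfsg.signalizerInf B θ
  obtain ⟨d, hdB, hdu, hd1⟩ := S.exists_mem_inter hB hBu
  obtain ⟨e, heB, hev, he1⟩ := S.exists_mem_inter hB hBv
  have hLmem : L ∈ Cfsg.signalizerFamily p A θ :=
    signalizerInf_mem_family S.func hB.1 fun hbot => hd1 (mem_bot.1 (hbot ▸ hdB))
  set X : Subgroup G := ⨆ g : L, U.map (MulAut.conj (g : G)).toMonoidHom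
  have hXV : X ≤ centralizer (V : Set G) := iSup_le fun g => by
    rintro _ ⟨y, hy, rfl⟩
    refine mem_centralizer_iff.2 fun c hc => ?_
    change c * ((g : G) * y * (g : G)⁻¹) = (g : G) * y * (g : G)⁻¹ * c
    have hy' : (g : G) * y * (g : G)⁻¹ ∈ M := hQM (S.pCoreIn_theta_le_qMem (hB.1 hdB) hd1
      (conj_mem (le_normalizer_pCoreIn q (θ d)) (signalizerInf_le hdB hd1 g.2) (hUgood d hdu hd1 hy)))
    have hc' : (g : G)⁻¹ * c * g ∈ M := hRM (S.pCoreIn_theta_le_qMem (hB.1 heB) he1 (by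
      simpa using conj_mem (le_normalizer_pCoreIn r (θ e)) (inv_mem (signalizerInf_le heB he1 g.2))
        (hVgood e hev he1 hc)))
    have h1 : ⁅(g : G) * y * (g : G)⁻¹, c⁆ ∈ pCoreIn r M :=
      commutatorElement_mem_right (hVE hc).1 (le_normalizer_pCoreIn r M hy')
    have h2 : ⁅y, (g : G)⁻¹ * c * g⁆ ∈ pCoreIn q M :=
      commutatorElement_mem_left (hUP hy).1 (le_normalizer_pCoreIn q M hc')
    obtain ⟨i, hi⟩ := isPGroup_pCoreIn q M ⟨_, h2⟩
    have h3 : ⁅(g : G) * y * (g : G)⁻¹, c⁆ ^ q ^ i = 1 := by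
      rw [show ⁅(g : G) * y * (g : G)⁻¹, c⁆ = (g : G) * ⁅y, (g : G)⁻¹ * c * g⁆ * (g : G)⁻¹ by
          simp only [commutatorElement_def]; group, conj_pow,
        show ⁅y, (g : G)⁻¹ * c * g⁆ ^ q ^ i = 1 by simpa using congrArg Subtype.val hi]
      simp
    have h4 := eq_one_of_coprime (isPGroup_pCoreIn r M) h1
      ((Nat.Coprime.pow_left i ((Nat.coprime_primes Fact.out Fact.out).2 h.two.ne)).coprime_dvd_left
        (orderOf_dvd_of_pow_eq_one h3))
    exact (commutatorElement_eq_one_iff_mul_comm.1 h4).symm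
  have hXA : A ≤ normalizer (X : Set G) := by
    refine le_normalizer_of_conj_mem fun a ha x hx => ?_
    suffices hs : X ≤ X.comap (MulAut.conj a).toMonoidHom from hs hx
    refine iSup_le fun g => ?_
    rintro _ ⟨y, hy, rfl⟩
    refine mem_comap.2 (mem_iSup_of_mem
      (⟨a * g * a⁻¹, conj_mem (invariant_of_mem_family hLmem) ha g.2⟩ : L)
      ⟨a * y * a⁻¹, conj_mem hAU ha hy, ?_⟩)
    simp [mul_assoc]
  have hXL : L ≤ normalizer (X : Set G) := by
    refine le_normalizer_of_conj_mem fun a ha x hx => ?_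
    suffices hs : X ≤ X.comap (MulAut.conj a).toMonoidHom from hs hx
    refine iSup_le fun g => ?_
    rintro _ ⟨y, hy, rfl⟩
    refine mem_comap.2 (mem_iSup_of_mem (⟨a * g, L.mul_mem ha g.2⟩ : L) ⟨y, hy, ?_⟩)
    simp [mul_assoc]
  have hXd : X ≤ θ d := iSup_le fun g => by
    rintro _ ⟨y, hy, rfl⟩
    exact conj_mem le_normalizer (signalizerInf_le hdB hd1 g.2)
      (pCoreIn_le q _ (hUgood d hdu hd1 hy))
  have hUX : U ≤ X := le_iSup_of_le (⟨1, one_mem _⟩ : L) fun y hy => ⟨y, hy, by simp⟩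
  obtain ⟨hK, -, hXK⟩ := C.norC_mem (mem_family_of_le (S.theta_mem (hB.1 hdB) hd1) hXd hXA)
    (fun h0 => hU1 (le_bot_iff.1 (h0 ▸ hUX)))
  exact (C.le_norC hLmem hXL).trans (C.le_of_parts h hK (X₀ := U) (Y₀ := V) (fun _ hx => (hUP hx).1)
    (fun _ hx => (hVE hx).1) hAU hAV hU1 hV1 (hUX.trans hXK)
    (C.le_norC (mem_family_of_le h.isMax.1 (fun _ hx => pCoreIn_le r M (hVE hx).1) hAV)
      ((le_centralizer_iff.1 hXV).trans (Subgroup.centralizer_le_normalizer _))))

/-- One line for `O_q(M)` and two for `O_r(M)` are impossible. -/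
theorem false_of_one_two {B₁ C₁ C₂ : Subgroup G} (hB₁ : Line p A B₁)
    (hP : pCoreIn q M ≤ centralizer (B₁ : Set G)) (hC₁ : Line p A C₁) (hC₂ : Line p A C₂)
    (hne' : C₁ ≠ C₂) (hE₁ : pCoreIn r M ⊓ centralizer (C₁ : Set G) ≠ ⊥)
    (hE₂ : pCoreIn r M ⊓ centralizer (C₂ : Set G) ≠ ⊥) : False := by
  have S := C.toSetup
  have hRM := C.qMem_le_of_two_lines h.symm hC₁ hC₂ hne' hE₁ hE₂
  obtain ⟨Bv, V, hBv, hV1, hVE, hAV, hVgood⟩ := C.exists_good_part h.symm hC₁ hC₂ hne' hE₁ hE₂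
  set P := pCoreIn q M
  refine C.false_of_lines h.isMax.1 fun B hB => ?_
  obtain ⟨d, hdB, hd₁, hd1⟩ := S.exists_mem_inter hB hB₁
  have hdA := hB.1 hdB
  have hPd : P ≤ centralizer {d} := hP.trans (centralizer_le_singleton hd₁)
  by_cases hEd : pCoreIn r M ⊓ centralizer {d} = ⊥
  swap
  · exact (signalizerInf_le hdB hd1).trans
      (C.theta_le_of_point h hdA hd1 (by rw [inf_eq_left.2 hPd]; exact h.neq) hEd)
  set L := Cfsg.signalizerInf B θ
  obtain ⟨e, heB, hev, he1⟩ := S.exists_mem_inter hB hBv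
  have hLmem : L ∈ Cfsg.signalizerFamily p A θ :=
    signalizerInf_mem_family S.func hB.1 fun hbot => hd1 (mem_bot.1 (hbot ▸ hdB))
  set F := zpowers d with hF
  have hFc : centralizer (F : Set G) = centralizer {d} := by
    rw [hF, zpowers_eq_closure, centralizer_closure]
  set X : Subgroup G := ⨆ g : L, V.map (MulAut.conj (g : G)).toMonoidHom
  have hXP : X ≤ centralizer (P : Set G) := iSup_le fun g => by
    set Y := V.map (MulAut.conj (g : G)).toMonoidHom
    have hgd : (g : G) * d = d * g :=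
      (mem_centralizer_iff.1 (signalizerInf_le_centralizer S.func.1 hB.1 g.2) d hdB).symm
    have hYθ : Y ≤ pCoreIn r (θ e) := by
      rintro _ ⟨y, hy, rfl⟩
      exact conj_mem (le_normalizer_pCoreIn r (θ e)) (signalizerInf_le heB he1 g.2)
        (hVgood e hev he1 hy)
    have hYM : Y ≤ M := hYθ.trans ((S.pCoreIn_theta_le_qMem (hB.1 heB) he1).trans hRM)
    have hYP : Y ≤ normalizer (P : Set G) := hYM.trans (le_normalizer_pCoreIn q M)
    have hFY : F ≤ normalizer (Y : Set G) := by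
      rw [hF, zpowers_le]
      refine mem_normalizer_of_conj_mem ?_
      rintro _ ⟨y, hy, rfl⟩
      refine ⟨d * y * d⁻¹, conj_mem hAV hdA hy, ?_⟩
      change (g : G) * (d * y * d⁻¹) * (g : G)⁻¹ = d * ((g : G) * y * (g : G)⁻¹) * d⁻¹
      calc (g : G) * (d * y * d⁻¹) * (g : G)⁻¹ = ((g : G) * d) * y * ((g : G) * d)⁻¹ := by group
        _ = (d * g) * y * (d * g)⁻¹ := by rw [hgd]
        _ = _ := by group
    have hYr : IsPGroup r Y := (isPGroup_pCoreIn r _).to_le hYθ
    have hcop : (Nat.card F).Coprime (Nat.card Y) := by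
      obtain ⟨i, hi⟩ := IsPGroup.iff_card.mp (isPGroup_zpowers_of_pow_eq_one (S.pow_eq hdA))
      rw [hF, hi]
      exact Nat.Coprime.pow_left i
        (hp.out.coprime_iff_not_dvd.2 (not_dvd_card_of_le hYM h.isMax.1.2.1))
    have hY0 : Y ⊓ centralizer (F : Set G) ≤ ⊥ := by
      rintro _ ⟨⟨y, hy, rfl⟩, hyc⟩
      rw [hFc] at hyc
      have hgc : (g : G) ∈ centralizer ({d} : Set G) := mem_centralizer_singleton_iff.2 hgd
      have hyd : y ∈ pCoreIn r M ⊓ centralizer {d} :=
        ⟨(hVE hy).1, by simpa [mul_assoc] using mul_mem (mul_mem (inv_mem hgc) hyc) hgc⟩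
      rw [hEd, mem_bot] at hyd
      simp [hyd]
    have hYY : Y ≤ ⁅Y, F⁆ := (Coprime.commutator_sup_centralizer hFY hcop
      (Or.inr (Coprime.isSolvable_of_isPGroup hYr))).ge.trans (sup_le le_rfl (hY0.trans bot_le))
    refine hYY.trans ?_
    rw [← commutator_eq_bot_iff_le_centralizer]
    have hPF : ⁅P, F⁆ = ⊥ := commutator_eq_bot_iff_le_centralizer.2 (hPd.trans hFc.ge)
    refine commutator_commutator_eq_bot_of_rotate ?_ ?_
    · rw [commutator_comm F P, hPF, commutator_bot_left]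
    · rw [commutator_eq_bot_iff_le_centralizer]
      exact (Subgroup.le_normalizer_iff_commutator_le_left.1 hYP).trans (hPd.trans hFc.ge)
  have hXA : A ≤ normalizer (X : Set G) := by
    refine le_normalizer_of_conj_mem fun a ha x hx => ?_
    suffices hs : X ≤ X.comap (MulAut.conj a).toMonoidHom from hs hx
    refine iSup_le fun g => ?_
    rintro _ ⟨y, hy, rfl⟩
    refine mem_comap.2 (mem_iSup_of_mem
      (⟨a * g * a⁻¹, conj_mem (invariant_of_mem_family hLmem) ha g.2⟩ : L)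
      ⟨a * y * a⁻¹, conj_mem hAV ha hy, ?_⟩)
    simp [mul_assoc]
  have hXL : L ≤ normalizer (X : Set G) := by
    refine le_normalizer_of_conj_mem fun a ha x hx => ?_
    suffices hs : X ≤ X.comap (MulAut.conj a).toMonoidHom from hs hx
    refine iSup_le fun g => ?_
    rintro _ ⟨y, hy, rfl⟩
    refine mem_comap.2 (mem_iSup_of_mem (⟨a * g, L.mul_mem ha g.2⟩ : L) ⟨y, hy, ?_⟩)
    simp [mul_assoc]
  have hXe : X ≤ θ e := iSup_le fun g => by
    rintro _ ⟨y, hy, rfl⟩
    exact conj_mem le_normalizer (signalizerInf_le heB he1 g.2)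
      (pCoreIn_le r _ (hVgood e hev he1 hy))
  have hVX : V ≤ X := le_iSup_of_le (⟨1, one_mem _⟩ : L) fun y hy => ⟨y, hy, by simp⟩
  obtain ⟨hK, -, hXK⟩ := C.norC_mem (mem_family_of_le (S.theta_mem (hB.1 heB) he1) hXe hXA)
    (fun h0 => hV1 (le_bot_iff.1 (h0 ▸ hVX)))
  exact (C.le_norC hLmem hXL).trans (C.le_of_parts h hK (X₀ := P) (Y₀ := V) le_rfl
    (fun _ hx => (hVE hx).1) (inv_pCoreIn h.isMax.1 q) hAV h.neq hV1
    (C.le_norC (C.pCore_mem h.isMax.1 q)
      ((le_centralizer_iff.1 hXP).trans (Subgroup.centralizer_le_normalizer _)))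
    (hVX.trans hXK))

theorem le_centralizer_of_single {B₁ : Subgroup G}
    (hs : ∀ B, Line p A B → pCoreIn q M ⊓ centralizer (B : Set G) ≠ ⊥ → B = B₁) :
    pCoreIn q M ≤ centralizer (B₁ : Set G) := by
  refine le_of_hyperplanes C.toSetup.elem C.toSetup.ne_bot _ _ (C.pCore_mem h.isMax.1 q).2.1
    (inv_pCoreIn h.isMax.1 q) fun B hB hi => ?_
  by_cases hB0 : pCoreIn q M ⊓ centralizer (B : Set G) = ⊥
  · rw [hB0]; exact bot_le
  · rw [hs B ⟨hB, hi⟩ hB0]; exact inf_le_right

/-- No maximal member has both cores nontrivial. -/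
theorem false_of_mixed : False := by
  obtain ⟨B₁, hB₁, hP₁⟩ := C.exists_line_part h
  obtain ⟨C₁, hC₁, hE₁⟩ := C.exists_line_part h.symm
  by_cases hq : ∀ B, Line p A B → pCoreIn q M ⊓ centralizer (B : Set G) ≠ ⊥ → B = B₁
  · have hP := C.le_centralizer_of_single h hq
    by_cases hr : ∀ B, Line p A B → pCoreIn r M ⊓ centralizer (B : Set G) ≠ ⊥ → B = C₁
    · have hE := C.le_centralizer_of_single h.symm hr
      obtain ⟨d, hd, hd', hd1⟩ := C.toSetup.exists_mem_inter hB₁ hC₁
      exact C.false_of_common h (hB₁.1 hd) hd1 (hP.trans (centralizer_le_singleton hd))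
        (hE.trans (centralizer_le_singleton hd'))
    · push Not at hr
      obtain ⟨C₂, hC₂, hE₂, hne'⟩ := hr
      exact C.false_of_one_two h hB₁ hP hC₁ hC₂ hne'.symm hE₁ hE₂
  · push Not at hq
    obtain ⟨B₂, hB₂, hP₂, hne⟩ := hq
    by_cases hr : ∀ B, Line p A B → pCoreIn r M ⊓ centralizer (B : Set G) ≠ ⊥ → B = C₁
    · exact C.false_of_one_two h.symm hC₁ (C.le_centralizer_of_single h.symm hr) hB₁ hB₂ hne.symm
        hP₁ hP₂
    · push Not at hr
      obtain ⟨C₂, hC₂, hE₂, hne'⟩ := hr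
      exact C.false_of_two_two h hB₁ hB₂ hne.symm hP₁ hP₂ hC₁ hC₂ hne'.symm hE₁ hE₂

end Counter

end Cfsg.Agent.Signalizer.SSFT
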