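import Cfsg.Agent.Lib.Signalizer.SSFT.TwoMixed
import Cfsg.Agent.Lib.Signalizer.SSFT.Thompson

/-!
# Two primes, every maximal member having one core: the side without free lines

* `QPoint`, `QType`, `NoFree`, `Side`
* `Setup.mem_core_of_points`, `Counter.center_le_core`, `Counter.qMem_le_maxMember`
* `Dcap`: the intersection of the `q`-cores of the maximal members above `piMem {q}`
* `Counter.Dcap_inf_le`, `Counter.Dcap_good`
-/

set_option autoImplicit false
set_option linter.unusedSectionVars false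

namespace Cfsg.Agent.Signalizer.SSFT

open Subgroup LocalCharP
open scoped commutatorElement

universe u

variable {G : Type u} [Group G] {p : ℕ} {A : Subgroup G} {θ : G → Subgroup G}

/-- A point with a maximal member above its value having nontrivial `q`-core. -/
def QPoint (p : ℕ) (A : Subgroup G) (θ : G → Subgroup G) (q : ℕ) (a : G) : Prop :=
  ∃ H, IsMax p A θ H ∧ θ a ≤ H ∧ pCoreIn q H ≠ ⊥

/-- A maximal member containing `θ(C(A))` with nontrivial `q`-core. -/
structure QType (p : ℕ) (A : Subgroup G) (θ : G → Subgroup G) (q : ℕ) (H : Subgroup G) : Prop where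
  isMax : IsMax p A θ H
  top : Cfsg.signalizerInf A θ ≤ H
  ne : pCoreIn q H ≠ ⊥

/-- Every line has a `q`-point. -/
def NoFree (p : ℕ) (A : Subgroup G) (θ : G → Subgroup G) (q : ℕ) : Prop :=
  ∀ B, Line p A B → ∃ b ∈ B, b ≠ 1 ∧ QPoint p A θ q b

/-- Two primes, and every line has a `q`-point. -/
structure Side (p : ℕ) (A : Subgroup G) (θ : G → Subgroup G) (q r : ℕ) : Prop where
  two : TwoPrimes A θ q r
  noFree : NoFree p A θ q

/-- The centre of a subgroup. -/
def cIn (X : Subgroup G) : Subgroup G := X ⊓ centralizer (X : Set G)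

/-- The intersection of the `q`-cores of the maximal members above `piMem {q}`. -/
def Dcap (p : ℕ) (A : Subgroup G) (θ : G → Subgroup G) (q : ℕ) : Subgroup G :=
  ⨅ K : {K : Subgroup G // IsMax p A θ K ∧ piMem ({q} : Set ℕ) A θ ≤ K}, pCoreIn q K.1

theorem cIn_le (X : Subgroup G) : cIn X ≤ X := inf_le_left

theorem normalizer_le_normalizer_cIn (X : Subgroup G) :
    normalizer (X : Set G) ≤ normalizer (cIn X : Set G) :=
  le_normalizer_inf le_rfl (le_normalizer_centralizer le_rfl)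

theorem cIn_le_centralizer (X : Subgroup G) : X ≤ centralizer (cIn X : Set G) :=
  le_centralizer_iff.1 inf_le_right

variable [Finite G]

theorem card_le_of_isSylowIn {q : ℕ} [Fact q.Prime] {K S X : Subgroup G} (hS : IsSylowIn q K S)
    (hXK : X ≤ K) (hX : IsPGroup q X) : Nat.card X ≤ Nat.card S := by
  obtain ⟨s, hs⟩ := hS.exists_sylow
  obtain ⟨t, ht⟩ := (hX.comap_subtype (K := K) : IsPGroup q (X.subgroupOf K)).exists_le_sylow
  have h1 : Nat.card (X.subgroupOf K) = Nat.card X :=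
    Nat.card_congr (subgroupOfEquivOfLe hXK).toEquiv
  have h2 : Nat.card ((s : Subgroup K).map K.subtype) = Nat.card (s : Subgroup K) :=
    Subgroup.card_map_of_injective K.subtype_injective
  rw [← hs, ← h1, h2, s.card_eq_multiplicity, ← t.card_eq_multiplicity]
  exact Subgroup.card_le_of_le ht

variable [hp : Fact p.Prime] {q r : ℕ} [Fact q.Prime] [Fact r.Prime]

theorem QType.core_le_qMem (S : Setup p A θ) {H : Subgroup G} (h : QType p A θ q H) :
    pCoreIn q H ≤ piMem ({q} : Set ℕ) A θ :=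
  S.pCoreIn_le_qMem h.isMax.1 (h.top.trans le_normalizer)

theorem QPoint.exists_qType (S : Setup p A θ) {a : G} (ha : a ∈ A) (ha1 : a ≠ 1)
    (h : QPoint p A θ q a) : ∃ H, QType p A θ q H ∧ θ a ≤ H := by
  obtain ⟨H, hH, hle, hne⟩ := h
  exact ⟨H, ⟨hH, (S.core_le ha ha1).trans hle, hne⟩, hle⟩

/-- A `q`-element of a value lying in the `q`-cores of all `q`-type members is in the `q`-core of
the value if every line through the point has a `q`-point. -/
theorem Setup.mem_core_of_points (S : Setup p A θ) {a : G} (ha : a ∈ A) (ha1 : a ≠ 1) {x : G}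
    (hx : x ∈ θ a) {n : ℕ} (hn : x ^ q ^ n = 1)
    (hP : ∀ H, QType p A θ q H → x ∈ pCoreIn q H)
    (hl : ∀ B, Line p A B → a ∈ B → ∃ b ∈ B, b ≠ 1 ∧ QPoint p A θ q b) :
    x ∈ pCoreIn q (θ a) := by
  refine mem_pCoreIn_of_layers (S.solv ha ha1) hx hn fun t ht htq _ => ?_
  haveI := Fact.mk ht
  suffices hle : layer q t (θ a) ≤ modCentralizer (pCoreIn q (θ a)) x from fun w hw => (hle hw).2
  refine S.le_of_lines_through (not_dvd_card_of_le (layer_le q t _) (S.not_dvd ha ha1))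
    ((S.inv ha ha1).trans (normalizer_le_normalizer_layer q t _)) ha
    ((layer_le q t _).trans (S.le_cent ha ha1)) fun B hB haB w hw => ?_
  refine ⟨le_normalizer_pCoreIn q _ (layer_le q t _ hw.1), ?_⟩
  obtain ⟨b, hb, hb1, hbq⟩ := hl B hB haB
  obtain ⟨H, hH, hbH⟩ := hbq.exists_qType S (hB.1 hb) hb1
  have hwH : w ∈ H :=
    hbH (S.bal ha ha1 (hB.1 hb) hb1 ⟨layer_le q t _ hw.1, centralizer_le_singleton hb hw.2⟩)
  exact commutator_mem_layer htq (isPGroup_pCoreIn q H) (hP H hH)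
    (le_normalizer_pCoreIn q H hwH) (le_normalizer_layer q t _ hx) hw.1

namespace Counter

variable (C : Counter p A θ)
include C

theorem pure_core (h2 : TwoPrimes A θ q r) {M : Subgroup G} (hM : IsMax p A θ M)
    (hne : pCoreIn q M ≠ ⊥) : pCoreIn r M = ⊥ := by
  by_contra h
  exact C.false_of_mixed (⟨h2, hM, hne, h⟩ : Mixed p A θ q r M)

theorem charP (h2 : TwoPrimes A θ q r) {M : Subgroup G} (hM : IsMax p A θ M)
    (hne : pCoreIn q M ≠ ⊥) : HasCharP q M :=
  hasCharP_of_pure hM.1.1 fun t ht htq htd => by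
    rcases h2.only t (C.toSetup.thetaPrime_of_dvd hM.1 ht htd) with rfl | rfl
    · exact absurd rfl htq
    · exact C.pure_core h2 hM hne

theorem exists_core_ne_bot (h2 : TwoPrimes A θ q r) {M : Subgroup G} (hM : IsMax p A θ M) :
    pCoreIn q M ≠ ⊥ ∨ pCoreIn r M ≠ ⊥ := by
  have S := C.toSetup
  have hM1 : M ≠ ⊥ := fun h0 => C.noTop
    ⟨M, hM.1, fun a ha ha1 => (hM.2 _ (S.theta_mem ha ha1) (h0 ▸ bot_le)).le⟩
  obtain ⟨t, ht, htd, htne⟩ := exists_pCoreIn_ne_bot hM.1.1 hM1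
  rcases h2.only t (S.thetaPrime_of_dvd hM.1 ht htd) with rfl | rfl
  exacts [Or.inl htne, Or.inr htne]

theorem point_or (h2 : TwoPrimes A θ q r) {a : G} (ha : a ∈ A) (ha1 : a ≠ 1) :
    QPoint p A θ q a ∨ QPoint p A θ r a := by
  obtain ⟨H, hH, hle⟩ := exists_isMax_ge (C.toSetup.theta_mem ha ha1)
  exact (C.exists_core_ne_bot h2 hH).imp (fun h => ⟨H, hH, hle, h⟩) fun h => ⟨H, hH, hle, h⟩

/-- Not both primes have a line without points. -/
theorem noFree_or (h2 : TwoPrimes A θ q r) : NoFree p A θ q ∨ NoFree p A θ r := by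
  by_contra h
  rw [not_or, NoFree, NoFree] at h
  push Not at h
  obtain ⟨⟨B, hB, hBq⟩, B', hB', hBr⟩ := h
  obtain ⟨d, hd, hd', hd1⟩ := C.toSetup.exists_mem_inter hB hB'
  exact (C.point_or h2 (hB.1 hd) hd1).elim (hBq d hd hd1) (hBr d hd' hd1)

/-- The centre of a member containing the core of a maximal member lies in that core. -/
theorem center_le_core (h2 : TwoPrimes A θ q r) {K X : Subgroup G} (hK : IsMax p A θ K)
    (hne : pCoreIn q K ≠ ⊥) (hX : X ∈ Cfsg.signalizerFamily p A θ) (hle : pCoreIn q K ≤ X) :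
    cIn X ≤ pCoreIn q K := by
  have hc : cIn X ≤ centralizer (pCoreIn q K : Set G) :=
    inf_le_right.trans (Subgroup.centralizer_le (SetLike.coe_subset_coe.2 hle))
  intro x hx
  exact C.charP h2 hK hne ⟨hK.stable C hne _ (mem_family_of_le hX (cIn_le X)
    ((invariant_of_mem_family hX).trans (normalizer_le_normalizer_cIn X)))
    (hc.trans (Subgroup.centralizer_le_normalizer _)) hx, hc hx⟩

theorem qMem_le_maxMember {Q : Subgroup G} (hQ : IsMaxMember p q A θ Q) :
    piMem ({q} : Set ℕ) A θ ≤ Q := by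
  have S := C.toSetup
  obtain ⟨Q₀, hQ₀, hle⟩ := exists_max_member_ge (C.qMem q).1 (C.qMem q).2
  obtain ⟨c, hc, rfl⟩ := max_member_conj S.elem S.card_ge S.func hQ₀ hQ
  intro x hx
  rw [mem_map_conj]
  have := hle (conj_mem S.core_le_normalizer_piMem (inv_mem hc) hx)
  simpa using this

theorem exists_isMax_qMem_top : ∃ K, IsMax p A θ K ∧ piMem ({q} : Set ℕ) A θ ≤ K ∧
    Cfsg.signalizerInf A θ ≤ K := by
  have S := C.toSetup
  obtain ⟨K, hK, hle⟩ := exists_isMax_ge
    (sup_mem_family S.elem (C.qMem q).1 S.core_mem S.core_le_normalizer_piMem)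
  exact ⟨K, hK, le_sup_left.trans hle, le_sup_right.trans hle⟩

variable (h : Side p A θ q r)
include h

theorem exists_qType : ∃ H, QType p A θ q H := by
  have S := C.toSetup
  obtain ⟨B, hB, -, -⟩ := S.exists_line (one_mem A) (one_mem A)
  obtain ⟨b, hb, hb1, hbq⟩ := h.noFree B hB
  obtain ⟨H, hH, -⟩ := hbq.exists_qType S (hB.1 hb) hb1
  exact ⟨H, hH⟩

/-- An invariant subgroup of all `q`-type cores is good. -/
theorem good_of_qType {U : Subgroup G} (hAU : A ≤ normalizer (U : Set G))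
    (hU : ∀ H, QType p A θ q H → U ≤ pCoreIn q H) : Good p q A θ U := by
  have S := C.toSetup
  obtain ⟨H₀, h₀⟩ := C.exists_qType h
  refine ⟨(isPGroup_pCoreIn q H₀).to_le (hU H₀ h₀), hAU,
    not_dvd_card_of_le ((hU H₀ h₀).trans (pCoreIn_le q H₀)) h₀.isMax.1.2.1, fun a ha ha1 x hx => ?_⟩
  obtain ⟨n, hn⟩ := isPGroup_pCoreIn q H₀ ⟨x, hU H₀ h₀ hx.1⟩
  exact S.mem_core_of_points ha ha1
    (h₀.isMax.1.2.2.2 a ha ha1 ⟨pCoreIn_le q H₀ (hU H₀ h₀ hx.1), hx.2⟩) (n := n)
    (by simpa using congrArg Subtype.val hn) (fun H hH => hU H hH hx.1) fun B hB _ => h.noFree B hB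

theorem qMem_ne_bot : piMem ({q} : Set ℕ) A θ ≠ ⊥ := fun h0 => by
  obtain ⟨H, hH⟩ := C.exists_qType h
  exact hH.ne (le_bot_iff.1 ((hH.core_le_qMem C.toSetup).trans h0.le))

theorem center_good : Good p q A θ (cIn (piMem ({q} : Set ℕ) A θ)) :=
  C.good_of_qType h (C.toSetup.inv_piMem.trans (normalizer_le_normalizer_cIn _)) fun _ hH =>
    C.center_le_core h.two hH.isMax hH.ne (C.qMem q).1 (hH.core_le_qMem C.toSetup)

theorem center_maxMember_le {Q : Subgroup G} (hQ : IsMaxMember p q A θ Q) :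
    cIn Q ≤ cIn (piMem ({q} : Set ℕ) A θ) := by
  have hle := C.qMem_le_maxMember hQ
  obtain ⟨H, hH⟩ := C.exists_qType h
  exact le_inf ((C.center_le_core h.two hH.isMax hH.ne hQ.1
    ((hH.core_le_qMem C.toSetup).trans hle)).trans (hH.core_le_qMem C.toSetup))
    (inf_le_right.trans (Subgroup.centralizer_le (SetLike.coe_subset_coe.2 hle)))

theorem center_le_Dcap : cIn (piMem ({q} : Set ℕ) A θ) ≤ Dcap p A θ q :=
  le_iInf fun K => (le_inf le_rfl ((cIn_le _).trans K.2.2)).trans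
    ((C.center_good h).inf_le C.toSetup K.2.1.1)

theorem center_qMem_ne_bot : cIn (piMem ({q} : Set ℕ) A θ) ≠ ⊥ :=
  center_ne_bot (C.qMem q).2 (C.qMem_ne_bot h)

omit h

theorem Dcap_le {K : Subgroup G} (hK : IsMax p A θ K) (hQ : piMem ({q} : Set ℕ) A θ ≤ K) :
    Dcap p A θ q ≤ pCoreIn q K :=
  iInf_le_of_le (⟨K, hK, hQ⟩ : {K : Subgroup G // IsMax p A θ K ∧ piMem ({q} : Set ℕ) A θ ≤ K})
    le_rfl

theorem Dcap_le_qMem : Dcap p A θ q ≤ piMem ({q} : Set ℕ) A θ := by
  obtain ⟨K, hK, hQ, hT⟩ := C.exists_isMax_qMem_top (q := q)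
  exact (C.Dcap_le hK hQ).trans (C.toSetup.pCoreIn_le_qMem hK.1 (hT.trans le_normalizer))

theorem Dcap_isPGroup : IsPGroup q (Dcap p A θ q) := (C.qMem q).2.to_le C.Dcap_le_qMem

theorem qMem_le_normalizer_Dcap :
    piMem ({q} : Set ℕ) A θ ≤ normalizer (Dcap p A θ q : Set G) :=
  le_normalizer_of_conj_mem fun x hx y hy => mem_iInf.2 fun K =>
    conj_mem (le_normalizer_pCoreIn q K.1) (K.2.2 hx) (mem_iInf.1 hy K)

theorem Dcap_inv : A ≤ normalizer (Dcap p A θ q : Set G) :=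
  le_normalizer_of_conj_mem fun _ ha _ hy => mem_iInf.2 fun K =>
    conj_mem (inv_pCoreIn K.2.1.1 q) ha (mem_iInf.1 hy K)

theorem Dcap_mem : Dcap p A θ q ∈ Cfsg.signalizerFamily p A θ :=
  mem_family_of_le (C.qMem q).1 C.Dcap_le_qMem C.Dcap_inv

include h

theorem Dcap_ne_bot : Dcap p A θ q ≠ ⊥ := fun h0 =>
  C.center_qMem_ne_bot h (le_bot_iff.1 ((C.center_le_Dcap h).trans h0.le))

/-- `Dcap` meets every member with nontrivial `q`-core in that core. -/
theorem Dcap_inf_le_aux (n : ℕ) : ∀ K X : Subgroup G, IsMax p A θ K → pCoreIn q K ≠ ⊥ → X ≤ K →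
    IsPGroup q X → Nat.card G - Nat.card X ≤ n → Dcap p A θ q ⊓ K ≤ pCoreIn q K := by
  induction n using Nat.strong_induction_on with
  | _ n ih =>
  intro K X hK hne hXK hX hn
  have S₀ := C.toSetup
  set Q := piMem ({q} : Set ℕ) A θ with hQdef
  set D := Dcap p A θ q with hDdef
  set P := pCoreIn q K with hPdef
  by_cases hQK : Q ≤ K
  · exact inf_le_left.trans (C.Dcap_le hK hQK)
  have hAK := invariant_of_mem_family hK.1
  have hDKP : D ⊓ K ≤ normalizer (P : Set G) := inf_le_right.trans (le_normalizer_pCoreIn q K)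
  obtain ⟨S, hS, hAS, hRS⟩ := exists_invariant_sylow_ge (q := q) S₀.isPGroup hK.1.2.1 hAK
    (R := P ⊔ (D ⊓ K)) (sup_le (pCoreIn_le q K) inf_le_right)
    ((isPGroup_pCoreIn q K).to_sup_of_normal_left' (C.Dcap_isPGroup.to_le inf_le_left) hDKP)
    (le_normalizer_sup (inv_pCoreIn hK.1 q) (le_normalizer_inf C.Dcap_inv hAK))
  have hPS : P ≤ S := le_sup_left.trans hRS
  have hDS : D ⊓ K ≤ S := le_sup_right.trans hRS
  have hSmem := mem_family_of_le hK.1 hS.1 hAS
  obtain ⟨Q', hQ', hSQ'⟩ := exists_max_member_ge (q := q) hSmem hS.2.1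
  have hAQ' := invariant_of_mem_family hQ'.1
  -- the central subgroup
  set Z := Cfsg.omegaOne q (cIn Q') with hZdef
  have hZe : Cfsg.IsElementaryAbelian q Z := PLocal.omegaOne_elemAb
    (inf_le_right.trans (Subgroup.centralizer_le (SetLike.coe_subset_coe.2 (cIn_le Q'))))
  have hZc : Z ≤ cIn Q' := PLocal.omegaOne_le _
  have hcP : cIn Q' ≤ P := C.center_le_core h.two hK hne hQ'.1 (hPS.trans hSQ')
  have hZP : Z ≤ P := hZc.trans hcP
  have hZS : Z ≤ S := hZP.trans hPS
  have hZcS : Z ≤ centralizer (S : Set G) :=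
    hZc.trans (inf_le_right.trans (Subgroup.centralizer_le (SetLike.coe_subset_coe.2 hSQ')))
  have hAZ : A ≤ normalizer (Z : Set G) := le_normalizer_of_conj_mem fun a ha x hx =>
    PLocal.mem_omegaOne (conj_mem (hAQ'.trans (normalizer_le_normalizer_cIn Q')) ha (hZc hx))
      (by rw [conj_pow, hZe.2 x hx]; simp)
  have hQ'1 : Q' ≠ ⊥ := fun h0 => hne (le_bot_iff.1 ((hPS.trans hSQ').trans h0.le))
  have hZ1 : Z ≠ ⊥ := by
    refine PLocal.omegaOne_ne_bot ?_
    obtain ⟨i, hi⟩ := IsPGroup.iff_card.mp (hQ'.2.1.to_le (cIn_le Q'))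
    have hi0 : i ≠ 0 := by
      rintro rfl
      exact center_ne_bot hQ'.2.1 hQ'1
        (Subgroup.card_eq_one.1 (by simpa using hi) : cIn Q' = ⊥)
    exact hi ▸ dvd_pow_self q hi0
  have hZz : Z ≤ zIn q K := by
    obtain ⟨s, hs⟩ := hS.exists_sylow
    intro x hx
    have hxs : x ∈ (s : Subgroup K).map K.subtype := by rw [hs]; exact hZS hx
    obtain ⟨y, hy, rfl⟩ := hxs
    refine ⟨y, le_iSup (fun T : Sylow q K => Cfsg.omegaOne q ((T : Subgroup K) ⊓
      centralizer ((T : Subgroup K) : Set K))) s (PLocal.mem_omegaOne ⟨hy, ?_⟩ ?_), rfl⟩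
    · refine mem_centralizer_iff.2 fun z hz => Subtype.ext ?_
      exact mem_centralizer_iff.1 (hZcS hx) (z : G) (hs.le ⟨z, hz, rfl⟩)
    · exact Subtype.ext (by simpa using hZe.2 _ hx)
  -- the normaliser of the Thompson subgroup
  set JS := Cfsg.thompsonSubgroupOf q S with hJSdef
  have hJS1 : JS ≠ ⊥ := by
    intro h0
    obtain ⟨B, hB⟩ := PLocal.exists_maxIn (Q := PLocal.elemAb q) PLocal.elemAb_bot S
    have hBJ : B ≤ JS := by
      rw [hJSdef, PLocal.thompsonSubgroupOf_eq]; exact le_sSup hB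
    have h1 := PLocal.maxIn_card hB hZS hZe
    rw [h0, le_bot_iff] at hBJ
    rw [hBJ, Subgroup.card_bot] at h1
    exact hZ1 (Subgroup.card_eq_one.1 (le_antisymm h1 Nat.card_pos))
  have hAJ : A ≤ normalizer (JS : Set G) :=
    hAS.trans (PLocal.normalizer_le_normalizer_thompsonSubgroupOf _)
  obtain ⟨K₄, hK₄, hle₄⟩ := exists_isMax_ge
    (C.norC_mem (mem_family_of_le hSmem (PLocal.thompsonSubgroupOf_le S) hAJ) hJS1).1
  set N := K ⊓ normalizer (JS : Set G) with hNdef
  have hN₄ : N ≤ K₄ := (C.le_norC (mem_family_of_le hK.1 inf_le_left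
    (le_normalizer_inf hAK (hAJ.trans le_normalizer))) inf_le_right).trans hle₄
  set X' := Q' ⊓ normalizer (S : Set G) with hX'def
  have hX'₄ : X' ≤ K₄ := (C.le_norC (mem_family_of_le hQ'.1 inf_le_left
    (le_normalizer_inf hAQ' (hAS.trans le_normalizer)))
    (inf_le_right.trans (PLocal.normalizer_le_normalizer_thompsonSubgroupOf _))).trans hle₄
  have hgZ : Good p q A θ Z :=
    (C.center_good h).mono (hZc.trans (C.center_maxMember_le h hQ')) hAZ
  have hZX : Z ≤ X' := le_inf (hZc.trans (cIn_le Q'))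
    (hZcS.trans (Subgroup.centralizer_le_normalizer _))
  have hne₄ : pCoreIn q K₄ ≠ ⊥ := fun h0 => hZ1 (le_bot_iff.1
    (((le_inf le_rfl (hZX.trans hX'₄)).trans (hgZ.inf_le S₀ hK₄.1)).trans h0.le))
  have hlt : Nat.card S < Nat.card X' := by
    have hSne : S ≠ Q' := fun h0 =>
      hQK ((C.qMem_le_maxMember hQ').trans (h0 ▸ hS.1 : Q' ≤ K))
    obtain ⟨x, hxQ, hxN, hxS⟩ := exists_mem_normalizer_not_mem hQ'.2.1 hSQ' hSne
    have hSX : S ≤ X' := le_inf hSQ' le_normalizer
    refine lt_of_le_of_ne (Subgroup.card_le_of_le hSX) fun he => hxS ?_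
    rw [Subgroup.eq_of_le_of_card_ge hSX he.ge]
    exact ⟨hxQ, hxN⟩
  have hIH : D ⊓ K₄ ≤ pCoreIn q K₄ := by
    have h1 := Subgroup.card_le_card_group X'
    have h2 := card_le_of_isSylowIn hS hXK hX
    exact ih (Nat.card G - Nat.card X') (by omega) K₄ X' hK₄ hne₄ hX'₄
      (hQ'.2.1.to_le inf_le_left) le_rfl
  -- the centraliser of `zIn`
  obtain ⟨K', hK', hle'⟩ := exists_isMax_ge (C.norC_mem (mem_family_of_le hK.1
    (hZS.trans hS.1) hAZ) hZ1).1
  have hQK' : Q ≤ K' := (C.le_norC (C.qMem q).1 (((C.qMem_le_maxMember hQ').trans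
    ((cIn_le_centralizer Q').trans (Subgroup.centralizer_le (SetLike.coe_subset_coe.2 hZc)))).trans
    (Subgroup.centralizer_le_normalizer _))).trans hle'
  set V := zIn q K with hVdef
  set CK := K ⊓ centralizer (V : Set G) with hCKdef
  have hKV : K ≤ normalizer (V : Set G) := le_normalizer.trans (normalizer_le_normalizer_zIn K)
  have hACK : A ≤ normalizer (CK : Set G) :=
    le_normalizer_inf hAK (le_normalizer_centralizer (hAK.trans (normalizer_le_normalizer_zIn K)))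
  have hKCK : K ≤ normalizer (CK : Set G) :=
    le_normalizer_inf le_normalizer (le_normalizer_centralizer hKV)
  have hCK' : CK ≤ K' := (C.le_norC (mem_family_of_le hK.1 inf_le_left hACK)
    ((inf_le_right.trans (Subgroup.centralizer_le (SetLike.coe_subset_coe.2 hZz))).trans
      (Subgroup.centralizer_le_normalizer _))).trans hle'
  set OC := pCoreIn q CK with hOCdef
  have hKOC : K ≤ normalizer (OC : Set G) := hKCK.trans (normalizer_le_normalizer_pCoreIn q CK)
  have hpq : p ≠ q := by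
    rintro rfl
    obtain ⟨i, hi⟩ := IsPGroup.iff_card.mp (isPGroup_pCoreIn p K)
    rcases Nat.eq_zero_or_pos i with rfl | hi0
    · exact hne (Subgroup.card_eq_one.1 (by simpa using hi))
    · exact hK.1.2.1 ((dvd_pow_self p hi0.ne').trans (hi ▸ card_dvd_of_le (pCoreIn_le p K)))
  have hJ := commutator_jIn_le (D := Q ⊓ K) S₀.elem hpq hK.1.1 hK.1.2.1 hAK
    (C.charP h.two hK hne) inf_le_right ((C.qMem q).2.to_le inf_le_left)
    (le_normalizer_inf S₀.inv_piMem hAK)
    (le_normalizer_inf ((S₀.member_inf_centralizer_le_core hK.1).trans S₀.core_le_normalizer_piMem)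
      (inf_le_left.trans le_normalizer))
  have hDOC : ∀ y ∈ D ⊓ K, ∀ c ∈ CK, ⁅y, c⁆ ∈ OC := fun y hy c hc => by
    refine le_pCoreIn (X := CK) (Q := pCoreIn q K' ⊓ CK) inf_le_right
      ((isPGroup_pCoreIn q K').to_le inf_le_left)
      (le_normalizer_inf (hCK'.trans (le_normalizer_pCoreIn q K')) le_normalizer) ⟨?_, ?_⟩
    · exact commutatorElement_mem_left (C.Dcap_le hK' hQK' hy.1)
        (le_normalizer_pCoreIn q K' (hCK' hc))
    · exact commutatorElement_mem_right hc (hKCK hy.2)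
  have hDN : D ⊓ K ≤ N := le_inf inf_le_right
    (hDS.trans (le_normalizer.trans (PLocal.normalizer_le_normalizer_thompsonSubgroupOf _)))
  -- the conjugates under `N`
  set G₀ : Subgroup G := ⨆ n : N, (D ⊓ K).map (MulAut.conj (n : G)).toMonoidHom with hG₀def
  have hG₀K : G₀ ≤ K := iSup_le fun n => by
    rintro _ ⟨y, hy, rfl⟩
    exact conj_mem le_normalizer n.2.1 hy.2
  have hG₀q : IsPGroup q G₀ := by
    refine (isPGroup_pCoreIn q K₄).to_le (iSup_le fun n => ?_)
    rintro _ ⟨y, hy, rfl⟩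
    exact conj_mem (le_normalizer_pCoreIn q K₄) (hN₄ n.2) (hIH ⟨hy.1, hN₄ (hDN hy)⟩)
  have hNG₀ : N ≤ normalizer (G₀ : Set G) := by
    refine le_normalizer_of_conj_mem fun a ha x hx => ?_
    suffices hs : G₀ ≤ G₀.comap (MulAut.conj a).toMonoidHom from hs hx
    refine iSup_le fun g => ?_
    rintro _ ⟨y, hy, rfl⟩
    refine mem_comap.2 (mem_iSup_of_mem (⟨a * g, N.mul_mem ha g.2⟩ : N) ⟨y, hy, ?_⟩)
    simp [mul_assoc]
  set Y := OC ⊔ G₀ with hYdef
  have hYq : IsPGroup q Y :=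
    (isPGroup_pCoreIn q CK).to_sup_of_normal_left' hG₀q (hG₀K.trans hKOC)
  have hCY : CK ≤ normalizer (Y : Set G) := by
    refine le_normalizer_of_conj_mem fun c hc y hy => ?_
    suffices hs : Y ≤ Y.comap (MulAut.conj c).toMonoidHom from hs hy
    refine sup_le (fun z hz => mem_sup_left (conj_mem (le_normalizer_pCoreIn q CK) hc hz))
      (iSup_le fun n => ?_)
    rintro _ ⟨y, hy, rfl⟩
    rw [mem_comap]
    change c * ((n : G) * y * (n : G)⁻¹) * c⁻¹ ∈ Y
    rw [show c * ((n : G) * y * (n : G)⁻¹) * c⁻¹ =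
      (n : G) * ⁅y, (n : G)⁻¹ * c * n⁆⁻¹ * (n : G)⁻¹ * ((n : G) * y * (n : G)⁻¹) by
        simp only [commutatorElement_def]; group]
    refine mul_mem (mem_sup_left (conj_mem hKOC n.2.1 (inv_mem (hDOC y hy _ ?_))))
      (mem_sup_right (mem_iSup_of_mem n ⟨y, hy, rfl⟩))
    simpa using conj_mem hKCK (inv_mem n.2.1) hc
  set CY := CK ⊔ G₀ with hCYdef
  have hYCY : Y ≤ CY := sup_le ((pCoreIn_le q CK).trans le_sup_left) le_sup_right
  have hCYY : CY ≤ normalizer (Y : Set G) := sup_le hCY (le_sup_right.trans le_normalizer)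
  have hKCY : K ≤ normalizer (CY : Set G) := by
    refine (le_sup_of_frattini hS).trans
      (sup_le (sup_le (le_normalizer_sup (inf_le_left.trans hKCK) hNG₀) ?_)
        (le_sup_left.trans le_normalizer))
    refine le_normalizer_of_conj_mem fun j hj x hx => ?_
    suffices hs : CY ≤ CY.comap (MulAut.conj j).toMonoidHom from hs hx
    refine sup_le (fun z hz => mem_sup_left (conj_mem hKCK (jIn_le q K hj) hz))
      (iSup_le fun n => ?_)
    rintro _ ⟨y, hy, rfl⟩
    rw [mem_comap]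
    change j * ((n : G) * y * (n : G)⁻¹) * j⁻¹ ∈ CY
    rw [show j * ((n : G) * y * (n : G)⁻¹) * j⁻¹ =
      (n : G) * ⁅(n : G)⁻¹ * j * n, y⁆ * (n : G)⁻¹ * ((n : G) * y * (n : G)⁻¹) by
        simp only [commutatorElement_def]; group]
    refine mul_mem (mem_sup_left (conj_mem hKCK n.2.1 (hJ y ⟨C.Dcap_le_qMem hy.1, hy.2⟩ _ ?_)))
      (mem_sup_right (mem_iSup_of_mem n ⟨y, hy, rfl⟩))
    simpa using conj_mem (le_normalizer.trans (normalizer_le_normalizer_jIn K)) (inv_mem n.2.1) hj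
  refine le_trans ?_ ((le_pCoreIn hYCY hYq hCYY).trans (le_pCoreIn
    ((pCoreIn_le q CY).trans (sup_le inf_le_left hG₀K)) (isPGroup_pCoreIn q CY)
    (hKCY.trans (normalizer_le_normalizer_pCoreIn q CY))))
  exact le_trans (le_iSup_of_le
    (f := fun n : N => (D ⊓ K).map (MulAut.conj (n : G)).toMonoidHom) (⟨1, one_mem _⟩ : N)
    fun y hy => ⟨y, hy, by simp⟩) le_sup_right

theorem Dcap_inf_le {K : Subgroup G} (hK : IsMax p A θ K) (hne : pCoreIn q K ≠ ⊥) :
    Dcap p A θ q ⊓ K ≤ pCoreIn q K :=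
  C.Dcap_inf_le_aux h _ K (pCoreIn q K) hK hne (pCoreIn_le q K) (isPGroup_pCoreIn q K) le_rfl

theorem Dcap_le_core {H : Subgroup G} (hH : QType p A θ q H) :
    Dcap p A θ q ≤ pCoreIn q H := by
  refine le_of_normalised (isPGroup_pCoreIn q H) C.Dcap_isPGroup
    ((hH.core_le_qMem C.toSetup).trans C.qMem_le_normalizer_Dcap) ?_
  exact le_trans (le_inf inf_le_left (hH.isMax.stable C hH.ne _ (mem_family_of_le C.Dcap_mem
    inf_le_left (le_normalizer_inf C.Dcap_inv
      ((inv_pCoreIn hH.isMax.1 q).trans le_normalizer))) inf_le_right))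
    (C.Dcap_inf_le h hH.isMax hH.ne)

/-- `Dcap` is good. -/
theorem Dcap_good : Good p q A θ (Dcap p A θ q) :=
  C.good_of_qType h C.Dcap_inv fun _ hH => C.Dcap_le_core h hH

end Counter

end Cfsg.Agent.Signalizer.SSFT
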