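import Cfsg.Agent.Lib.Signalizer.SSFT.TwoPure

/-!
# Two primes: the end of the pure case

* `Exc`: the second prime has exactly one line without points, centralising `Dcap`
* `Counter.exists_exc`, `Counter.not_qMem_le`, `Counter.center_le_top`, `Counter.false_of_exc`
* `Counter.false_of_twoPrimes`
-/

set_option autoImplicit false
set_option linter.unusedSectionVars false

namespace Cfsg.Agent.Signalizer.SSFT

open Subgroup LocalCharP
open scoped commutatorElement Pointwise

universe u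

variable {G : Type u} [Group G] {p : ℕ} {A : Subgroup G} {θ : G → Subgroup G}

/-- One side without free lines, and a single free line for the other prime. -/
structure Exc (p : ℕ) (A : Subgroup G) (θ : G → Subgroup G) (q r : ℕ) (B₁ : Subgroup G) : Prop where
  side : Side p A θ q r
  line : Line p A B₁
  free : ∀ f ∈ B₁, f ≠ 1 → ¬ QPoint p A θ r f
  other : ∀ B, Line p A B → B ≠ B₁ → ∃ e ∈ B, e ≠ 1 ∧ QPoint p A θ r e
  le : Dcap p A θ q ≤ centralizer (B₁ : Set G)

/-- The join of the centres of the maximal `q`-members. -/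
def VT (p : ℕ) (A : Subgroup G) (θ : G → Subgroup G) (q : ℕ) : Subgroup G :=
  ⨆ Q : {Q : Subgroup G // IsMaxMember p q A θ Q}, cIn Q.1

variable [Finite G] [hp : Fact p.Prime]

theorem Setup.mem_zpowers_symm (S : Setup p A θ) {d f : G} (hf : f ∈ A) (hd : d ∈ zpowers f)
    (hd1 : d ≠ 1) : f ∈ zpowers d := by
  have hf1 : f ≠ 1 := by
    rintro rfl
    exact hd1 (mem_bot.1 (by simpa using hd))
  have heq : zpowers d = zpowers f := Subgroup.eq_of_le_of_card_ge (zpowers_le.2 hd) (by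
    rw [Nat.card_zpowers, Nat.card_zpowers, orderOf_eq_prime (S.pow_eq hf) hf1,
      orderOf_eq_prime (S.pow_eq ((zpowers_le.2 hf) hd)) hd1])
  rw [heq]; exact mem_zpowers f

theorem Setup.theta_eq_of_mem_zpowers (S : Setup p A θ) {d e : G} (hd : d ∈ A) (he : e ∈ zpowers d)
    (he1 : e ≠ 1) : θ e = θ d := by
  have heA : e ∈ A := (zpowers_le.2 hd) he
  have hd1 : d ≠ 1 := by
    rintro rfl
    exact he1 (mem_bot.1 (by simpa using he))
  have hc := S.centralizer_eq_of_mem_zpowers hd he he1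
  exact le_antisymm (fun x hx => S.bal heA he1 hd hd1 ⟨hx, hc ▸ S.le_cent heA he1 hx⟩)
    fun x hx => S.bal hd hd1 heA he1 ⟨hx, hc.symm ▸ S.le_cent hd hd1 hx⟩

/-- A point outside two given lines. -/
theorem Setup.exists_off_two (S : Setup p A θ) {B B' : Subgroup G} (hB : Line p A B)
    (hB' : Line p A B') : ∃ g ∈ A, g ∉ B ∧ g ∉ B' := by
  obtain ⟨g₁, hg₁, hg₁B⟩ := S.exists_mem_not_line hB
  obtain ⟨g₂, hg₂, hg₂B⟩ := S.exists_mem_not_line hB'
  by_cases h1 : g₁ ∈ B'
  · by_cases h2 : g₂ ∈ B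
    · exact ⟨g₁ * g₂, A.mul_mem hg₁ hg₂, fun h => hg₁B ((B.mul_mem_cancel_right h2).1 h),
        fun h => hg₂B ((B'.mul_mem_cancel_left h1).1 h)⟩
    · exact ⟨g₂, hg₂, h2, hg₂B⟩
  · exact ⟨g₁, hg₁, hg₁B, h1⟩

/-- A nontrivial good subgroup has nontrivial fixed points on some line. -/
theorem Setup.exists_line_fixed (S : Setup p A θ) {q : ℕ} {U : Subgroup G} (hU : Good p q A θ U)
    (h1 : U ≠ ⊥) : ∃ B, Line p A B ∧ U ⊓ centralizer (B : Set G) ≠ ⊥ := by
  by_contra hc
  push Not at hc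
  exact h1 (le_bot_iff.1 (le_of_hyperplanes S.elem S.ne_bot ⊥ U hU.not_dvd hU.inv
    fun L hL hi => (hc L ⟨hL, hi⟩).le))

variable {q r : ℕ} [Fact q.Prime] [Fact r.Prime]

namespace Counter

variable (C : Counter p A θ)
include C

/-- Both sides without free lines is impossible. -/
theorem false_of_both (h : Side p A θ q r) (h' : Side p A θ r q) : False := by
  have S := C.toSetup
  have hZ := C.center_good h
  have hW := C.center_good h'
  obtain ⟨B, hB, hZB⟩ := S.exists_line_fixed hZ (C.center_qMem_ne_bot h)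
  obtain ⟨B', hB', hWB⟩ := S.exists_line_fixed hW (C.center_qMem_ne_bot h')
  obtain ⟨a, haB, haB', ha1⟩ := S.exists_mem_inter hB hB'
  obtain ⟨H, hH, hle⟩ := exists_isMax_ge (S.theta_mem (hB.1 haB) ha1)
  refine hWB (le_bot_iff.1 (le_trans (fun x hx => ?_) (C.pure_core h.two hH ?_).le))
  · exact hW.inf_le S hH.1 ⟨hx.1, hle (pCoreIn_le r _
      (hW.loc a (hB'.1 haB') ha1 ⟨hx.1, centralizer_le_singleton haB' hx.2⟩))⟩
  · intro h0
    refine hZB (le_bot_iff.1 (le_trans (fun x hx => ?_) h0.le))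
    exact hZ.inf_le S hH.1 ⟨hx.1, hle (pCoreIn_le q _
      (hZ.loc a (hB.1 haB) ha1 ⟨hx.1, centralizer_le_singleton haB hx.2⟩))⟩

section Side

variable (h : Side p A θ q r)
include h

/-- A line all whose points have partners with `q`-points normalises `Dcap`. -/
theorem line_le_normalizer_Dcap {B : Subgroup G} (hB : Line p A B)
    (hpair : ∀ d ∈ B, d ≠ 1 → ∃ f ∈ B, f ∉ zpowers d ∧ QPoint p A θ q f) :
    Cfsg.signalizerInf B θ ≤ normalizer (Dcap p A θ q : Set G) := by
  have S := C.toSetup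
  have hD := C.Dcap_good h
  intro g hg
  refine mem_normalizer_of_conj_mem fun y hy => ?_
  suffices hs : Dcap p A θ q ≤ (Dcap p A θ q).comap (MulAut.conj g).toMonoidHom from hs hy
  refine le_of_elements (elemAb_of_le S.elem hB.1) (S.line_card hB).ge _ _ hD.not_dvd
    (hB.1.trans hD.inv) fun d hd hd1 => ?_
  obtain ⟨f, hf, hfd, hfq⟩ := hpair d hd hd1
  have hf1 : f ≠ 1 := fun h0 => hfd (h0 ▸ one_mem _)
  have hgd : g ∈ θ d := signalizerInf_le hd hd1 hg
  have hgf : g ∈ θ f := signalizerInf_le hf hf1 hg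
  set Y := (Dcap p A θ q ⊓ centralizer {d}).map (MulAut.conj g).toMonoidHom with hYdef
  suffices hY : Y ≤ Dcap p A θ q from Subgroup.map_le_iff_le_comap.1 hY
  refine le_iInf ?_
  rintro ⟨K, hKm, hQK⟩
  change Y ≤ pCoreIn q K
  have hK := hKm.1
  have hYθ : Y ≤ pCoreIn q (θ d) := by
    rintro _ ⟨y, hy, rfl⟩
    exact conj_mem (le_normalizer_pCoreIn q (θ d)) hgd (hD.loc d (hB.1 hd) hd1 hy)
  have hYK : Y ≤ K := hYθ.trans ((S.pCoreIn_theta_le_qMem (hB.1 hd) hd1).trans hQK)
  have hYq : IsPGroup q Y := (isPGroup_pCoreIn q _).to_le hYθ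
  have hgf' : g * f = f * g := mem_centralizer_singleton_iff.1 (S.le_cent (hB.1 hf) hf1 hgf)
  have hfY : f ∈ normalizer (Y : Set G) := by
    refine mem_normalizer_of_conj_mem ?_
    rintro _ ⟨y, hy, rfl⟩
    refine ⟨f * y * f⁻¹, conj_mem (le_normalizer_inf hD.inv
      (S.le_normalizer_centralizer_singleton (hB.1 hd))) (hB.1 hf) hy, ?_⟩
    change g * (f * y * f⁻¹) * g⁻¹ = f * (g * y * g⁻¹) * f⁻¹
    calc g * (f * y * f⁻¹) * g⁻¹ = (g * f) * y * (g * f)⁻¹ := by group
      _ = (f * g) * y * (f * g)⁻¹ := by rw [hgf']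
      _ = _ := by group
  obtain ⟨H, hH, hθH⟩ := hfq.exists_qType S (hB.1 hf) hf1
  have hDH : Dcap p A θ q ≤ pCoreIn q H := C.Dcap_le_core h hH
  have hYH : Y ≤ pCoreIn q H := by
    rintro _ ⟨y, hy, rfl⟩
    exact conj_mem (le_normalizer_pCoreIn q H) (hθH hgf) (hDH hy.1)
  intro x hx
  obtain ⟨n, hn⟩ := hYq ⟨x, hx⟩
  refine mem_pCoreIn_of_layers hK.1 (hYK hx) (n := n) (by simpa using congrArg Subtype.val hn)
    fun t ht htq _ => ?_
  haveI := Fact.mk ht
  refine commutator_le_of_fpf htq (S.pow_eq (hB.1 hf)) (isPGroup_pCoreIn q K) hYq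
    (not_dvd_card_of_le hYK hK.2.1) (not_dvd_card_of_le (layer_le q t K) hK.2.1)
    (fun l hl => pow_mem_of_layer hl) (hYK.trans (le_normalizer_pCoreIn q K))
    ((layer_le q t K).trans (le_normalizer_pCoreIn q K))
    (normalizer_le_normalizer_pCoreIn q K (invariant_of_mem_family hK (hB.1 hf)))
    (hYK.trans (le_normalizer_layer q t K)) hfY
    (normalizer_le_normalizer_layer q t K (invariant_of_mem_family hK (hB.1 hf)))
    (fun y hyY hyf w hw => ?_) (fun w hw hwf y hyY => ?_) x hx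
  · -- fixed points centralise the line
    obtain ⟨y₀, hy₀, rfl⟩ := hyY
    have hgB : g ∈ centralizer (B : Set G) := signalizerInf_le_centralizer S.func.1 hB.1 hg
    have hyB : g * y₀ * g⁻¹ ∈ centralizer (B : Set G) := S.mem_centralizer_line hB hd hd1 hf hfd
      (mul_mem (mul_mem (centralizer_le_singleton hd hgB) hy₀.2)
        (inv_mem (centralizer_le_singleton hd hgB))) hyf
    have hy₀B : y₀ ∈ centralizer (B : Set G) := by
      simpa [mul_assoc] using mul_mem (mul_mem (inv_mem hgB) hyB) hgB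
    obtain ⟨m, hm⟩ := hD.isq ⟨y₀, hy₀.1⟩
    have hP : g * y₀ * g⁻¹ ∈ pCoreIn q K := by
      refine S.mem_pCoreIn_of_line hK hB (hYK ⟨y₀, hy₀, rfl⟩) (n := m) ?_ fun a haB ha1 => ?_
      · rw [conj_pow, show y₀ ^ q ^ m = 1 by simpa using congrArg Subtype.val hm]; simp
      · exact conj_mem (le_normalizer_pCoreIn q (θ a)) (signalizerInf_le haB ha1 hg)
          (hD.loc a (hB.1 haB) ha1 ⟨hy₀.1, centralizer_le_singleton haB hy₀B⟩)
    exact commutatorElement_mem_left hP (le_normalizer_pCoreIn q K (layer_le q t K hw))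
  · have hwθ : w ∈ θ f := hK.2.2.2 f (hB.1 hf) hf1 ⟨layer_le q t K hw, hwf⟩
    exact commutator_mem_layer htq (isPGroup_pCoreIn q H) (hYH hyY)
      (le_normalizer_pCoreIn q H (hθH hwθ)) (le_normalizer_layer q t K (hYK hyY)) hw

/-- A line with a single `q`-point gives a point centralising `Dcap`. -/
theorem Dcap_le_centralizer_of_bad {B : Subgroup G} (hB : Line p A B) {d : G} (hd : d ∈ B)
    (hbad : ∀ e ∈ B, e ∉ zpowers d → ¬ QPoint p A θ q e) :
    Dcap p A θ q ≤ centralizer {d} := by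
  have S := C.toSetup
  have hD := C.Dcap_good h
  refine le_of_elements (elemAb_of_le S.elem hB.1) (S.line_card hB).ge _ _ hD.not_dvd
    (hB.1.trans hD.inv) fun e he he1 => ?_
  by_cases hed : e ∈ zpowers d
  · exact inf_le_right.trans (S.centralizer_eq_of_mem_zpowers (hB.1 hd) hed he1).le
  · intro x hx
    obtain ⟨H, hH, hle⟩ := exists_isMax_ge (S.theta_mem (hB.1 he) he1)
    have hxH : x ∈ pCoreIn q H :=
      hD.inf_le S hH.1 ⟨hx.1, hle (pCoreIn_le q _ (hD.loc e (hB.1 he) he1 hx))⟩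
    have h0 : pCoreIn q H = ⊥ := by
      by_contra hne
      exact hbad e he hed ⟨H, hH, hle, hne⟩
    rw [h0, mem_bot] at hxH
    rw [hxH]; exact one_mem _

/-- A single free line for the other prime. -/
theorem exists_exc (hr : ¬ NoFree p A θ r) : ∃ B₁, Exc p A θ q r B₁ := by
  have S := C.toSetup
  rw [NoFree] at hr
  push Not at hr
  obtain ⟨B₁, hB₁, hfree⟩ := hr
  -- the point of a bad line lies in every free line
  have hmem : ∀ {B d}, Line p A B → d ∈ B → d ≠ 1 →
      (∀ e ∈ B, e ∉ zpowers d → ¬ QPoint p A θ q e) → ∀ B', Line p A B' →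
      (∀ f ∈ B', f ≠ 1 → ¬ QPoint p A θ r f) → d ∈ B' := by
    intro B d hB hd hd1 hbad B' hB' hf'
    obtain ⟨x, hxB, hxB', hx1⟩ := S.exists_mem_inter hB hB'
    have hxq := (C.point_or h.two (hB.1 hxB) hx1).resolve_right (hf' x hxB' hx1)
    have hxd : x ∈ zpowers d := by
      by_contra hxd
      exact hbad x hxB hxd hxq
    exact (zpowers_le.2 hxB') (S.mem_zpowers_symm (hB.1 hd) hxd hx1)
  have hbad : ∀ h' : G, ∀ hh : h' ∈ A, h' ≠ 1 → ∃ B d, Line p A B ∧ h' ∉ B ∧ d ∈ B ∧ d ≠ 1 ∧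
      ∀ e ∈ B, e ∉ zpowers d → ¬ QPoint p A θ q e := by
    intro h' hh hh1
    by_contra hc
    push Not at hc
    refine C.false_of_lines_avoiding (C.norC_mem C.Dcap_mem (C.Dcap_ne_bot h)).1 hh hh1
      fun B hB hhB => C.le_norC (signalizerInf_mem_family S.func hB.1 fun hbot => ?_)
        (C.line_le_normalizer_Dcap h hB fun d hd hd1 => hc B d hB hhB hd hd1)
    obtain ⟨x, hx, hx1⟩ := S.exists_mem_line hB
    exact hx1 (mem_bot.1 (hbot ▸ hx))
  obtain ⟨a, ha, ha1⟩ := S.exists_point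
  obtain ⟨B₀, d₀, hB₀, -, hd₀, hd₀1, hbad₀⟩ := hbad a ha ha1
  obtain ⟨B₂, d₂, hB₂, hd₀B₂, hd₂, hd₂1, hbad₂⟩ := hbad d₀ (hB₀.1 hd₀) hd₀1
  have hind : d₂ ∉ zpowers d₀ := fun hz =>
    hd₀B₂ ((zpowers_le.2 hd₂) (S.mem_zpowers_symm (hB₀.1 hd₀) hz hd₂1))
  have h0 := hmem hB₀ hd₀ hd₀1 hbad₀
  have h2 := hmem hB₂ hd₂ hd₂1 hbad₂
  refine ⟨B₁, h, hB₁, hfree, fun B hB hne => ?_, fun x hx => ?_⟩
  · by_contra hc
    push Not at hc
    exact hind (S.inter_le hB hB₁ hne (h0 B hB hc) (h0 B₁ hB₁ hfree) hd₀1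
      ⟨h2 B hB hc, h2 B₁ hB₁ hfree⟩)
  · exact S.mem_centralizer_line hB₁ (h0 B₁ hB₁ hfree) hd₀1 (h2 B₁ hB₁ hfree) hind
      (C.Dcap_le_centralizer_of_bad h hB₀ hd₀ hbad₀ hx)
      (C.Dcap_le_centralizer_of_bad h hB₂ hd₂ hbad₂ hx)

end Side

section Exc

variable {B₁ : Subgroup G} (h : Exc p A θ q r B₁)
include h

theorem exists_rPoint : ∃ e ∈ A, e ≠ 1 ∧ QPoint p A θ r e := by
  have S := C.toSetup
  obtain ⟨g, hg, hgB⟩ := S.exists_mem_not_line h.line
  obtain ⟨B, hB, hgB', -⟩ := S.exists_line hg hg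
  obtain ⟨e, he, he1, her⟩ := h.other B hB fun h0 => hgB (h0 ▸ hgB')
  exact ⟨e, hB.1 he, he1, her⟩

/-- No maximal member with nontrivial `q`-core contains `piMem {r}`. -/
theorem not_qMem_le {H : Subgroup G} (hH : IsMax p A θ H) (hne : pCoreIn q H ≠ ⊥) :
    ¬ piMem ({r} : Set ℕ) A θ ≤ H := by
  intro hRH
  have S := C.toSetup
  have h2 := h.side.two
  set P := pCoreIn q H with hP
  have hPB : P ≤ centralizer (B₁ : Set G) := by
    refine le_of_hyperplanes S.elem S.ne_bot _ P (C.pCore_mem hH.1 q).2.1 (inv_pCoreIn hH.1 q)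
      fun B hB hi => ?_
    by_cases hBB : B = B₁
    · exact hBB ▸ inf_le_right
    obtain ⟨e, he, he1, her⟩ := h.other B ⟨hB, hi⟩ hBB
    obtain ⟨K, hK, hle⟩ := her.exists_qType S (hB he) he1
    rintro x ⟨hx, hxB⟩
    have hxK : x ∈ K :=
      hle (hH.1.2.2.2 e (hB he) he1 ⟨pCoreIn_le q H hx, centralizer_le_singleton he hxB⟩)
    have hxc : x ∈ centralizer (pCoreIn r K : Set G) := mem_centralizer_iff.2 fun y hy => by
      have h1 : ⁅x, y⁆ = 1 := eq_one_of_mem_of_mem h2.ne (isPGroup_pCoreIn q H)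
        (isPGroup_pCoreIn r K)
        (commutatorElement_mem_left hx (le_normalizer_pCoreIn q H (hRH (hK.core_le_qMem S hy))))
        (commutatorElement_mem_right hy (le_normalizer_pCoreIn r K hxK))
      exact (commutatorElement_eq_one_iff_mul_comm.1 h1).symm
    have hx1 : x = 1 := eq_one_of_mem_of_mem h2.ne (isPGroup_pCoreIn q H) (isPGroup_pCoreIn r K) hx
      (C.charP h2.symm hK.isMax hK.ne ⟨hxK, hxc⟩)
    rw [hx1]; exact one_mem _
  obtain ⟨f, hf, hf1⟩ := S.exists_mem_line h.line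
  have hfA := h.line.1 hf
  have hHf : H ≤ centralizer {f} := by
    refine le_centralizer_of_cores (S.pow_eq hfA) hH.1.1 hH.1.2.1 (invariant_of_mem_family hH.1 hfA)
      fun t ht htd => ?_
    rcases h2.only t (S.thetaPrime_of_dvd hH.1 ht htd) with rfl | rfl
    · exact hPB.trans (centralizer_le_singleton hf)
    · exact (C.pure_core h2 hH hne).le.trans bot_le
  obtain ⟨e, he, he1, her⟩ := C.exists_rPoint h
  obtain ⟨K, hK, -⟩ := her.exists_qType S he he1
  have hKf : K ≤ centralizer {f} := by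
    refine le_centralizer_of_cores (S.pow_eq hfA) hK.isMax.1.1 hK.isMax.1.2.1
      (invariant_of_mem_family hK.isMax.1 hfA) fun t ht htd => ?_
    rcases h2.only t (S.thetaPrime_of_dvd hK.isMax.1 ht htd) with rfl | rfl
    · exact (C.pure_core h2.symm hK.isMax hK.ne).le.trans bot_le
    · exact ((hK.core_le_qMem S).trans hRH).trans hHf
  have hKθ : θ f = K := hK.isMax.2 _ (S.theta_mem hfA hf1)
    fun x hx => hK.isMax.1.2.2.2 f hfA hf1 ⟨hx, hKf hx⟩
  exact h.free f hf hf1 ⟨K, hK.isMax, hKθ.le, hK.ne⟩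

theorem center_maxMember_le_core {R : Subgroup G} (hR : IsMaxMember p r A θ R) {K : Subgroup G}
    (hK : QType p A θ r K) : cIn R ≤ pCoreIn r K :=
  C.center_le_core h.side.two.symm hK.isMax hK.ne hR.1
    ((hK.core_le_qMem C.toSetup).trans (C.qMem_le_maxMember hR))

theorem center_le_centralizer {R : Subgroup G} (hR : IsMaxMember p r A θ R) :
    cIn R ≤ centralizer (A : Set G) := by
  have S := C.toSetup
  have hAX : A ≤ normalizer (cIn R : Set G) :=
    (invariant_of_mem_family hR.1).trans (normalizer_le_normalizer_cIn R)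
  refine le_of_hyperplanes S.elem S.ne_bot _ _ (not_dvd_card_of_le (cIn_le R) hR.1.2.1) hAX
    fun B hB hi => ?_
  obtain ⟨f, hfA, hfB⟩ := S.exists_mem_not_line ⟨hB, hi⟩
  set U := cIn R ⊓ centralizer (B : Set G) with hU
  have hUR : U ≤ R := inf_le_left.trans (cIn_le R)
  have hAU : A ≤ normalizer (U : Set G) :=
    le_normalizer_inf hAX (S.le_normalizer_centralizer' hB)
  haveI : IsMulCommutative U := Subgroup.le_centralizer_iff_isMulCommutative.1
    ((inf_le_left.trans inf_le_right).trans (Subgroup.centralizer_le (SetLike.coe_subset_coe.2 hUR)))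
  have hfU : zpowers f ≤ normalizer (U : Set G) := (zpowers_le.2 hfA).trans hAU
  have hcop : (Nat.card (zpowers f)).Coprime (Nat.card U) := by
    obtain ⟨i, hi⟩ := IsPGroup.iff_card.mp (isPGroup_zpowers_of_pow_eq_one (S.pow_eq hfA))
    rw [hi]
    exact Nat.Coprime.pow_left i
      (hp.out.coprime_iff_not_dvd.2 (not_dvd_card_of_le hUR hR.1.2.1))
  set Y := ⁅U, zpowers f⁆ with hYdef
  have hYU : Y ≤ U := Coprime.commutator_le_left' hfU
  have hYA : ∀ y ∈ Y, y ∈ centralizer (A : Set G) → y = 1 := fun y hy hyc => mem_bot.1 (by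
    rw [← Coprime.abelian_inf_eq_bot hfU hcop]
    exact ⟨⟨hYU hy, centralizer_le (zpowers_le.2 hfA) hyc⟩, hy⟩)
  have hAY : A ≤ normalizer (Y : Set G) := Coprime.le_normalizer_commutator hAU
    (le_normalizer_of_commute fun a ha b hb => S.comm ha ((zpowers_le.2 hfA) hb))
  have hYq : IsPGroup r Y := hR.2.1.to_le (hYU.trans hUR)
  have hYθ : ∀ b ∈ B, b ≠ 1 → Y ≤ θ b := fun b hb hb1 x hx => hR.1.2.2.2 b (hB hb) hb1
    ⟨hUR (hYU hx), centralizer_le_singleton hb (hYU hx).2⟩
  have hYK : ∀ K, QType p A θ r K → Y ≤ pCoreIn r K := fun K hK =>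
    (hYU.trans inf_le_left).trans (C.center_maxMember_le_core h hR hK)
  have hloc : ∀ b ∈ B, b ≠ 1 → Y ≤ pCoreIn r (θ b) := by
    intro b hb hb1
    by_cases hbr : QPoint p A θ r b
    · obtain ⟨K, hK, hle⟩ := hbr.exists_qType S (hB hb) hb1
      exact le_trans (le_inf (hYK K hK) (hYθ b hb hb1)) (le_pCoreIn inf_le_right
        ((isPGroup_pCoreIn r K).to_le inf_le_left)
        (le_normalizer_inf (hle.trans (le_normalizer_pCoreIn r K)) le_normalizer))
    obtain ⟨g, hg, hgB, hgB₁⟩ := S.exists_off_two ⟨hB, hi⟩ h.line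
    obtain ⟨B', hB', hbB', hgB'⟩ := S.exists_line (hB hb) hg
    obtain ⟨e, he, he1, her⟩ := h.other B' hB' fun h0 => hgB₁ (h0 ▸ hgB')
    have heA := hB'.1 he
    have heB : e ∉ B := fun heB => by
      have hne : B ≠ B' := fun h0 => hgB (h0.symm ▸ hgB')
      have := S.inter_le ⟨hB, hi⟩ hB' hne hb hbB' hb1 ⟨heB, he⟩
      obtain ⟨K, hK, hle, hKne⟩ := her
      exact hbr ⟨K, hK, (S.theta_eq_of_mem_zpowers (hB hb) this he1) ▸ hle, hKne⟩
    obtain ⟨K, hK, hle⟩ := her.exists_qType S heA he1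
    intro x hx
    obtain ⟨n, hn⟩ := hYq ⟨x, hx⟩
    refine mem_pCoreIn_of_layers (S.solv (hB hb) hb1) (hYθ b hb hb1 hx) (n := n)
      (by simpa using congrArg Subtype.val hn) fun t ht htr _ => ?_
    haveI := Fact.mk ht
    set L := layer r t (θ b) with hLdef
    have hYb := hYθ b hb hb1
    refine commutator_le_of_fpf htr (S.pow_eq heA) (isPGroup_pCoreIn r (θ b)) hYq
      (not_dvd_card_of_le hYb (S.not_dvd (hB hb) hb1))
      (not_dvd_card_of_le (layer_le r t _) (S.not_dvd (hB hb) hb1))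
      (fun l hl => pow_mem_of_layer hl) (hYb.trans (le_normalizer_pCoreIn r _))
      ((layer_le r t _).trans (le_normalizer_pCoreIn r _))
      (normalizer_le_normalizer_pCoreIn r _ (S.inv (hB hb) hb1 heA))
      (hYb.trans (le_normalizer_layer r t _)) (hAY heA)
      (normalizer_le_normalizer_layer r t _ (S.inv (hB hb) hb1 heA))
      (fun y hy hye w _ => ?_) (fun w hw hwe y hy => ?_) x hx
    · rw [hYA y hy (S.centralizer_line_inf ⟨hB, hi⟩ heA heB ⟨(hYU hy).2, hye⟩)]
      simp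
    · exact commutator_mem_layer htr (isPGroup_pCoreIn r K) (hYK K hK hy)
        (le_normalizer_pCoreIn r K (hle (S.bal (hB hb) hb1 heA he1 ⟨layer_le r t _ hw, hwe⟩)))
        (le_normalizer_layer r t _ (hYb hy)) hw
  have hY1 : Y = ⊥ := by
    obtain ⟨b, hb, hbB₁, hb1⟩ := S.exists_mem_inter ⟨hB, hi⟩ h.line
    obtain ⟨H, hH, hle⟩ := exists_isMax_ge (S.theta_mem (hB hb) hb1)
    have h0 : pCoreIn r H = ⊥ := by
      by_contra hne
      exact h.free b hbB₁ hb1 ⟨H, hH, hle, hne⟩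
    refine le_bot_iff.1 fun x hx => h0 ▸ ?_
    obtain ⟨n, hn⟩ := hYq ⟨x, hx⟩
    exact S.mem_pCoreIn_of_line hH.1 ⟨hB, hi⟩ (hle (hYθ b hb hb1 hx)) (n := n)
      (by simpa using congrArg Subtype.val hn) fun a ha ha1 => hloc a ha ha1 hx
  intro x hx
  refine S.centralizer_line_inf ⟨hB, hi⟩ hfA hfB ⟨hx.2, ?_⟩
  have := commutator_eq_bot_iff_le_centralizer.1 hY1 hx
  rwa [zpowers_eq_closure, centralizer_closure] at this

theorem center_le_top {R : Subgroup G} (hR : IsMaxMember p r A θ R) :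
    cIn R ≤ Cfsg.signalizerInf A θ :=
  (le_inf (cIn_le R) (C.center_le_centralizer h hR)).trans
    (C.toSetup.member_inf_centralizer_le_core hR.1)

theorem center_le_theta_core {R : Subgroup G} (hR : IsMaxMember p r A θ R) {e : G} (he : e ∈ A)
    (heB : e ∉ B₁) : cIn R ≤ pCoreIn r (θ e) := by
  have S := C.toSetup
  have he1 : e ≠ 1 := fun h0 => heB (h0 ▸ one_mem _)
  intro x hx
  obtain ⟨n, hn⟩ := hR.2.1 ⟨x, cIn_le R hx⟩
  exact S.mem_core_of_points he he1 (S.core_le he he1 (C.center_le_top h hR hx)) (n := n)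
    (by simpa using congrArg Subtype.val hn)
    (fun K hK => C.center_maxMember_le_core h hR hK hx)
    fun B hB heB' => h.other B hB fun h0 => heB (h0 ▸ heB')

theorem rMem_ne_bot : piMem ({r} : Set ℕ) A θ ≠ ⊥ := fun h0 => by
  obtain ⟨e, he, he1, her⟩ := C.exists_rPoint h
  obtain ⟨K, hK, -⟩ := her.exists_qType C.toSetup he he1
  exact hK.ne (le_bot_iff.1 ((hK.core_le_qMem C.toSetup).trans h0.le))

/-- The centre of `piMem {q}` is moved by the centre of a maximal `r`-member. -/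
theorem center_le_commutator {R : Subgroup G} (hR : IsMaxMember p r A θ R) :
    cIn (piMem ({q} : Set ℕ) A θ) ≤ ⁅cIn (piMem ({q} : Set ℕ) A θ), cIn R⁆ := by
  have S := C.toSetup
  set V := cIn (piMem ({q} : Set ℕ) A θ) with hV
  set X := cIn R with hX
  have hgV := C.center_good h.side
  have hAX : A ≤ normalizer (X : Set G) :=
    (invariant_of_mem_family hR.1).trans (normalizer_le_normalizer_cIn R)
  have hRR := C.qMem_le_maxMember hR
  have hX1 : X ≠ ⊥ := center_ne_bot hR.2.1 fun h0 =>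
    C.rMem_ne_bot h (le_bot_iff.1 (hRR.trans h0.le))
  obtain ⟨M, hM, hle⟩ :=
    exists_isMax_ge (C.norC_mem (mem_family_of_le hR.1 (cIn_le R) hAX) hX1).1
  have hRM : R ≤ M := (C.le_norC hR.1
    ((cIn_le_centralizer R).trans (Subgroup.centralizer_le_normalizer _))).trans hle
  have hM0 : pCoreIn q M = ⊥ := by
    by_contra hne
    exact C.not_qMem_le h hM hne (hRR.trans hRM)
  have hfix : V ⊓ centralizer (X : Set G) = ⊥ := by
    refine le_bot_iff.1 (le_trans (le_inf inf_le_left ?_) ((hgV.inf_le S hM.1).trans hM0.le))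
    exact (C.le_norC (mem_family_of_le hgV.mem inf_le_left
      (le_normalizer_inf hgV.inv (le_normalizer_centralizer hAX)))
      (inf_le_right.trans (Subgroup.centralizer_le_normalizer _))).trans hle
  have hXV : X ≤ normalizer (V : Set G) := ((C.center_le_top h hR).trans
    S.core_le_normalizer_piMem).trans (normalizer_le_normalizer_cIn _)
  have hcop : (Nat.card X).Coprime (Nat.card V) := by
    obtain ⟨i, hi⟩ := IsPGroup.iff_card.mp (hR.2.1.to_le (cIn_le R))
    obtain ⟨j, hj⟩ := IsPGroup.iff_card.mp hgV.isq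
    rw [hi, hj]
    exact Nat.Coprime.pow i j ((Nat.coprime_primes Fact.out Fact.out).2 h.side.two.ne.symm)
  refine (Coprime.commutator_sup_centralizer hXV hcop
    (Or.inr (Coprime.isSolvable_of_isPGroup hgV.isq))).ge.trans (sup_le le_rfl ?_)
  rw [hfix]; exact bot_le

omit h

theorem VT_inv : A ≤ normalizer (VT p A θ q : Set G) :=
  le_normalizer_iSup fun Q => (invariant_of_mem_family Q.2.1).trans (normalizer_le_normalizer_cIn _)

theorem core_le_normalizer_VT :
    Cfsg.signalizerInf A θ ≤ normalizer (VT p A θ q : Set G) := by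
  refine le_normalizer_of_conj_mem fun c hc x hx => ?_
  suffices hs : VT p A θ q ≤ (VT p A θ q).comap (MulAut.conj c).toMonoidHom from hs hx
  refine iSup_le fun Q y hy => mem_comap.2 (mem_iSup_of_mem
    (⟨_, map_conj_isMaxMember C.toSetup.func.1 Q.2 hc⟩ : {Q : Subgroup G // IsMaxMember p q A θ Q}) ?_)
  refine ⟨⟨y, hy.1, rfl⟩, mem_centralizer_iff.2 ?_⟩
  rintro _ ⟨z, hz, rfl⟩
  rw [← map_mul, ← map_mul, mem_centralizer_iff.1 hy.2 z hz]

include h

theorem VT_le : VT p A θ q ≤ cIn (piMem ({q} : Set ℕ) A θ) :=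
  iSup_le fun Q => C.center_maxMember_le h.side Q.2

/-- The lines other than the free one normalise `VT`. -/
theorem line_le_normalizer_VT {B : Subgroup G} (hB : Line p A B) (hne : B ≠ B₁) :
    Cfsg.signalizerInf B θ ≤ normalizer (VT p A θ q : Set G) := by
  have S := C.toSetup
  set L := Cfsg.signalizerInf B θ with hLdef
  obtain ⟨d, hdB, hdB₁, hd1⟩ := S.exists_mem_inter hB h.line
  have hdA := hB.1 hdB
  have hLθ : L ≤ θ d := signalizerInf_le hdB hd1
  have hL : L ∈ Cfsg.signalizerFamily p A θ :=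
    signalizerInf_mem_family S.func hB.1 fun hbot => hd1 (mem_bot.1 (hbot ▸ hdB))
  obtain ⟨f, hfB₁, hfd⟩ := S.exists_mem_not_zpowers h.line hdB₁
  have hfA := h.line.1 hfB₁
  have hf1 : f ≠ 1 := fun h0 => hfd (h0 ▸ one_mem _)
  have hfB : f ∉ B := fun hfB => hfd (S.inter_le hB h.line hne hdB hdB₁ hd1 ⟨hfB, hfB₁⟩)
  set F := zpowers f with hF
  have hFA : F ≤ A := zpowers_le.2 hfA
  have hFc : centralizer (F : Set G) = centralizer {f} := by
    rw [hF, zpowers_eq_closure, centralizer_closure]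
  -- an invariant Sylow subgroup for the other prime
  obtain ⟨Rs, hRs, hARs⟩ := exists_invariant_sylow (q := r) S.isPGroup L hL.2.1
    (invariant_of_mem_family hL)
  obtain ⟨R, hR, hRsR⟩ := exists_max_member_ge (q := r) (mem_family_of_le hL hRs.1 hARs) hRs.2.1
  set X := cIn R with hX
  have hXT := C.center_le_top h hR
  have hXA := C.center_le_centralizer h hR
  have hAXc : A ≤ centralizer (X : Set G) := le_centralizer_iff.1 hXA
  -- the core at `d`
  set O := pCoreIn q (θ d) with hO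
  have hθO : θ d ≤ normalizer (O : Set G) := le_normalizer_pCoreIn q _
  have hVO : cIn (piMem ({q} : Set ℕ) A θ) ≤ O := fun x hx => (C.center_good h.side).loc d hdA hd1
    ⟨hx, centralizer_le_singleton hdB₁ (h.le (C.center_le_Dcap h.side hx))⟩
  have hOF : ⁅O, F⁆ ≤ centralizer (X : Set G) := by
    obtain ⟨g, hg, hgB₁⟩ := S.exists_mem_not_line h.line
    obtain ⟨B', hB', hfB', hgB'⟩ := S.exists_line hfA hg
    have hne' : B' ≠ B₁ := fun h0 => hgB₁ (h0 ▸ hgB')
    refine commutator_mem_of_parts (elemAb_of_le S.elem hB'.1) (S.line_card hB').ge hfB'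
      (le_normalizer (hAXc hfA)) O (Coprime.isSolvable_of_le (pCoreIn_le q _) (S.solv hdA hd1))
      (not_dvd_card_of_le (pCoreIn_le q _) (S.not_dvd hdA hd1))
      ((hB'.1.trans (S.inv hdA hd1)).trans (normalizer_le_normalizer_pCoreIn q _))
      fun b hb hbf => ?_
    have hb1 : b ≠ 1 := fun h0 => hbf (h0 ▸ one_mem _)
    have hbB₁ : b ∉ B₁ := fun hbB₁ =>
      hbf (S.inter_le hB' h.line hne' hfB' hfB₁ hf1 ⟨hb, hbB₁⟩)
    have hparts : O ⊓ centralizer {b} ≤ centralizer (X : Set G) := by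
      rintro v ⟨hv, hvb⟩
      refine mem_centralizer_iff.2 fun x hx => ?_
      have h1 : ⁅v, x⁆ = 1 := eq_one_of_mem_of_mem h.side.two.ne
        (isPGroup_pCoreIn q (θ d)) (isPGroup_pCoreIn r (θ b))
        (commutatorElement_mem_left hv (hθO (S.core_le hdA hd1 (hXT hx))))
        (commutatorElement_mem_right (C.center_le_theta_core h hR (hB'.1 hb) hbB₁ hx)
          (le_normalizer_pCoreIn r _ (S.bal hdA hd1 (hB'.1 hb) hb1 ⟨pCoreIn_le q _ hv, hvb⟩)))
      exact (commutatorElement_eq_one_iff_mul_comm.1 h1).symm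
    refine Subgroup.commutator_le.2 fun v hv g' hg' => ?_
    exact commutatorElement_mem_left (hparts hv) (le_normalizer ((hFA.trans hAXc) hg'))
  set W := ⁅O, X⁆ with hW
  have hWF : W ≤ centralizer (F : Set G) := by
    rw [← commutator_eq_bot_iff_le_centralizer]
    refine commutator_commutator_eq_bot_of_rotate ?_ ?_
    · rw [commutator_eq_bot_iff_le_centralizer.2
        (hXA.trans (Subgroup.centralizer_le (SetLike.coe_subset_coe.2 hFA))), commutator_bot_left]
    · rw [commutator_comm F O, commutator_eq_bot_iff_le_centralizer]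
      exact hOF
  have hVW : cIn (piMem ({q} : Set ℕ) A θ) ≤ W :=
    (C.center_le_commutator h hR).trans (Subgroup.commutator_mono hVO le_rfl)
  have hRsW : Rs ≤ normalizer (W : Set G) := Coprime.le_normalizer_commutator
    ((hRs.1.trans hLθ).trans hθO) ((hRsR.trans (cIn_le_centralizer R)).trans
      (Subgroup.centralizer_le_normalizer _))
  have hRsF : ⁅Rs, F⁆ ≤ centralizer (W : Set G) := by
    rw [← commutator_eq_bot_iff_le_centralizer]
    refine commutator_commutator_eq_bot_of_rotate ?_ ?_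
    · rw [commutator_eq_bot_iff_le_centralizer.2 (le_centralizer_iff.1 hWF), commutator_bot_left]
    · rw [commutator_eq_bot_iff_le_centralizer]
      exact (Subgroup.le_normalizer_iff_commutator_le_left.1 hRsW).trans hWF
  have hcopF : ∀ {K : Subgroup G}, ¬ p ∣ Nat.card K → (Nat.card F).Coprime (Nat.card K) :=
    fun {K} hK => by
      obtain ⟨i, hi⟩ := IsPGroup.iff_card.mp (isPGroup_zpowers_of_pow_eq_one (S.pow_eq hfA))
      rw [hF, hi]
      exact Nat.Coprime.pow_left i (hp.out.coprime_iff_not_dvd.2 hK)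
  have hmov : ⁅L, F⁆ ≤ centralizer (VT p A θ q : Set G) := by
    rw [le_centralizer_iff]
    refine iSup_le fun Q => ?_
    rw [le_centralizer_iff]
    have hSz := sylow_inf_centralizer_of_max_member S.elem S.card_ge S.func Q.2 hB.1
      fun hbot => hd1 (mem_bot.1 (hbot ▸ hdB))
    set Z := cIn Q.1 with hZ
    have hAZ : A ≤ normalizer (centralizer (Z : Set G) : Set G) := le_normalizer_centralizer
      ((invariant_of_mem_family Q.2.1).trans (normalizer_le_normalizer_cIn _))
    have hcW : centralizer (W : Set G) ≤ centralizer (Z : Set G) := Subgroup.centralizer_le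
      (SetLike.coe_subset_coe.2 ((C.center_maxMember_le h.side Q.2).trans hVW))
    rw [Subgroup.commutator_le]
    intro l hl g hg
    obtain ⟨s, hs, ρ, hρ, hlsρ⟩ := Solvable.exists_mul_of_coprime_index
      (H := Rs.subgroupOf L) (K := (Q.1 ⊓ centralizer (B : Set G)).subgroupOf L)
      (Nat.coprime_of_dvd fun k hk hk1 hk2 => by
        rcases h.side.two.only k (S.thetaPrime_of_dvd hL hk
          (hk1.trans (Subgroup.index_dvd_card _))) with rfl | rfl
        · exact hSz.2.2 hk2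
        · exact hRs.2.2 hk1) (⟨l, hl⟩ : L)
    have hρ' : (ρ : G) ∈ ((⁅Rs, F⁆ : Subgroup G) : Set G) *
        ((Rs ⊓ centralizer (F : Set G) : Subgroup G) : Set G) := by
      rw [← coe_mul_of_right_le_normalizer_left _ _
        (inf_le_left.trans (Subgroup.normalizer_commutator_ge_left Rs F))]
      exact (Coprime.commutator_sup_centralizer (hFA.trans hARs)
        (hcopF (not_dvd_card_of_le hRs.1 hL.2.1))
        (Or.inr (Coprime.isSolvable_of_isPGroup hRs.2.1))).ge hρ
    obtain ⟨c, hc, t, ht, hct⟩ := hρ'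
    have hl' : l = ((s : G) * c) * t := by
      rw [mul_assoc, show c * t = (ρ : G) from hct]
      exact congrArg Subtype.val hlsρ
    have htg : t * g = g * t := (mem_centralizer_iff.1 ht.2 g hg).symm
    have he : ⁅l, g⁆ = ⁅(s : G) * c, g⁆ := by
      rw [hl']
      simp only [commutatorElement_def, mul_inv_rev]
      calc (s : G) * c * t * g * (t⁻¹ * (c⁻¹ * (s : G)⁻¹)) * g⁻¹
          = (s : G) * c * (t * g) * t⁻¹ * c⁻¹ * (s : G)⁻¹ * g⁻¹ := by group
        _ = (s : G) * c * (g * t) * t⁻¹ * c⁻¹ * (s : G)⁻¹ * g⁻¹ := by rw [htg]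
        _ = _ := by group
    rw [he]
    exact commutatorElement_mem_left
      (mul_mem (cIn_le_centralizer Q.1 (mem_subgroupOf.1 hs).1) (hcW (hRsF hc)))
      (hAZ (hFA hg))
  refine (Coprime.commutator_sup_centralizer (hFA.trans (invariant_of_mem_family hL))
    (hcopF hL.2.1) (Or.inr hL.1)).ge.trans
      (sup_le (hmov.trans (Subgroup.centralizer_le_normalizer _)) ?_)
  refine le_trans (fun x hx => ?_) C.core_le_normalizer_VT
  exact S.member_inf_centralizer_le_core hL ⟨hx.1, S.centralizer_line_inf hB hfA hfB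
    ⟨signalizerInf_le_centralizer S.func.1 hB.1 hx.1, hFc ▸ hx.2⟩⟩

theorem false_of_exc : False := by
  have S := C.toSetup
  obtain ⟨h₀, hh, hh1⟩ := S.exists_mem_line h.line
  obtain ⟨Q, hQ, hle⟩ := exists_max_member_ge (q := q) (C.qMem q).1 (C.qMem q).2
  have hV1 : VT p A θ q ≠ ⊥ := fun h0 => center_ne_bot hQ.2.1
    (fun h1 => C.qMem_ne_bot h.side (le_bot_iff.1 (hle.trans h1.le)))
    (le_bot_iff.1 ((le_iSup (fun Q : {Q : Subgroup G // IsMaxMember p q A θ Q} => cIn Q.1)
      ⟨Q, hQ⟩).trans h0.le))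
  have hVm := mem_family_of_le (C.center_good h.side).mem (C.VT_le h) C.VT_inv
  refine C.false_of_lines_avoiding (C.norC_mem hVm hV1).1 (h.line.1 hh) hh1 fun B hB hhB => ?_
  refine C.le_norC (signalizerInf_mem_family S.func hB.1 fun hbot => ?_)
    (C.line_le_normalizer_VT h hB fun h0 => hhB (h0 ▸ hh))
  obtain ⟨x, hx, hx1⟩ := S.exists_mem_line hB
  exact hx1 (mem_bot.1 (hbot ▸ hx))

end Exc

/-- Two primes are impossible. -/
theorem false_of_twoPrimes (h2 : TwoPrimes A θ q r) : False := by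
  by_cases hq : NoFree p A θ q
  · by_cases hr : NoFree p A θ r
    · exact C.false_of_both (⟨h2, hq⟩ : Side p A θ q r) (⟨h2.symm, hr⟩ : Side p A θ r q)
    · obtain ⟨B₁, hB₁⟩ := C.exists_exc (⟨h2, hq⟩ : Side p A θ q r) hr
      exact C.false_of_exc hB₁
  · obtain ⟨B₁, hB₁⟩ :=
      C.exists_exc (⟨h2.symm, (C.noFree_or h2).resolve_left hq⟩ : Side p A θ r q) hq
    exact C.false_of_exc hB₁

end Counter

end Cfsg.Agent.Signalizer.SSFT
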